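import Cfsg.Agent.Lib.SubnBlock.Section

set_option autoImplicit false

/-!
First consequences of the block properties.
-/

namespace Cfsg.Agent.Lib.SubnBlock

open Cfsg
open scoped commutatorElement

universe u
variable {G : Type u} [Group G] {p : ℕ}

/-- Elements normalising both terms and acting trivially on the section. -/
def trivGrp (U U₀ : Subgroup G) : Subgroup G where
  carrier := {g | g ∈ Subgroup.normalizer (U : Set G) ⊓ Subgroup.normalizer (U₀ : Set G) ∧ Triv g U U₀}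
  one_mem' := ⟨one_mem _, fun u _ => by simp [one_mem]⟩
  mul_mem' := fun {a b} ⟨ha, ha'⟩ ⟨hb, hb'⟩ => ⟨mul_mem ha hb, fun u hu => by
    have h1 : b * u * b⁻¹ ∈ U := (Subgroup.mem_normalizer_iff.mp hb.1 u).mp hu
    rw [show a * b * u * (a * b)⁻¹ * u⁻¹ = (a * (b * u * b⁻¹) * a⁻¹ * (b * u * b⁻¹)⁻¹) * (b * u * b⁻¹ * u⁻¹) by group]
    exact mul_mem (ha' _ h1) (hb' u hu)⟩
  inv_mem' := fun {a} ⟨ha, ha'⟩ => ⟨inv_mem ha, fun u hu => by
    have h1 : a⁻¹ * u * a⁻¹⁻¹ ∈ U := (Subgroup.mem_normalizer_iff.mp (inv_mem ha.1) u).mp hu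
    have := inv_mem (ha' _ h1)
    rwa [show (a * (a⁻¹ * u * a⁻¹⁻¹) * a⁻¹ * (a⁻¹ * u * a⁻¹⁻¹)⁻¹)⁻¹ = a⁻¹ * u * a⁻¹⁻¹ * u⁻¹ by group] at this⟩

theorem mem_trivGrp {U U₀ : Subgroup G} {g : G} :
    g ∈ trivGrp U U₀ ↔ g ∈ Subgroup.normalizer (U : Set G) ⊓ Subgroup.normalizer (U₀ : Set G) ∧ Triv g U U₀ :=
  Iff.rfl

theorem trivGrp_conj {U U₀ : Subgroup G} {g x : G}
    (hg : g ∈ Subgroup.normalizer (U : Set G) ⊓ Subgroup.normalizer (U₀ : Set G)) (hx : x ∈ trivGrp U U₀) :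
    g * x * g⁻¹ ∈ trivGrp U U₀ := by
  refine ⟨mul_mem (mul_mem hg hx.1) (inv_mem hg), fun u hu => ?_⟩
  have h1 : g⁻¹ * u * g ∈ U := (Subgroup.mem_normalizer_iff''.mp hg.1 u).mp hu
  rw [show g * x * g⁻¹ * u * (g * x * g⁻¹)⁻¹ * u⁻¹ = g * (x * (g⁻¹ * u * g) * x⁻¹ * (g⁻¹ * u * g)⁻¹) * g⁻¹ by group]
  exact (Subgroup.mem_normalizer_iff.mp hg.2 _).mp (hx.2 _ h1)

/-- Triviality passes from a covering subgroup to the whole section. -/
theorem triv_of_cover {U W Z : Subgroup G} (hW : ∀ a ∈ W, ∀ b ∈ W, a * b = b * a) (hUW : U ≤ W) (hZW : Z ≤ W)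
    (hc : W ≤ U ⊔ Z) {g : G} (hgW : g ∈ Subgroup.normalizer (W : Set G))
    (hgZ : g ∈ Subgroup.normalizer (Z : Set G)) (h : Triv g U Z) : Triv g W Z := by
  let Y : Subgroup G :=
    { carrier := {w | w ∈ W ∧ g * w * g⁻¹ * w⁻¹ ∈ Z}
      one_mem' := ⟨one_mem W, by simp [one_mem]⟩
      mul_mem' := fun {a b} ⟨ha, ha'⟩ ⟨hb, hb'⟩ => ⟨mul_mem ha hb, by
        have h1 : g * b * g⁻¹ * b⁻¹ ∈ W := mul_mem ((Subgroup.mem_normalizer_iff.mp hgW b).mp hb) (inv_mem hb)
        rw [show g * (a * b) * g⁻¹ * (a * b)⁻¹ = (g * a * g⁻¹) * (g * b * g⁻¹ * b⁻¹) * a⁻¹ by group,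
          hW _ ((Subgroup.mem_normalizer_iff.mp hgW a).mp ha) _ h1, mul_assoc]
        exact mul_mem hb' ha'⟩
      inv_mem' := fun {a} ⟨ha, ha'⟩ => ⟨inv_mem ha, by
        rw [show g * a⁻¹ * g⁻¹ * a⁻¹⁻¹ = (g * a * g⁻¹)⁻¹ * a by group,
          hW _ (inv_mem ((Subgroup.mem_normalizer_iff.mp hgW a).mp ha)) _ ha,
          show a * (g * a * g⁻¹)⁻¹ = (g * a * g⁻¹ * a⁻¹)⁻¹ by group]
        exact inv_mem ha'⟩ }
  have hY : U ⊔ Z ≤ Y := sup_le (fun u hu => ⟨hUW hu, h u hu⟩) fun z hz =>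
    ⟨hZW hz, mul_mem ((Subgroup.mem_normalizer_iff.mp hgZ z).mp hz) (inv_mem hz)⟩
  exact fun w hw => (hY (hc hw)).2

theorem Q_isPGroup (E : Subgroup G) : IsPGroup p ↥(pCoreOf p E) := LocalEven2.pCoreOf_isPGroup E

theorem nQ (E : Subgroup G) : Subgroup.normalizer (E : Set G) ≤ Subgroup.normalizer (pCoreOf p E : Set G) := by
  rw [LocalEven.le_normalizer_iff_forall]
  intro g hg
  rw [LocalEven.conjS_pCoreOf, LocalEven.conjS_eq_self_iff.2 hg]

theorem nW [Finite G] (E : Subgroup G) : Subgroup.normalizer (E : Set G) ≤ Subgroup.normalizer (WOf p E : Set G) :=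
  (nQ E).trans LocalEven2.Baumann.omegaOneCenter_normalizer

theorem nZ [Finite G] (E : Subgroup G) : Subgroup.normalizer (E : Set G) ≤ Subgroup.normalizer (ZOf p E : Set G) := by
  refine le_normalizer_of_conj fun g hg z hz => ⟨(Subgroup.mem_normalizer_iff.mp (nW E hg) z).mp hz.1, ?_⟩
  show g * z * g⁻¹ ∈ Subgroup.centralizer (E : Set G)
  rw [Subgroup.mem_centralizer_iff]
  intro e he
  have h1 : g⁻¹ * e * g ∈ E := (Subgroup.mem_normalizer_iff''.mp hg e).mp he
  have h2 := Subgroup.mem_centralizer_iff.mp hz.2 _ h1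
  calc e * (g * z * g⁻¹) = g * ((g⁻¹ * e * g) * z) * g⁻¹ := by group
    _ = g * (z * (g⁻¹ * e * g)) * g⁻¹ := by rw [h2]
    _ = g * z * g⁻¹ * e := by group

theorem nWZ [Finite G] (E : Subgroup G) : Subgroup.normalizer (E : Set G) ≤
    Subgroup.normalizer (WOf p E : Set G) ⊓ Subgroup.normalizer (ZOf p E : Set G) := le_inf (nW E) (nZ E)

theorem le_normalizer_inf' [Finite G] {K A B : Subgroup G} (hA : K ≤ Subgroup.normalizer (A : Set G))
    (hB : K ≤ Subgroup.normalizer (B : Set G)) :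
    K ≤ Subgroup.normalizer ((A ⊓ B : Subgroup G) : Set G) :=
  le_normalizer_of_conj fun k hk x hx =>
    ⟨(Subgroup.mem_normalizer_iff.mp (hA hk) x).mp hx.1, (Subgroup.mem_normalizer_iff.mp (hB hk) x).mp hx.2⟩

theorem W_abel {E : Subgroup G} {a b : G} (ha : a ∈ WOf p E) (hb : b ∈ WOf p E) : a * b = b * a :=
  WOf_comm E hb (WOf_le E ha)

theorem Z_cent {E : Subgroup G} {z e : G} (hz : z ∈ ZOf p E) (he : e ∈ E) : e * z = z * e :=
  Subgroup.mem_centralizer_iff.mp hz.2 e he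

theorem W_le_normalizer_Z [Finite G] (E : Subgroup G) : WOf p E ≤ Subgroup.normalizer (ZOf p E : Set G) :=
  le_normalizer_of_conj fun a ha z hz => by
    rw [W_abel ha hz.1, mul_inv_cancel_right]; exact hz

theorem W_comm_mem [Finite G] (E : Subgroup G) :
    ∀ a ∈ WOf p E, ∀ b ∈ WOf p E, a * b * a⁻¹ * b⁻¹ ∈ ZOf p E := fun a ha b hb => by
  rw [W_abel ha hb]; simp [one_mem]

variable [Finite G] [hp : Fact p.Prime] {E F : Subgroup G}

theorem Blk.W_le_R (hE : Blk p E) : WOf p E ≤ pCore p G := (WOf_le E).trans (hE.qeq.le.trans inf_le_right)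

theorem Blk.Q_le_R (hE : Blk p E) : pCoreOf p E ≤ pCore p G := hE.qeq.le.trans inf_le_right

theorem Blk.memQ (hE : Blk p E) {x : G} (hx : x ∈ E) (hR : x ∈ pCore p G) : x ∈ pCoreOf p E :=
  hE.qeq.ge ⟨hx, hR⟩

theorem R_pgroup : IsPGroup p ↥(pCore p G) := LocalEven2.pCore_isPGroup p G

theorem R_normal : ∀ K : Subgroup G, K ≤ Subgroup.normalizer (pCore p G : Set G) := fun K => by
  have := LocalEven2.pCore_normal p G
  rw [Subgroup.normalizer_eq_top_iff.mpr this]; exact le_top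

theorem conj_R {g x : G} (hx : x ∈ pCore p G) : g * x * g⁻¹ ∈ pCore p G :=
  (LocalEven2.pCore_normal p G).conj_mem x hx g

theorem Blk.R_triv (hE : Blk p E) {x : G} (hx : x ∈ pCore p G) : x ∈ trivGrp (WOf p E) (ZOf p E) :=
  ⟨nWZ E (hE.rn hx), pgroup_triv inf_le_left (W_le_normalizer_Z E) R_pgroup
    ((Q_isPGroup E).to_le (WOf_le E)) (Subgroup.le_normalizer.trans (nWZ E)) (hE.rn.trans (nWZ E))
    (R_normal E) hE.irr hE.wne hx⟩

theorem Blk.mem_R_of_triv (hE : Blk p E) {e : G} (he : e ∈ E) (h : Triv e (WOf p E) (ZOf p E)) :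
    e ∈ pCore p G := by
  obtain ⟨H, _, ρ, -, h1, h2, -⟩ := hE.top
  exact (h1 ⟨e, he⟩).mp ((h2 ⟨e, he⟩).mpr h)

theorem Blk.le_centralizer_of_coprime (hF : Blk p F) {A : Subgroup G}
    (h : ∀ f ∈ F, Nat.Coprime (orderOf f) p → A ≤ Subgroup.centralizer ({f} : Set G)) :
    F ≤ Subgroup.centralizer (A : Set G) :=
  hF.res.ge.trans (LocalEven.pResOf_le_centralizer h)

theorem Blk.le_of_le_sup (hF : Blk p F) {E' : Subgroup G} (hE' : LocalEven.pResOf p E' = E')
    (h : E' ≤ pCore p G ⊔ F) : E' ≤ F :=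
  hE'.ge.trans ((LocalEven.pResOf_mono h).trans hF.ress)

theorem commute_of_fixed {x a : G} (hx : Nat.Coprime (orderOf x) p) (hR : x * a * x⁻¹ * a⁻¹ ∈ pCore p G)
    (hc : x * (x * a * x⁻¹ * a⁻¹) = (x * a * x⁻¹ * a⁻¹) * x) : Commute x a :=
  LocalEven.commute_mem_of_coprime_stab R_pgroup hx hR (Subgroup.mem_centralizer_singleton_iff.mpr hc.symm)

theorem Blk.abel_le_W (hE : Blk p E) {A : Subgroup G} (hA : A ≤ pCoreOf p E)
    (hEA : E ≤ Subgroup.normalizer (A : Set G)) (hab : ∀ a ∈ A, ∀ b ∈ A, a * b = b * a) : A ≤ WOf p E := by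
  rcases hE.kind with hk | ⟨-, hirr, -, -, -, hne, -⟩
  · exact hA.trans hk.le
  have hEY : E ≤ Subgroup.normalizer ((A ⊔ WOf p E : Subgroup G) : Set G) :=
    (le_inf hEA (Subgroup.le_normalizer.trans (nW E))).trans (Subgroup.normalizer_inf_normalizer_le_normalizer_sup ..)
  rcases hirr _ (sup_le hA (WOf_le E)) hEY with h | h
  · exact le_sup_left.trans h
  · exfalso
    refine hne (Subgroup.commutator_eq_bot_iff_le_centralizer.mpr ?_)
    have hle : pCoreOf p E ≤ A ⊔ WOf p E := h.trans (sup_le le_rfl le_sup_right)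
    have h2 : A ⊔ WOf p E ≤ Subgroup.centralizer ((A ⊔ WOf p E : Subgroup G) : Set G) := by
      have h3 : A ⊔ WOf p E ≤ Subgroup.centralizer (A : Set G) :=
        sup_le (fun a ha => Subgroup.mem_centralizer_iff.mpr fun b hb => hab b hb a ha)
          (fun w hw => Subgroup.mem_centralizer_iff.mpr fun b hb => WOf_comm E hw (hA hb))
      have h4 : A ⊔ WOf p E ≤ Subgroup.centralizer (WOf p E : Set G) :=
        sup_le (fun a ha => Subgroup.mem_centralizer_iff.mpr fun b hb => (WOf_comm E hb (hA ha)).symm)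
          (fun w hw => Subgroup.mem_centralizer_iff.mpr fun b hb => W_abel hb hw)
      exact Subgroup.le_centralizer_iff.mp
        (sup_le (Subgroup.le_centralizer_iff.mp h3) (Subgroup.le_centralizer_iff.mp h4))
    exact hle.trans (h2.trans (Subgroup.centralizer_le hle))

theorem commutator_le_left {A B : Subgroup G} (h : B ≤ Subgroup.normalizer (A : Set G)) : ⁅A, B⁆ ≤ A :=
  Subgroup.commutator_le.mpr fun a ha b hb => by
    rw [commutatorElement_def, mul_assoc, mul_assoc, ← mul_assoc b]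
    exact mul_mem ha ((Subgroup.mem_normalizer_iff.mp (h hb) a⁻¹).mp (inv_mem ha))

/-- The module of `E` is moved by `F`. -/
def Moves (p : ℕ) (F E : Subgroup G) : Prop := ¬ ∀ f ∈ F, Triv f (WOf p E) (ZOf p E)

variable (hE : Blk p E) (hF : Blk p F) (hEF : E ≤ Subgroup.normalizer (F : Set G))
  (hFE : F ≤ Subgroup.normalizer (E : Set G))

include hE hF hEF hFE

theorem moves_cover (h : Moves p F E) :
    WOf p E ≤ (WOf p E ⊓ WOf p F) ⊔ ZOf p E ∧ ¬ WOf p E ⊓ WOf p F ≤ ZOf p F := by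
  have hFW : F ≤ Subgroup.normalizer (WOf p E : Set G) := hFE.trans (nW E)
  have hX1 : ⁅WOf p E, F⁆ ≤ WOf p E := commutator_le_left hFW
  have hX2 : ⁅WOf p E, F⁆ ≤ pCoreOf p F := by
    intro x hx
    refine hF.memQ ?_ (hE.W_le_R (hX1 hx))
    have : ⁅F, WOf p E⁆ ≤ F := commutator_le_left (hE.W_le_R.trans hF.rn)
    exact this (by rwa [Subgroup.commutator_comm])
  have hX3 : ⁅WOf p E, F⁆ ≤ WOf p F := hF.abel_le_W hX2
    (LocalEven2.Baumann.le_normalizer_commutator hFW Subgroup.le_normalizer)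
    (fun a ha b hb => W_abel (hX1 ha) (hX1 hb))
  have hXU : ⁅WOf p E, F⁆ ≤ WOf p E ⊓ WOf p F := le_inf hX1 hX3
  have hmem : ∀ f ∈ F, ∀ w ∈ WOf p E, f * w * f⁻¹ * w⁻¹ ∈ ⁅WOf p E, F⁆ := fun f hf w hw => by
    rw [Subgroup.commutator_comm]; exact Subgroup.commutator_mem_commutator hf hw
  constructor
  · rcases hE.irr (WOf p E ⊓ WOf p F) inf_le_left (le_normalizer_inf' (Subgroup.le_normalizer.trans (nW E)) (hEF.trans (nW F))) with h1 | h1
    · exact absurd (fun f hf w hw => (h1 (hXU (hmem f hf w hw)))) h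
    · exact h1
  · intro hUZ
    apply h
    intro f hf w hw
    have hFC : F ≤ Subgroup.centralizer (WOf p E : Set G) := hF.le_centralizer_of_coprime fun g hg hgc a ha => by
      rw [Subgroup.mem_centralizer_singleton_iff]
      have hm := hUZ (hXU (hmem g hg a ha))
      exact (commute_of_fixed hgc (hE.W_le_R (hX1 (hmem g hg a ha))) (Z_cent hm hg)).eq.symm
    rw [← Subgroup.mem_centralizer_iff.mp (hFC hf) w hw]
    simp [one_mem]

theorem moves_symm (h : Moves p F E) : Moves p E F := by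
  intro hT
  obtain ⟨hcov, -⟩ := moves_cover hE hF hEF hFE h
  apply h
  intro f hf
  have hY1 : ⁅WOf p E ⊓ WOf p F, E⁆ ≤ ZOf p F := Subgroup.commutator_le.mpr fun u hu e he => by
    have := inv_mem (hT e he u hu.2)
    rwa [show (e * u * e⁻¹ * u⁻¹)⁻¹ = ⁅u, e⁆ by rw [commutatorElement_def]; group] at this
  set Y := ⁅WOf p E ⊓ WOf p F, E⁆ with hY
  have hUn : E ≤ Subgroup.normalizer ((WOf p E ⊓ WOf p F : Subgroup G) : Set G) :=
    le_normalizer_inf' (Subgroup.le_normalizer.trans (nW E)) (hEF.trans (nW F))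
  have hYW : Y ≤ WOf p E := (commutator_le_left hUn).trans inf_le_left
  have hcov2 : WOf p E ≤ Y ⊔ ZOf p E := by
    rcases hE.irr Y hYW (LocalEven2.Baumann.le_normalizer_commutator hUn Subgroup.le_normalizer) with h1 | h1
    · exfalso
      apply hE.wne
      have hEU : E ≤ Subgroup.centralizer ((WOf p E ⊓ WOf p F : Subgroup G) : Set G) :=
        hE.le_centralizer_of_coprime fun g hg hgc a ha => by
          rw [Subgroup.mem_centralizer_singleton_iff]
          have hm : g * a * g⁻¹ * a⁻¹ ∈ Y := by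
            rw [hY, Subgroup.commutator_comm]; exact Subgroup.commutator_mem_commutator hg ha
          exact (commute_of_fixed hgc (hE.W_le_R (hYW hm)) (Z_cent (h1 hm) hg)).eq.symm
      exact hcov.trans (sup_le (le_inf inf_le_left (Subgroup.le_centralizer_iff.mp hEU)) le_rfl)
    · exact h1
  refine triv_of_cover (fun a ha b hb => W_abel ha hb) hYW inf_le_left hcov2 (nW E (hFE hf)) (nZ E (hFE hf)) ?_
  intro y hy
  rw [Z_cent (hY1 hy) hf]
  simp [one_mem]

theorem inf_Z_eq (h : Moves p F E) :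
    WOf p E ⊓ WOf p F ⊓ ZOf p E = WOf p E ⊓ WOf p F ⊓ ZOf p F := by
  have key : ∀ {E F : Subgroup G}, Blk p E → Blk p F → E ≤ Subgroup.normalizer (F : Set G) →
      F ≤ Subgroup.normalizer (E : Set G) → Moves p E F →
      WOf p E ⊓ WOf p F ⊓ ZOf p E ≤ ZOf p F := by
    intro E F hE hF hEF hFE hm
    rcases hF.irr (WOf p E ⊓ WOf p F ⊓ ZOf p E) (inf_le_left.trans inf_le_right)
      (le_normalizer_inf' (le_normalizer_inf' (hFE.trans (nW E)) (Subgroup.le_normalizer.trans (nW F))) (hFE.trans (nZ E))) with h1 | h1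
    · exact h1
    · exfalso
      apply hm
      intro e he
      refine triv_of_cover (fun a ha b hb => W_abel ha hb) (inf_le_left.trans inf_le_right) inf_le_left h1
        (nW F (hEF he)) (nZ F (hEF he)) ?_
      intro y hy
      rw [Z_cent hy.2 he]
      simp [one_mem]
  have h' := moves_symm hE hF hEF hFE h
  apply le_antisymm
  · exact le_inf inf_le_left (key hE hF hEF hFE h')
  · refine le_inf inf_le_left ?_
    have := key hF hE hFE hEF h
    rwa [inf_comm (WOf p F) (WOf p E)] at this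

theorem centralizes_Z (h : Moves p F E) : F ≤ Subgroup.centralizer (ZOf p E : Set G) := by
  have hFZ : F ≤ Subgroup.normalizer (ZOf p E : Set G) := hFE.trans (nZ E)
  have h' := moves_symm hE hF hEF hFE h
  set Y := ⁅ZOf p E, F⁆ with hY
  have hY1 : Y ≤ ZOf p E := commutator_le_left hFZ
  have hY2 : Y ≤ pCoreOf p F := by
    intro x hx
    refine hF.memQ ?_ (hE.W_le_R (hY1 hx).1)
    have : ⁅F, ZOf p E⁆ ≤ F := commutator_le_left ((inf_le_left.trans hE.W_le_R).trans hF.rn)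
    exact this (by rwa [hY, Subgroup.commutator_comm] at hx)
  have hYn : F ≤ Subgroup.normalizer (Y : Set G) :=
    LocalEven2.Baumann.le_normalizer_commutator hFZ Subgroup.le_normalizer
  have hY3 : Y ≤ WOf p F := hF.abel_le_W hY2 hYn (fun a ha b hb => W_abel (hY1 ha).1 (hY1 hb).1)
  have hY4 : Y ≤ ZOf p F := by
    rcases hF.irr Y hY3 hYn with h1 | h1
    · exact h1
    · exfalso
      apply h'
      intro e he
      refine triv_of_cover (fun a ha b hb => W_abel ha hb) hY3 inf_le_left h1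
        (nW F (hEF he)) (nZ F (hEF he)) ?_
      intro y hy
      rw [Z_cent (hY1 hy) he]
      simp [one_mem]
  refine hF.le_centralizer_of_coprime fun g hg hgc a ha => ?_
  rw [Subgroup.mem_centralizer_singleton_iff]
  have hm : g * a * g⁻¹ * a⁻¹ ∈ Y := by
    rw [hY, Subgroup.commutator_comm]; exact Subgroup.commutator_mem_commutator hg ha
  exact (commute_of_fixed hgc (hE.W_le_R (hY1 hm).1) (Z_cent (hY4 hm) hg)).eq.symm

end Cfsg.Agent.Lib.SubnBlock
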