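import Cfsg.Agent.Lib.SubnBlock.Basic

set_option autoImplicit false

/-!
Two mutually normalising blocks: the case where neither moves the module of the other, and perfect tops.
-/

namespace Cfsg.Agent.Lib.SubnBlock

open Cfsg
open scoped commutatorElement

universe u
variable {G : Type u} [Group G] {p : ℕ} [Finite G] [hp : Fact p.Prime] {E F : Subgroup G}

theorem not_quasi_of_nilpotent {H : Type*} [Group H] [Group.IsNilpotent H] : ¬ QuasiS H := by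
  rintro ⟨hc, hne, -⟩
  have : Nontrivial H := by
    by_contra h
    rw [not_nontrivial_iff_subsingleton] at h
    exact hne (Subsingleton.elim _ _)
  exact (IsSolvable.commutator_lt_top_of_nontrivial H).ne hc

theorem Blk.comm_mod_of_quasi (hE : Blk p E) (hEF : E ≤ Subgroup.normalizer (F : Set G))
    (hFE : F ≤ Subgroup.normalizer (E : Set G))
    (hQ : ∃ (H : Type) (_ : Group H) (ρ : ↥E →* H), Function.Surjective ρ ∧
      (∀ e : ↥E, ρ e = 1 ↔ (e : G) ∈ pCore p G) ∧ QuasiS H) :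
    (∀ e ∈ E, ∀ f ∈ F, e * f * e⁻¹ * f⁻¹ ∈ pCore p G) ∨ E ≤ pCore p G ⊔ F := by
  obtain ⟨H, _, ρ, hsurj, hker, hperf, -, hN⟩ := hQ
  let N : Subgroup ↥E := F.subgroupOf E
  have hNn : N.Normal := Subgroup.normal_subgroupOf_of_le_normalizer hEF
  rcases hN (N.map ρ) (hNn.map ρ hsurj) with ht | hc
  · right
    intro e he
    obtain ⟨n, hn, hne⟩ : ρ ⟨e, he⟩ ∈ N.map ρ := ht ▸ Subgroup.mem_top _
    have h1 : ρ (⟨e, he⟩ * n⁻¹) = 1 := by rw [map_mul, map_inv, hne, mul_inv_cancel]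
    have h2 := (hker _).mp h1
    rw [show e = (e * (n : G)⁻¹) * n by group]
    exact mul_mem (Subgroup.mem_sup_left h2) (Subgroup.mem_sup_right hn)
  · left
    intro e he f hf
    let c : ↥E → ↥E := fun a => ⟨(a : G) * f * (a : G)⁻¹ * f⁻¹, by
      rw [show (a : G) * f * (a : G)⁻¹ * f⁻¹ = a * (f * (a : G)⁻¹ * f⁻¹) by group]
      exact mul_mem a.2 ((Subgroup.mem_normalizer_iff.mp (hFE hf) _).mp (inv_mem a.2))⟩
    have hcc : ∀ a, ρ (c a) ∈ Subgroup.center H := fun a => hc (Subgroup.mem_map_of_mem ρ (by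
      show (a : G) * f * (a : G)⁻¹ * f⁻¹ ∈ F
      exact mul_mem ((Subgroup.mem_normalizer_iff.mp (hEF a.2) f).mp hf) (inv_mem hf)))
    have hmul : ∀ a b : ↥E, ρ (c (a * b)) = ρ (c b) * ρ (c a) := fun a b => by
      have h0 : c (a * b) = a * c b * a⁻¹ * c a := Subtype.ext (by simp [c, mul_assoc])
      rw [h0, map_mul, map_mul, map_mul, map_inv, Subgroup.mem_center_iff.mp (hcc b) (ρ a), mul_inv_cancel_right]
    let χ : ↥E →* ↥(Subgroup.center H) := MonoidHom.mk' (fun a => ⟨ρ (c a), hcc a⟩) fun a b => Subtype.ext (by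
      show ρ (c (a * b)) = ρ (c a) * ρ (c b)
      rw [hmul, Subgroup.mem_center_iff.mp (hcc a)])
    have hχ : ∀ x ∈ commutator ↥E, χ x = 1 := by
      have : commutator ↥E ≤ χ.ker := by
        rw [commutator_def, Subgroup.commutator_le]
        intro a _ b _
        rw [MonoidHom.mem_ker, map_commutatorElement, commutatorElement_eq_one_iff_commute]
        exact Subtype.ext (Subgroup.mem_center_iff.mp (χ b).2 (χ a))
      exact this
    obtain ⟨d, hd, hde⟩ : ρ ⟨e, he⟩ ∈ (commutator ↥E).map ρ := by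
      rw [commutator_le_of_image ρ hsurj, hperf]; trivial
    have h1 : ρ (d⁻¹ * ⟨e, he⟩) = 1 := by rw [map_mul, map_inv, hde, inv_mul_cancel]
    have hq : χ (d⁻¹ * ⟨e, he⟩) = 1 := by
      refine Subtype.ext ((hker _).mpr ?_)
      have h2 := (hker _).mp h1
      show _ * f * _ * f⁻¹ ∈ pCore p G
      rw [show ∀ a : G, a * f * a⁻¹ * f⁻¹ = a * (f * a⁻¹ * f⁻¹) from fun a => by group]
      exact mul_mem h2 (conj_R (inv_mem h2))
    have h3 : χ ⟨e, he⟩ = 1 := by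
      rw [show (⟨e, he⟩ : ↥E) = d * (d⁻¹ * ⟨e, he⟩) by group, map_mul, hχ d hd, hq, one_mul]
    exact (hker _).mp (congrArg Subtype.val h3)

/-- The top of the block is perfect. -/
def IsQuasiBlk (p : ℕ) (E : Subgroup G) : Prop :=
  ∃ (H : Type) (_ : Group H) (ρ : ↥E →* H), Function.Surjective ρ ∧
    (∀ e : ↥E, ρ e = 1 ↔ (e : G) ∈ pCore p G) ∧ QuasiS H

/-- The top of the block is of order 3 or quaternion of order 8. -/
def IsSmallBlk (p : ℕ) (E : Subgroup G) : Prop :=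
  ∃ (H : Type) (_ : Group H) (ρ : ↥E →* H), Function.Surjective ρ ∧
    (∀ e : ↥E, ρ e = 1 ↔ (e : G) ∈ pCore p G) ∧
    (∀ e : ↥E, ρ e = 1 ↔ Triv (e : G) (WOf p E) (ZOf p E)) ∧
    ((p = 2 ∧ Nat.card H = 3 ∧ (ZOf p E).relIndex (WOf p E) = 4) ∨
    (p = 3 ∧ (ZOf p E).relIndex (WOf p E) = 9 ∧
      ∃ z : H, QuatS H z ∧ ∀ e : ↥E, ρ e = z → Inverts (e : G) (WOf p E) (ZOf p E)))

theorem Blk.quasi_or (hE : Blk p E) : IsQuasiBlk p E ∨ IsSmallBlk p E := by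
  obtain ⟨H, _, ρ, h1, h2, h3, h | h⟩ := hE.top
  · exact Or.inl ⟨H, _, ρ, h1, h2, h⟩
  · exact Or.inr ⟨H, _, ρ, h1, h2, h3, h⟩

theorem IsSmallBlk.nilpotent (hS : IsSmallBlk p E) : ∃ (H : Type) (_ : Group H) (ρ : ↥E →* H),
    Function.Surjective ρ ∧ (∀ e : ↥E, ρ e = 1 ↔ (e : G) ∈ pCore p G) ∧ Group.IsNilpotent H := by
  obtain ⟨H, _, ρ, h1, h2, -, ⟨-, h, -⟩ | ⟨-, -, z, ⟨h, -⟩, -⟩⟩ := hS
  · haveI : Finite H := Nat.finite_of_card_ne_zero (by omega)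
    haveI := Fact.mk Nat.prime_three
    exact ⟨H, _, ρ, h1, h2, (IsPGroup.of_card (n := 1) (by rw [h, pow_one])).isNilpotent⟩
  · haveI : Finite H := Nat.finite_of_card_ne_zero (by omega)
    haveI := Fact.mk Nat.prime_two
    exact ⟨H, _, ρ, h1, h2, (IsPGroup.of_card (p := 2) (n := 3) (by rw [h]; rfl)).isNilpotent⟩

theorem Blk.not_small_above (hE : Blk p E) (hq : IsQuasiBlk p E) (hS : IsSmallBlk p F) : ¬ E ≤ F := by
  intro hle
  obtain ⟨H, _, ρ, hs, hker, hQ⟩ := hq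
  obtain ⟨H', _, ρ', -, hker', hnil⟩ := hS.nilpotent
  let φ : ↥E →* H' := ρ'.comp (Subgroup.inclusion hle)
  have hk : φ.ker = ρ.ker := Subgroup.ext fun e => by
    rw [MonoidHom.mem_ker, MonoidHom.mem_ker, hker]
    exact hker' _
  let ψ : H ≃* ↥φ.range :=
    ((QuotientGroup.quotientKerEquivOfSurjective ρ hs).symm.trans
      (QuotientGroup.quotientMulEquivOfEq hk.symm)).trans (QuotientGroup.quotientKerEquivRange φ)
  haveI : Group.IsNilpotent H := Group.nilpotent_of_mulEquiv ψ.symm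
  exact not_quasi_of_nilpotent hQ

theorem Blk.triv_commutator (hE : Blk p E) (hFE : F ≤ Subgroup.normalizer (E : Set G))
    (hc : ∀ e ∈ E, ∀ f ∈ F, e * f * e⁻¹ * f⁻¹ ∈ pCore p G) {U U₀ : Subgroup G} (h0 : U₀ ≤ U)
    (hUn : U ≤ Subgroup.normalizer (U₀ : Set G)) (hU : ∀ a ∈ U, ∀ b ∈ U, a * b * a⁻¹ * b⁻¹ ∈ U₀)
    (hN : Subgroup.normalizer (E : Set G) ≤ Subgroup.normalizer (U : Set G) ⊓ Subgroup.normalizer (U₀ : Set G))
    (hirr : Irr E U U₀) (hne : ¬ U ≤ U₀) (hR : pCore p G ≤ trivGrp U U₀) :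
    ⁅F, F⁆ ≤ trivGrp U U₀ := by
  refine Subgroup.commutator_le.mpr fun a ha b hb => ?_
  rw [commutatorElement_def]
  have hh : ∀ x ∈ F, ∀ e ∈ E, Triv (x * e * x⁻¹ * e⁻¹) U U₀ := fun x hx e he => (hR (by
    have := inv_mem (hc e he x hx)
    rwa [show (e * x * e⁻¹ * x⁻¹)⁻¹ = x * e * x⁻¹ * e⁻¹ by group] at this)).2
  exact ⟨hN (hFE (mul_mem (mul_mem (mul_mem ha hb) (inv_mem ha)) (inv_mem hb))),
    commutant_abelian h0 hUn hU (Subgroup.le_normalizer.trans hN) hirr hne (hN (hFE ha)) (hN (hFE hb)) (hh a ha) (hh b hb)⟩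

theorem Blk.comm_forces_triv (hE : Blk p E) (hF : Blk p F) (hq : IsQuasiBlk p F)
    (hFE : F ≤ Subgroup.normalizer (E : Set G))
    (hc : ∀ e ∈ E, ∀ f ∈ F, e * f * e⁻¹ * f⁻¹ ∈ pCore p G) : ¬ Moves p F E := by
  intro hm
  apply hm
  obtain ⟨H, _, ρ, hs, hker, hperf, -⟩ := hq
  have hFF := hE.triv_commutator hFE hc inf_le_left (W_le_normalizer_Z E) (W_comm_mem E) (nWZ E) hE.irr hE.wne
    (fun x hx => hE.R_triv hx)
  intro f hf
  obtain ⟨d, hd, hde⟩ : ρ ⟨f, hf⟩ ∈ (commutator ↥F).map ρ := by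
    rw [commutator_le_of_image ρ hs, hperf]; trivial
  have hd' : (d : G) ∈ trivGrp (WOf p E) (ZOf p E) := hFF (by
    rw [← Subgroup.map_subtype_commutator]; exact Subgroup.mem_map_of_mem F.subtype hd)
  have h1 : ρ (d⁻¹ * ⟨f, hf⟩) = 1 := by rw [map_mul, map_inv, hde, inv_mul_cancel]
  have h2 := mul_mem hd' (hE.R_triv ((hker _).mp h1))
  have h3 : (d : G) * ((d⁻¹ * ⟨f, hf⟩ : ↥F) : G) = f := by simp
  rw [h3] at h2
  exact h2.2

variable (hE : Blk p E) (hF : Blk p F) (hEF : E ≤ Subgroup.normalizer (F : Set G))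
  (hFE : F ≤ Subgroup.normalizer (E : Set G))

include hE hF hEF hFE

theorem eq_or_not_moves_of_quasi (hq : IsQuasiBlk p E) : E = F ∨ ¬ Moves p F E := by
  have step : ∀ {A B : Subgroup G}, Blk p A → Blk p B → A ≤ Subgroup.normalizer (B : Set G) →
      B ≤ Subgroup.normalizer (A : Set G) → IsQuasiBlk p A →
      (∀ e ∈ A, ∀ f ∈ B, e * f * e⁻¹ * f⁻¹ ∈ pCore p G) ∨ (A ≤ B ∧ IsQuasiBlk p B) := by
    intro A B hA hB hAB hBA hA'
    rcases hA.comm_mod_of_quasi hAB hBA hA' with h | h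
    · exact Or.inl h
    · have hle := hB.le_of_le_sup hA.res h
      rcases hB.quasi_or with h' | h'
      · exact Or.inr ⟨hle, h'⟩
      · exact absurd hle (hA.not_small_above hA' h')
  have hcase : (∀ e ∈ E, ∀ f ∈ F, e * f * e⁻¹ * f⁻¹ ∈ pCore p G) ∨ E = F := by
    rcases step hE hF hEF hFE hq with h | ⟨hle, hq'⟩
    · exact Or.inl h
    · rcases step hF hE hFE hEF hq' with h | ⟨hle', -⟩
      · left
        intro e he f hf
        have := inv_mem (h f hf e he)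
        rwa [show (f * e * f⁻¹ * e⁻¹)⁻¹ = e * f * e⁻¹ * f⁻¹ by group] at this
      · exact Or.inr (le_antisymm hle hle')
  rcases hcase with hc | h
  · right
    intro hm
    refine hF.comm_forces_triv hE hq hEF (fun f hf e he => ?_) (moves_symm hE hF hEF hFE hm)
    have := inv_mem (hc e he f hf)
    rwa [show (e * f * e⁻¹ * f⁻¹)⁻¹ = f * e * f⁻¹ * e⁻¹ by group] at this
  · exact Or.inl h

theorem commute_of_fix_core (hFQ : F ≤ Subgroup.centralizer (pCoreOf p E : Set G))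
    (hc : ∀ e ∈ E, ∀ f ∈ F, e * f * e⁻¹ * f⁻¹ ∈ pCore p G) : ⁅E, F⁆ = ⊥ := by
  rw [Subgroup.commutator_eq_bot_iff_le_centralizer, Subgroup.le_centralizer_iff]
  refine hF.le_centralizer_of_coprime fun g hg hgc e he => ?_
  rw [Subgroup.mem_centralizer_singleton_iff]
  have hR : g * e * g⁻¹ * e⁻¹ ∈ pCore p G := by
    have := inv_mem (hc e he g hg)
    rwa [show (e * g * e⁻¹ * g⁻¹)⁻¹ = g * e * g⁻¹ * e⁻¹ by group] at this
  have hQ : g * e * g⁻¹ * e⁻¹ ∈ pCoreOf p E :=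
    hE.memQ (mul_mem ((Subgroup.mem_normalizer_iff.mp (hFE hg) e).mp he) (inv_mem he)) hR
  exact (commute_of_fixed hgc hR (Subgroup.mem_centralizer_iff.mp (hFQ hg) _ hQ).symm).eq.symm

theorem comm_of_not_moves (hm : ¬ Moves p F E) : ⁅E, F⁆ = ⊥ := by
  have hT : ∀ f ∈ F, Triv f (WOf p E) (ZOf p E) := not_not.mp hm
  have hm' : ¬ Moves p E F := fun h => hm (moves_symm hF hE hFE hEF h)
  have hT' : ∀ e ∈ E, Triv e (WOf p F) (ZOf p F) := not_not.mp hm'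
  have hc : ∀ e ∈ E, ∀ f ∈ F, e * f * e⁻¹ * f⁻¹ ∈ pCore p G := by
    intro e he f hf
    have h1 : e * f * e⁻¹ * f⁻¹ ∈ trivGrp (WOf p E) (ZOf p E) :=
      mul_mem (trivGrp_conj (nWZ E (Subgroup.le_normalizer he)) ⟨nWZ E (hFE hf), hT f hf⟩)
        (inv_mem ⟨nWZ E (hFE hf), hT f hf⟩)
    refine hE.mem_R_of_triv ?_ h1.2
    rw [show e * f * e⁻¹ * f⁻¹ = e * (f * e⁻¹ * f⁻¹) by group]
    exact mul_mem he ((Subgroup.mem_normalizer_iff.mp (hFE hf) _).mp (inv_mem he))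
  have linear : ∀ {A B : Subgroup G}, Blk p A → Blk p B → A ≤ Subgroup.normalizer (B : Set G) →
      B ≤ Subgroup.normalizer (A : Set G) → (∀ e ∈ A, ∀ f ∈ B, e * f * e⁻¹ * f⁻¹ ∈ pCore p G) →
      (∀ f ∈ B, Triv f (WOf p A) (ZOf p A)) → pCoreOf p A = WOf p A → ⁅A, B⁆ = ⊥ := by
    intro A B hA hB hAB hBA hc hT hk
    refine commute_of_fix_core hA hB hAB hBA ?_ hc
    rw [Subgroup.le_centralizer_iff, ← hA.qe, Subgroup.commutator_le]
    intro w hw e he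
    rw [Subgroup.mem_centralizer_iff]
    intro f hf
    have hwW : w ∈ WOf p A := hk ▸ hw
    obtain ⟨z, hz, hzw⟩ : ∃ z ∈ ZOf p A, f * w * f⁻¹ = z * w := ⟨_, hT f hf w hwW, by group⟩
    have hq : f * e * f⁻¹ * e⁻¹ ∈ pCoreOf p A := hA.memQ
      (mul_mem ((Subgroup.mem_normalizer_iff.mp (hBA hf) e).mp he) (inv_mem he)) (by
        have := inv_mem (hc e he f hf)
        rwa [show (e * f * e⁻¹ * f⁻¹)⁻¹ = f * e * f⁻¹ * e⁻¹ by group] at this)
    set q := f * e * f⁻¹ * e⁻¹ with hqdef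
    have hqW : q ∈ WOf p A := hk ▸ hq
    have hcW : w * e * w⁻¹ * e⁻¹ ∈ WOf p A := by
      rw [show w * e * w⁻¹ * e⁻¹ = w * (e * w⁻¹ * e⁻¹) by group]
      exact mul_mem hwW ((Subgroup.mem_normalizer_iff.mp ((Subgroup.le_normalizer.trans (nW A)) he) _).mp (inv_mem hwW))
    have hze : z * (q * e) = (q * e) * z := by
      calc z * (q * e) = (q * z) * e := by rw [← mul_assoc, W_abel hz.1 hqW]
        _ = q * (e * z) := by rw [mul_assoc, ← Z_cent hz he]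
        _ = (q * e) * z := by group
    have key : f * ⁅w, e⁆ * f⁻¹ = ⁅w, e⁆ := by
      calc f * ⁅w, e⁆ * f⁻¹ = (f * w * f⁻¹) * (f * e * f⁻¹) * (f * w * f⁻¹)⁻¹ * (f * e * f⁻¹)⁻¹ := by
            rw [commutatorElement_def]; group
        _ = (w * z) * (q * e) * (w * z)⁻¹ * (q * e)⁻¹ := by rw [hzw, W_abel hz.1 hwW, hqdef]; group
        _ = w * (z * (q * e)) * z⁻¹ * w⁻¹ * (q * e)⁻¹ := by group
        _ = (w * q) * e * w⁻¹ * e⁻¹ * q⁻¹ := by rw [hze]; group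
        _ = q * (w * e * w⁻¹ * e⁻¹) * q⁻¹ := by rw [W_abel hwW hqW]; group
        _ = ⁅w, e⁆ := by rw [W_abel hqW hcW, mul_inv_cancel_right, commutatorElement_def]
    calc f * ⁅w, e⁆ = (f * ⁅w, e⁆ * f⁻¹) * f := by group
      _ = ⁅w, e⁆ * f := by rw [key]
  have hc' : ∀ f ∈ F, ∀ e ∈ E, f * e * f⁻¹ * e⁻¹ ∈ pCore p G := fun f hf e he => by
    have := inv_mem (hc e he f hf)
    rwa [show (e * f * e⁻¹ * f⁻¹)⁻¹ = f * e * f⁻¹ * e⁻¹ by group] at this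
  rcases hE.kind with hk | ⟨hp3, hirr, -, -, hQQ, hne, -⟩
  · exact linear hE hF hEF hFE hc hT hk
  rcases hF.kind with hk | ⟨-, -, -, -, -, -, z, hzFF, hzc, hzQ, hzW⟩
  · rw [Subgroup.commutator_comm]; exact linear hF hE hFE hEF hc' hT' hk
  subst hp3
  have hzF : z ∈ F := (Subgroup.commutator_le.mpr fun a ha b hb => by
    rw [commutatorElement_def]; exact mul_mem (mul_mem (mul_mem ha hb) (inv_mem ha)) (inv_mem hb) :
      ⁅F, F⁆ ≤ F) hzFF
  have hne' : ¬ pCoreOf 3 E ≤ WOf 3 E := fun hle => hne (Subgroup.commutator_eq_bot_iff_le_centralizer.mpr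
    (hle.trans ((LocalEven2.Baumann.omegaOne_le _).trans inf_le_right)))
  have hQn : pCoreOf 3 E ≤ Subgroup.normalizer (WOf 3 E : Set G) :=
    le_normalizer_of_conj fun q hq w hw => by rw [WOf_comm E hw hq, mul_inv_cancel_right]; exact hw
  have hNQ : Subgroup.normalizer (E : Set G) ≤
      Subgroup.normalizer (pCoreOf 3 E : Set G) ⊓ Subgroup.normalizer (WOf 3 E : Set G) := le_inf (nQ E) (nW E)
  have hQcomm : ∀ a ∈ pCoreOf 3 E, ∀ b ∈ pCoreOf 3 E, a * b * a⁻¹ * b⁻¹ ∈ WOf 3 E := fun a ha b hb =>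
    (hQQ.le (Subgroup.commutator_mem_commutator ha hb)).1
  have hRQ : pCore 3 G ≤ trivGrp (pCoreOf 3 E) (WOf 3 E) := fun x hx =>
    ⟨hNQ (hE.rn hx), pgroup_triv (WOf_le E) hQn R_pgroup (Q_isPGroup E) (Subgroup.le_normalizer.trans hNQ)
      (hE.rn.trans hNQ) (R_normal E) hirr hne' hx⟩
  have hzT : z ∈ trivGrp (pCoreOf 3 E) (WOf 3 E) :=
    hE.triv_commutator hFE hc (WOf_le E) hQn hQcomm hNQ hirr hne' hRQ hzFF
  have hzZ : ∀ a ∈ ZOf 3 E, Commute z a := by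
    intro a ha
    rw [← hQQ] at ha
    have hle : ⁅pCoreOf 3 E, pCoreOf 3 E⁆ ≤ Subgroup.centralizer ({z} : Set G) := by
      refine Subgroup.commutator_le.mpr fun a ha b hb => ?_
      rw [Subgroup.mem_centralizer_singleton_iff]
      have h1 := hzT.2 a ha
      have h2 := hzT.2 b hb
      set w := z * a * z⁻¹ * a⁻¹ with hwdef
      set w' := z * b * z⁻¹ * b⁻¹ with hw'def
      have e1 : z * ⁅a, b⁆ * z⁻¹ = ⁅a, b⁆ := by
        calc z * ⁅a, b⁆ * z⁻¹ = (w * a) * (w' * b) * (w * a)⁻¹ * (w' * b)⁻¹ := by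
              rw [hwdef, hw'def, commutatorElement_def]; group
          _ = (w * a * w') * b * (a⁻¹ * w⁻¹) * (b⁻¹ * w'⁻¹) := by group
          _ = (w * (w' * a)) * b * (a⁻¹ * w⁻¹) * (b⁻¹ * w'⁻¹) := by rw [mul_assoc w a w', WOf_comm E h2 ha]
          _ = w * w' * (a * b * a⁻¹ * (w⁻¹ * b⁻¹)) * w'⁻¹ := by group
          _ = w * w' * (a * b * a⁻¹ * (b⁻¹ * w⁻¹)) * w'⁻¹ := by rw [WOf_comm E (inv_mem h1) (inv_mem hb)]
          _ = (w * w') * (a * b * a⁻¹ * b⁻¹) * (w' * w)⁻¹ := by group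
          _ = (a * b * a⁻¹ * b⁻¹) * (w * w') * (w' * w)⁻¹ := by
              rw [← WOf_comm E (mul_mem h1 h2) (mul_mem (mul_mem (mul_mem ha hb) (inv_mem ha)) (inv_mem hb))]
          _ = ⁅a, b⁆ := by rw [W_abel h1 h2, mul_inv_cancel_right, commutatorElement_def]
      calc ⁅a, b⁆ * z = (z * ⁅a, b⁆ * z⁻¹) * z := by rw [e1]
        _ = z * ⁅a, b⁆ := by group
    exact (Subgroup.mem_centralizer_singleton_iff.mp (hle ha)).symm
  have hzW' : ∀ a ∈ WOf 3 E, Commute z a := fun a ha =>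
    commute_of_fixed hzc (hE.W_le_R (hT z hzF a ha).1) (hzZ _ (hT z hzF a ha)).eq
  have hzQ' : ∀ a ∈ pCoreOf 3 E, Commute z a := fun a ha =>
    commute_of_fixed hzc (hE.W_le_R (hzT.2 a ha)) (hzW' _ (hzT.2 a ha)).eq
  refine commute_of_fix_core hE hF hEF hFE (hF.le_centralizer_of_coprime fun g hg hgc q hq => ?_) hc
  rw [Subgroup.mem_centralizer_singleton_iff]
  have hd1 : g * q * g⁻¹ * q⁻¹ ∈ pCoreOf 3 E :=
    mul_mem ((Subgroup.mem_normalizer_iff.mp (nQ E (hFE hg)) q).mp hq) (inv_mem hq)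
  have hd2 : g * q * g⁻¹ * q⁻¹ ∈ pCoreOf 3 F := by
    refine hF.memQ ?_ (hE.Q_le_R hd1)
    rw [show g * q * g⁻¹ * q⁻¹ = g * (q * g⁻¹ * q⁻¹) by group]
    exact mul_mem hg ((Subgroup.mem_normalizer_iff.mp (hF.rn (hE.Q_le_R hq)) _).mp (inv_mem hg))
  set d := g * q * g⁻¹ * q⁻¹ with hd
  have hfix : z * d * z⁻¹ = d := by rw [(hzQ' d hd1).eq, mul_inv_cancel_right]
  have half : ∀ {U₀ : Subgroup G}, d * d ∈ U₀ → d ^ 3 ∈ U₀ → d ∈ U₀ := fun {U₀} h2 h3 => by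
    have := mul_mem h3 (inv_mem h2)
    rwa [show d ^ 3 * (d * d)⁻¹ = d by rw [pow_succ, pow_two]; group] at this
  have hpow : ∀ {x : G}, x ∈ pCoreOf 3 F → ∃ k, x ^ 3 ^ k = 1 := fun {x} hx => by
    obtain ⟨k, hk⟩ := Q_isPGroup (p := 3) F ⟨x, hx⟩
    exact ⟨k, congrArg Subtype.val hk⟩
  obtain ⟨k, hk⟩ := hpow hd2
  have hsq : ∀ {U₀ : Subgroup G}, d * d ∈ U₀ → d ∈ U₀ := fun {U₀} h2 => by
    have hodd : (3 ^ k) % 2 = 1 := by rw [Nat.pow_mod]; simp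
    obtain ⟨j, hj⟩ : ∃ j, 3 ^ k = 2 * j + 1 := ⟨3 ^ k / 2, by omega⟩
    rw [hj, pow_succ, pow_mul, pow_two] at hk
    rw [eq_inv_of_mul_eq_one_right hk]
    exact inv_mem (pow_mem h2 j)
  have hdW : d ∈ WOf 3 F := hsq (by have := hzQ d hd2; rwa [hfix] at this)
  have hdZ : d ∈ ZOf 3 F := hsq (by have := hzW d hdW; rwa [hfix] at this)
  exact (commute_of_fixed hgc (hE.Q_le_R hd1) (Z_cent hdZ hg)).eq.symm

end Cfsg.Agent.Lib.SubnBlock
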