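import Cfsg.Agent.Lib.SubnBlock.Mutual
import Cfsg.Agent.Lib.LocalEven.AmalgamP

set_option autoImplicit false

/-!
Conjugates of blocks are blocks.
-/

namespace Cfsg.Agent.Lib.SubnBlock

open Cfsg LocalEven
open scoped commutatorElement

universe u
variable {G : Type u} [Group G] {p : ℕ}

theorem conjS_WOf (g : G) (E : Subgroup G) : conjS g (WOf p E) = WOf p (conjS g E) := by
  show conjS g (Cfsg.omegaOneCenter p (Cfsg.pCoreOf p E)) = Cfsg.omegaOneCenter p (Cfsg.pCoreOf p (conjS g E))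
  rw [Cfsg.omegaOneCenter, Cfsg.omegaOneCenter, conjS_omegaOne, conjS_inf, conjS_centralizer, conjS_pCoreOf]

theorem conjS_ZOf (g : G) (E : Subgroup G) : conjS g (ZOf p E) = ZOf p (conjS g E) := by
  show conjS g (WOf p E ⊓ Subgroup.centralizer (E : Set G)) = _
  rw [conjS_inf, conjS_centralizer, conjS_WOf]

theorem conjS_relIndex (g : G) (H K : Subgroup G) : (conjS g H).relIndex (conjS g K) = H.relIndex K :=
  Subgroup.relIndex_map_map_of_injective H K (MulAut.conj g).injective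

theorem triv_conjS {g x : G} {U U₀ : Subgroup G} :
    Triv x (conjS g U) (conjS g U₀) ↔ Triv (g⁻¹ * x * g) U U₀ := by
  constructor
  · intro h u hu
    have := mem_conjS.mp (h _ (conj_mem_conjS hu))
    simpa [mul_assoc] using this
  · intro h u hu
    rw [mem_conjS] at hu ⊢
    have := h _ hu
    simpa [mul_assoc] using this

theorem inverts_conjS {g x : G} {U U₀ : Subgroup G} :
    Inverts x (conjS g U) (conjS g U₀) ↔ Inverts (g⁻¹ * x * g) U U₀ := by
  constructor
  · intro h u hu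
    have := mem_conjS.mp (h _ (conj_mem_conjS hu))
    simpa [mul_assoc] using this
  · intro h u hu
    rw [mem_conjS] at hu ⊢
    have := h _ hu
    simpa [mul_assoc] using this

theorem irr_conjS {g : G} {E U U₀ : Subgroup G} (h : Irr E U U₀) :
    Irr (conjS g E) (conjS g U) (conjS g U₀) := by
  intro Y hY hEY
  have hY' : conjS g⁻¹ Y ≤ U := by
    have := conjS_mono g⁻¹ hY
    rwa [conjS_inv_cancel] at this
  have hEY' : E ≤ Subgroup.normalizer (conjS g⁻¹ Y : Set G) := by
    rw [← conjS_normalizer]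
    have := conjS_mono g⁻¹ hEY
    rwa [conjS_inv_cancel] at this
  rcases h _ hY' hEY' with h1 | h1
  · left
    have := conjS_mono g h1
    rwa [conjS_cancel_inv] at this
  · right
    have := conjS_mono g h1
    rwa [conjS_sup, conjS_cancel_inv] at this

theorem Blk.conj [Finite G] [Fact p.Prime] {E : Subgroup G} (hE : Blk p E) (g : G) :
    Blk p (conjS g E) := by
  haveI := LocalEven2.pCore_normal p G
  have hR : conjS g (Cfsg.pCore p G) = Cfsg.pCore p G := conjS_normal g _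
  have hW := conjS_WOf (p := p) g E
  have hZ := conjS_ZOf (p := p) g E
  have hQ := (conjS_pCoreOf (p := p) g E).symm
  refine ⟨?_, ?_, ?_, ?_, ?_, ?_, ?_, ?_, ?_, ?_⟩
  · rw [← conjS_pResOf, hE.res]
  · exact hE.sub.map (MulAut.conj g).surjective
  · rw [← hR, ← conjS_normalizer]; exact conjS_mono g hE.rn
  · conv_lhs => rw [← hR, ← conjS_sup, ← conjS_pResOf]
    exact conjS_mono g hE.ress
  · rw [hQ, hE.qeq, conjS_inf, hR]
  · rw [hQ, ← conjS_commutator, hE.qe]
  · rw [← hW, ← hZ]; exact irr_conjS hE.irr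
  · rw [← hW, ← hZ, conjS_le_iff]; exact hE.wne
  · obtain ⟨H, hH, ρ, hs, hker, hkerT, htop⟩ := hE.top
    let ι : ↥(conjS g E) →* ↥E :=
      { toFun := fun x => ⟨g⁻¹ * x * g, mem_conjS.mp x.2⟩
        map_one' := Subtype.ext (by simp)
        map_mul' := fun a b => Subtype.ext (by simp [mul_assoc]) }
    refine ⟨H, hH, ρ.comp ι, fun h => ?_, fun e => ?_, fun e => ?_, ?_⟩
    · obtain ⟨e, rfl⟩ := hs h
      exact ⟨⟨g * e * g⁻¹, conj_mem_conjS e.2⟩, congrArg ρ (Subtype.ext (by simp [ι, mul_assoc]))⟩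
    · rw [MonoidHom.comp_apply, hker]
      conv_rhs => rw [← hR, mem_conjS]
      rfl
    · rw [MonoidHom.comp_apply, hkerT, ← hW, ← hZ]
      exact triv_conjS.symm
    · rcases htop with h | ⟨h1, h2, h3⟩ | ⟨h1, h2, z, hz, hinv⟩
      · exact Or.inl h
      · exact Or.inr (Or.inl ⟨h1, h2, by rw [← hW, ← hZ, conjS_relIndex, h3]⟩)
      · refine Or.inr (Or.inr ⟨h1, by rw [← hW, ← hZ, conjS_relIndex, h2], z, hz, fun e he => ?_⟩)
        rw [← hW, ← hZ, inverts_conjS]
        exact hinv _ he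
  · rcases hE.kind with hk | ⟨hp, hirr, hrel, ⟨b, hb, ⟨j, hj⟩, hbq⟩, hQQ, hne, z, hz, hzc, hzQ, hzW⟩
    · left; rw [hQ, hk, hW]
    refine Or.inr ⟨hp, ?_, ?_, ⟨g * b * g⁻¹, ?_, ⟨j, ?_⟩, ?_⟩, ?_, ?_, g * z * g⁻¹, ?_, ?_, ?_, ?_⟩
    · rw [hQ, ← hW]; exact irr_conjS hirr
    · rw [hQ, ← hW, ← hZ, conjS_relIndex, conjS_relIndex, hrel]
    · rw [← conjS_normalizer]; exact conj_mem_conjS hb
    · rw [← hj]; exact orderOf_injective (MulAut.conj g).toMonoidHom (MulAut.conj g).injective b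
    · intro hle
      apply hbq
      have hz' : Subgroup.zpowers (g * b * g⁻¹) = conjS g (Subgroup.zpowers b) :=
        (MonoidHom.map_zpowers (MulAut.conj g).toMonoidHom b).symm
      rwa [hQ, hz', ← conjS_commutator, ← conjS_commutator, ← hZ, conjS_le_iff] at hle
    · rw [hQ, ← conjS_commutator, hQQ, hZ]
    · rw [hQ, ← conjS_commutator]
      intro h0
      exact hne (Subgroup.map_eq_bot_iff_of_injective _ (MulAut.conj g).injective |>.mp h0)
    · rw [← conjS_commutator]; exact conj_mem_conjS hz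
    · rwa [show g * z * g⁻¹ = (MulAut.conj g).toMonoidHom z from rfl,
        orderOf_injective (MulAut.conj g).toMonoidHom (MulAut.conj g).injective]
    · rw [hQ, ← hW, inverts_conjS]; simpa [mul_assoc] using hzQ
    · rw [← hW, ← hZ, inverts_conjS]; simpa [mul_assoc] using hzW

theorem IsQuasiBlk.conj [Finite G] [Fact p.Prime] {E : Subgroup G} (hq : IsQuasiBlk p E) (g : G) :
    IsQuasiBlk p (conjS g E) := by
  haveI := LocalEven2.pCore_normal p G
  obtain ⟨H, hH, ρ, hs, hker, hQ⟩ := hq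
  let ι : ↥(conjS g E) →* ↥E :=
    { toFun := fun x => ⟨g⁻¹ * x * g, mem_conjS.mp x.2⟩
      map_one' := Subtype.ext (by simp)
      map_mul' := fun a b => Subtype.ext (by simp [mul_assoc]) }
  refine ⟨H, hH, ρ.comp ι, fun h => ?_, fun e => ?_, hQ⟩
  · obtain ⟨e, rfl⟩ := hs h
    exact ⟨⟨g * e * g⁻¹, conj_mem_conjS e.2⟩, congrArg ρ (Subtype.ext (by simp [ι, mul_assoc]))⟩
  · rw [MonoidHom.comp_apply, hker]
    conv_rhs => rw [← conjS_normal g (Cfsg.pCore p G), mem_conjS]
    rfl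

end Cfsg.Agent.Lib.SubnBlock
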