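import Mathlib
import Cfsg.Agent.Lib.Classical.LinearSimple
import Cfsg.Agent.Lib.Compute.PSLMult

set_option autoImplicit false

/-!
Facts on the derived group of `SL(2,q)` and on alternating groups used for subnormal blocks.
-/

namespace Cfsg.Agent.Lib.SubnBlock

open Matrix
open scoped commutatorElement

/-- Perfect, non-trivial, and every proper normal subgroup is central. -/
def QuasiS (R : Type*) [Group R] : Prop :=
  commutator R = ⊤ ∧ Subgroup.center R ≠ ⊤ ∧
    ∀ N : Subgroup R, N.Normal → N = ⊤ ∨ N ≤ Subgroup.center R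

/-- The quaternion-type behaviour of `SL(2,3)'` with central involution `z`. -/
def QuatS (R : Type*) [Group R] (z : R) : Prop :=
  Nat.card R = 8 ∧ z ∈ commutator R ∧ z ≠ 1 ∧ (∀ x : R, x * x = 1 ∨ x * x = z) ∧
    (∀ x : R, x * x = 1 → x = 1 ∨ x = z)

theorem commutator_le_of_image {A B : Type*} [Group A] [Group B] (f : A →* B) (hf : Function.Surjective f) :
    (commutator A).map f = commutator B := by
  rw [commutator_def, Subgroup.map_commutator, Subgroup.map_top_of_surjective f hf, ← commutator_def]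

theorem sl2_quasi {F : Type*} [Field F] [Finite F] (h : 4 ≤ Nat.card F) :
    commutator (SpecialLinearGroup (Fin 2) F) = ⊤ ∧
      QuasiS ↥(commutator (SpecialLinearGroup (Fin 2) F)) := by
  have : Fintype F := Fintype.ofFinite F
  have hp : commutator (SpecialLinearGroup (Fin 2) F) = ⊤ := Compute.SLSt.commutator_eq_top (n := 2) h
  refine ⟨hp, ?_⟩
  let e : ↥(commutator (SpecialLinearGroup (Fin 2) F)) ≃* SpecialLinearGroup (Fin 2) F :=
    (MulEquiv.subgroupCongr hp).trans Subgroup.topEquiv
  have hs : IsSimpleGroup (ProjectiveSpecialLinearGroup (Fin 2) F) :=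
    Classical.isSimpleGroup_PSL_fin le_rfl (fun _ => h)
  have key : QuasiS (SpecialLinearGroup (Fin 2) F) := by
    refine ⟨hp, ?_, ?_⟩
    · intro hc
      have : (⊤ : Subgroup (ProjectiveSpecialLinearGroup (Fin 2) F)) = ⊥ := by
        rw [eq_bot_iff]
        intro x _
        obtain ⟨g, rfl⟩ := QuotientGroup.mk_surjective x
        rw [Subgroup.mem_bot, QuotientGroup.eq_one_iff, hc]
        trivial
      exact bot_ne_top this.symm
    · intro N hN
      have hmn := hN.map (QuotientGroup.mk' (Subgroup.center (SpecialLinearGroup (Fin 2) F)))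
        (QuotientGroup.mk'_surjective _)
      rcases hs.eq_bot_or_eq_top_of_normal _ hmn with hb | ht
      · right
        intro x hx
        have : QuotientGroup.mk' (Subgroup.center _) x ∈
            N.map (QuotientGroup.mk' (Subgroup.center (SpecialLinearGroup (Fin 2) F))) :=
          Subgroup.mem_map_of_mem _ hx
        rw [hb, Subgroup.mem_bot] at this
        exact (QuotientGroup.eq_one_iff x).mp this
      · left
        rw [eq_top_iff, ← hp, commutator_def, Subgroup.commutator_le]
        intro a _ b _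
        have dec : ∀ x : SpecialLinearGroup (Fin 2) F, ∃ n ∈ N, ∃ c ∈ Subgroup.center _, x = n * c := by
          intro x
          obtain ⟨n, hn, hnx⟩ : QuotientGroup.mk' (Subgroup.center _) x ∈
              N.map (QuotientGroup.mk' (Subgroup.center (SpecialLinearGroup (Fin 2) F))) := by
            rw [ht]; trivial
          exact ⟨n, hn, n⁻¹ * x, QuotientGroup.eq.mp hnx, by group⟩
        obtain ⟨n, hn, c, hc, rfl⟩ := dec a
        obtain ⟨m, hm, d, hd, rfl⟩ := dec b
        have h1 : ⁅n * c, m * d⁆ = n * m * n⁻¹ * m⁻¹ := by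
          have hc' : c * (m * d) * c⁻¹ = m * d := by
            rw [← Subgroup.mem_center_iff.mp hc (m * d), mul_inv_cancel_right]
          calc ⁅n * c, m * d⁆ = n * (c * (m * d) * c⁻¹) * n⁻¹ * (m * d)⁻¹ := by
                rw [commutatorElement_def]; group
            _ = n * m * (d * n⁻¹) * (m * d)⁻¹ := by rw [hc']; group
            _ = n * m * (n⁻¹ * d) * (m * d)⁻¹ := by rw [Subgroup.mem_center_iff.mp hd n⁻¹]
            _ = n * m * n⁻¹ * m⁻¹ := by group
        rw [h1]
        exact mul_mem (mul_mem (mul_mem hn hm) (inv_mem hn)) (inv_mem hm)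
  exact quasiS_equiv e.symm key
where
  quasiS_equiv {A B : Type _} [Group A] [Group B] (e : A ≃* B) (h : QuasiS A) : QuasiS B := by
    obtain ⟨h1, h2, h3⟩ := h
    refine ⟨?_, ?_, ?_⟩
    · rw [← commutator_le_of_image e.toMonoidHom e.surjective, h1,
        Subgroup.map_top_of_surjective _ e.surjective]
    · intro hc; apply h2
      rw [eq_top_iff]; intro a _
      rw [Subgroup.mem_center_iff]; intro g
      apply e.injective
      rw [map_mul, map_mul]
      exact Subgroup.mem_center_iff.mp (hc ▸ Subgroup.mem_top (e a)) _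
    · intro N hN
      rcases h3 (N.comap e.toMonoidHom) (hN.comap _) with h | h
      · left
        rw [eq_top_iff]; intro b _
        obtain ⟨a, rfl⟩ := e.surjective b
        exact (Subgroup.mem_comap.mp (h ▸ Subgroup.mem_top a) : _)
      · right
        intro b hb
        obtain ⟨a, rfl⟩ := e.surjective b
        rw [Subgroup.mem_center_iff]; intro g
        obtain ⟨g, rfl⟩ := e.surjective g
        rw [← map_mul, ← map_mul, Subgroup.mem_center_iff.mp (h hb) g]

theorem alt_quasi {n : ℕ} (h : 5 ≤ n) : QuasiS ↥(alternatingGroup (Fin n)) := by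
  have hs : IsSimpleGroup ↥(alternatingGroup (Fin n)) :=
    alternatingGroup.isSimpleGroup (by simpa using h)
  have hc : Subgroup.center ↥(alternatingGroup (Fin n)) = ⊥ := by
    apply alternatingGroup.center_eq_bot
    simp; omega
  refine ⟨?_, ?_, fun N hN => ?_⟩
  · rcases hs.eq_bot_or_eq_top_of_normal (commutator _) inferInstance with h' | h'
    · exfalso
      rw [commutator_eq_bot_iff_center_eq_top, hc] at h'
      exact bot_ne_top h'
    · exact h'
  · rw [hc]; exact bot_ne_top
  · rcases hs.eq_bot_or_eq_top_of_normal N hN with h' | h'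
    · exact Or.inr (h'.trans_le bot_le)
    · exact Or.inl h'

section small

set_option maxRecDepth 100000
set_option maxHeartbeats 2000000

abbrev S3 := SpecialLinearGroup (Fin 2) (ZMod 3)
abbrev S2 := SpecialLinearGroup (Fin 2) (ZMod 2)

def P3 (x : S3) : Prop := x.1 0 0 + x.1 1 1 = 0 ∨ x = 1 ∨ x = -1

instance : DecidablePred P3 := fun x => by unfold P3; infer_instance

theorem sl23_closed : ∀ x y : S3, P3 x → P3 y → P3 (x * y) := by decide +kernel
theorem sl23_comm : ∀ x y : S3, P3 (x * y * x⁻¹ * y⁻¹) := by decide +kernel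
theorem sl23_card : (Finset.univ.filter fun x : S3 => P3 x).card = 8 := by decide +kernel
theorem sl23_sq : ∀ x : S3, P3 x → (x * x = 1 ∨ x * x = -1) ∧ (x * x = 1 → x = 1 ∨ x = -1) := by
  decide +kernel
def qI : S3 := ⟨!![0, -1; 1, 0], by decide⟩
def qJ : S3 := ⟨!![1, 1; 1, -1], by decide⟩

theorem sl23_span : ∀ x : S3, P3 x →
    x ∈ [(1 : S3), -1, qI, -1 * qI, qJ, -1 * qJ, qI * qJ, -1 * (qI * qJ)] := by decide +kernel
theorem sl23_gen : ∃ a b : S3, a * b * a⁻¹ * b⁻¹ = qI ∧ ∃ c : S3, c * qI * c⁻¹ = qJ :=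
  ⟨⟨!![1, 1; 0, 1], by decide⟩, ⟨!![1, 0; 1, 1], by decide⟩, by decide +kernel,
    ⟨!![1, 1; 0, 1], by decide⟩, by decide +kernel⟩
theorem sl23_ij : qI * qJ * qI⁻¹ * qJ⁻¹ = -1 := by decide +kernel
theorem sl22_comm : ∀ x y : S2, (x * y * x⁻¹ * y⁻¹).1 0 0 + (x * y * x⁻¹ * y⁻¹).1 1 1 = 1 ∨
    x * y * x⁻¹ * y⁻¹ = 1 := by decide +kernel
theorem sl22_closed : ∀ x y : S2, (x.1 0 0 + x.1 1 1 = 1 ∨ x = 1) → (y.1 0 0 + y.1 1 1 = 1 ∨ y = 1) →
    ((x * y).1 0 0 + (x * y).1 1 1 = 1 ∨ x * y = 1) := by decide +kernel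
theorem sl22_card : (Finset.univ.filter fun x : S2 => x.1 0 0 + x.1 1 1 = 1 ∨ x = 1).card = 3 := by
  decide +kernel
theorem sl22_ne : ∃ a b : S2, a * b * a⁻¹ * b⁻¹ ≠ 1 :=
  ⟨⟨!![1, 1; 0, 1], by decide⟩, ⟨!![1, 0; 1, 1], by decide⟩, by decide +kernel⟩

theorem sub_of_closed {A : Type*} [Group A] [Finite A] (P : A → Prop) (h1 : P 1)
    (hm : ∀ x y, P x → P y → P (x * y)) : ∃ H : Subgroup A, ∀ x, x ∈ H ↔ P x :=
  ⟨{ carrier := {x | P x}
     one_mem' := h1
     mul_mem' := fun {x y} hx hy => hm x y hx hy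
     inv_mem' := fun {x} hx => by
      show P x⁻¹
      have hk : ∀ k : ℕ, P (x ^ k) := fun k => by
        induction k with
        | zero => simpa using h1
        | succ k ih => rw [pow_succ]; exact hm _ _ ih hx
      rw [inv_eq_of_mul_eq_one_right (b := x ^ (orderOf x - 1))]
      · exact hk _
      · rw [← pow_succ', Nat.sub_add_cancel (orderOf_pos x), pow_orderOf_eq_one] },
   fun _ => Iff.rfl⟩

theorem sl22_card_comm : Nat.card ↥(commutator S2) = 3 := by
  obtain ⟨H, hH⟩ := sub_of_closed (fun x : S2 => x.1 0 0 + x.1 1 1 = 1 ∨ x = 1) (Or.inr rfl) sl22_closed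
  have hle : commutator S2 ≤ H := by
    rw [commutator_def, Subgroup.commutator_le]; intro a _ b _
    exact (hH _).mpr (sl22_comm a b)
  have hc : Nat.card H = 3 := by
    rw [Nat.card_congr (Equiv.subtypeEquivRight hH), Nat.card_eq_fintype_card,
      Fintype.card_subtype]
    exact sl22_card
  have hdvd := Subgroup.card_dvd_of_le hle
  rw [hc, Nat.dvd_prime Nat.prime_three] at hdvd
  refine hdvd.resolve_left fun h => ?_
  obtain ⟨a, b, hab⟩ := sl22_ne
  have hm : a * b * a⁻¹ * b⁻¹ ∈ commutator S2 := Subgroup.commutator_mem_commutator (Subgroup.mem_top a) (Subgroup.mem_top b)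
  rw [Subgroup.card_eq_one.mp h, Subgroup.mem_bot] at hm
  exact hab hm

theorem sl23_neg_mem : (-1 : S3) ∈ commutator S3 := by
  rw [← sl23_ij]
  exact Subgroup.commutator_mem_commutator (Subgroup.mem_top _) (Subgroup.mem_top _)

theorem sl23_quat : QuatS ↥(commutator S3) ⟨-1, sl23_neg_mem⟩ := by
  obtain ⟨a, b, hi, c, hj⟩ := sl23_gen
  obtain ⟨H, hH⟩ := sub_of_closed P3 (Or.inr (Or.inl rfl)) sl23_closed
  have hI : qI ∈ commutator S3 :=
    hi ▸ Subgroup.commutator_mem_commutator (Subgroup.mem_top a) (Subgroup.mem_top b)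
  have hJ : qJ ∈ commutator S3 := hj ▸ Subgroup.Normal.conj_mem inferInstance qI hI c
  have heq : commutator S3 = H := by
    apply le_antisymm
    · rw [commutator_def, Subgroup.commutator_le]; intro a _ b _
      exact (hH _).mpr (sl23_comm a b)
    · intro x hx
      have hm := sl23_span x ((hH x).mp hx)
      simp only [List.mem_cons, List.not_mem_nil, or_false] at hm
      rcases hm with rfl | rfl | rfl | rfl | rfl | rfl | rfl | rfl
      · exact one_mem _
      · exact sl23_neg_mem
      · exact hI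
      · exact mul_mem sl23_neg_mem hI
      · exact hJ
      · exact mul_mem sl23_neg_mem hJ
      · exact mul_mem hI hJ
      · exact mul_mem sl23_neg_mem (mul_mem hI hJ)
  refine ⟨?_, ?_, ?_, ?_, ?_⟩
  · rw [heq, Nat.card_congr (Equiv.subtypeEquivRight hH), Nat.card_eq_fintype_card,
      Fintype.card_subtype]
    exact sl23_card
  · have h := Subgroup.commutator_mem_commutator (Subgroup.mem_top (⟨qI, hI⟩ : ↥(commutator S3)))
      (Subgroup.mem_top ⟨qJ, hJ⟩)
    have he : (⁅(⟨qI, hI⟩ : ↥(commutator S3)), (⟨qJ, hJ⟩ : ↥(commutator S3))⁆) = ⟨-1, sl23_neg_mem⟩ :=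
      Subtype.ext sl23_ij
    rw [← he]
    exact h
  · intro h
    have := congrArg Subtype.val h
    revert this
    decide +kernel
  · intro x
    exact (sl23_sq x.1 ((hH _).mp (heq ▸ x.2))).1.imp Subtype.ext Subtype.ext
  · intro x hx
    exact ((sl23_sq x.1 ((hH _).mp (heq ▸ x.2))).2 (congrArg Subtype.val hx)).imp Subtype.ext Subtype.ext

end small

end Cfsg.Agent.Lib.SubnBlock
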