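import Cfsg.Prelude.Def_BaumannBlocks
import Cfsg.Agent.Lib.SubnBlock.SLFacts
import Cfsg.Agent.Lib.LocalEven.Subnormal
import Cfsg.Agent.Lib.LocalEven2.BaumannModule

set_option autoImplicit false

/-!
What the proof that subnormal blocks commute needs from a block.
-/

namespace Cfsg.Agent.Lib.SubnBlock

open Cfsg Matrix
open scoped commutatorElement

universe u
variable {G : Type u} [Group G] {p : ℕ}

/-- `Ω₁(Z(O_p(E)))` -/
abbrev WOf (p : ℕ) (E : Subgroup G) : Subgroup G := omegaOneCenter p (pCoreOf p E)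
abbrev ZOf (p : ℕ) (E : Subgroup G) : Subgroup G := WOf p E ⊓ Subgroup.centralizer (E : Set G)

/-- `x` acts trivially on the section `U / U₀`. -/
def Triv (x : G) (U U₀ : Subgroup G) : Prop := ∀ u ∈ U, x * u * x⁻¹ * u⁻¹ ∈ U₀

/-- `x` inverts the section `U / U₀`. -/
def Inverts (x : G) (U U₀ : Subgroup G) : Prop := ∀ u ∈ U, x * u * x⁻¹ * u ∈ U₀

/-- `U / U₀` has no proper non-trivial `E`-invariant subgroup. -/
def Irr (E U U₀ : Subgroup G) : Prop :=
  ∀ Y ≤ U, E ≤ Subgroup.normalizer (Y : Set G) → Y ≤ U₀ ∨ U ≤ Y ⊔ U₀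

/-- The three possible kinds of top factor. -/
def TopType (p : ℕ) (E : Subgroup G) (H : Type) [Group H] (ρ : ↥E →* H) : Prop :=
  QuasiS H ∨ (p = 2 ∧ Nat.card H = 3 ∧ (ZOf p E).relIndex (WOf p E) = 4) ∨
    (p = 3 ∧ (ZOf p E).relIndex (WOf p E) = 9 ∧
      ∃ z : H, QuatS H z ∧ ∀ e : ↥E, ρ e = z → Inverts (e : G) (WOf p E) (ZOf p E))

structure Blk (p : ℕ) (E : Subgroup G) : Prop where
  res : LocalEven.pResOf p E = E
  sub : E.IsSubnormal
  rn : pCore p G ≤ Subgroup.normalizer (E : Set G)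
  ress : LocalEven.pResOf p (pCore p G ⊔ E) ≤ E
  qeq : pCoreOf p E = E ⊓ pCore p G
  qe : ⁅pCoreOf p E, E⁆ = pCoreOf p E
  irr : Irr E (WOf p E) (ZOf p E)
  wne : ¬ WOf p E ≤ ZOf p E
  top : ∃ (H : Type) (_ : Group H) (ρ : ↥E →* H), Function.Surjective ρ ∧
    (∀ e : ↥E, ρ e = 1 ↔ (e : G) ∈ pCore p G) ∧
    (∀ e : ↥E, ρ e = 1 ↔ Triv (e : G) (WOf p E) (ZOf p E)) ∧ TopType p E H ρ
  kind : pCoreOf p E = WOf p E ∨
    (p = 3 ∧ Irr E (pCoreOf p E) (WOf p E) ∧
      (WOf p E).relIndex (pCoreOf p E) = (ZOf p E).relIndex (WOf p E) ∧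
      (∃ b ∈ Subgroup.normalizer (E : Set G), (∃ j, orderOf b = p ^ j) ∧
        ¬ ⁅⁅pCoreOf p E, Subgroup.zpowers b⁆, Subgroup.zpowers b⁆ ≤ ZOf p E) ∧ ⁅pCoreOf p E, pCoreOf p E⁆ = ZOf p E ∧
      ⁅pCoreOf p E, pCoreOf p E⁆ ≠ ⊥ ∧
      ∃ z ∈ ⁅E, E⁆, Nat.Coprime (orderOf z) p ∧ Inverts z (pCoreOf p E) (WOf p E) ∧
        Inverts z (WOf p E) (ZOf p E))

theorem WOf_le (E : Subgroup G) : WOf p E ≤ pCoreOf p E :=
  (LocalEven2.Baumann.omegaOne_le _).trans inf_le_left

theorem WOf_comm (E : Subgroup G) {w q : G} (hw : w ∈ WOf p E) (hq : q ∈ pCoreOf p E) : q * w = w * q :=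
  Subgroup.mem_centralizer_iff.mp ((LocalEven2.Baumann.omegaOne_le _).trans inf_le_right hw) q hq

theorem WOf_pow (E : Subgroup G) {w : G} (hw : w ∈ WOf p E) : w ^ p = 1 :=
  LocalEven2.Baumann.omegaOne_pow (fun a ha b hb =>
    Subgroup.mem_centralizer_iff.mp (Subgroup.mem_inf.mp hb).2 a (Subgroup.mem_inf.mp ha).1) hw

theorem sq_one_SL2 {F : Type} [Field F] (h2 : (2 : F) ≠ 0) (x : SpecialLinearGroup (Fin 2) F)
    (hx : x * x = 1) : x = 1 ∨ x = -1 := by
  have hi : x⁻¹ = x := inv_eq_of_mul_eq_one_right hx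
  have hm : (x⁻¹ : SpecialLinearGroup (Fin 2) F).1 = x.1 := by rw [hi]
  change Matrix.adjugate x.1 = x.1 at hm
  rw [Matrix.adjugate_fin_two] at hm
  have h00 : x.1 1 1 = x.1 0 0 := by simpa using congrFun (congrFun hm 0) 0
  have h01 : -x.1 0 1 = x.1 0 1 := by simpa using congrFun (congrFun hm 0) 1
  have h10 : -x.1 1 0 = x.1 1 0 := by simpa using congrFun (congrFun hm 1) 0
  have e01 : x.1 0 1 = 0 := by
    have : (2 : F) * x.1 0 1 = 0 := by linear_combination -h01
    exact (mul_eq_zero.mp this).resolve_left h2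
  have e10 : x.1 1 0 = 0 := by
    have : (2 : F) * x.1 1 0 = 0 := by linear_combination -h10
    exact (mul_eq_zero.mp this).resolve_left h2
  have hd := x.2
  rw [Matrix.det_fin_two, h00, e01, e10, mul_zero, sub_zero] at hd
  rcases mul_self_eq_one_iff.mp hd with h | h
  · left
    refine Subtype.ext (Matrix.ext fun i j => ?_)
    fin_cases i <;> fin_cases j <;> simp_all
  · right
    refine Subtype.ext (Matrix.ext fun i j => ?_)
    fin_cases i <;> fin_cases j <;> simp_all

theorem quatS_equiv {A B : Type} [Group A] [Group B] (e : A ≃* B) {z : A} (h : QuatS A z) :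
    QuatS B (e z) := by
  obtain ⟨h1, h2, h3, h4, h5⟩ := h
  refine ⟨(Nat.card_congr e.toEquiv).symm.trans h1, ?_, fun hh => h3 (e.injective (hh.trans (map_one e).symm)), ?_, ?_⟩
  · rw [← commutator_le_of_image e.toMonoidHom e.surjective]
    exact Subgroup.mem_map_of_mem _ h2
  · intro x
    obtain ⟨a, rfl⟩ := e.surjective x
    rw [← map_mul, ← map_one e, e.injective.eq_iff, e.injective.eq_iff]
    exact h4 a
  · intro x hx
    obtain ⟨a, rfl⟩ := e.surjective x
    rw [← map_mul, ← map_one e, e.injective.eq_iff] at hx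
    exact (h5 a hx).imp (fun h => by rw [h, map_one]) (fun h => by rw [h])

noncomputable def commEquiv {A B : Type} [Group A] [Group B] (e : A ≃* B) :
    ↥(commutator A) ≃* ↥(commutator B) :=
  (e.subgroupMap (commutator A)).trans
    (MulEquiv.subgroupCongr (commutator_le_of_image e.toMonoidHom e.surjective))

/-- An image of a group generated by `p'`-elements has no non-trivial `p`-quotient. -/
theorem not_pgroup_image [Finite G] [Fact p.Prime] {E : Subgroup G} (hres : LocalEven.pResOf p E = E)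
    {H : Type} [Group H] (ρ : ↥E →* H) (hH : IsPGroup p ρ.range) : ρ.range = ⊥ := by
  rw [eq_bot_iff]
  rintro _ ⟨e, rfl⟩
  have hsub : Cfsg.pResidual p ↥E ≤ ρ.ker := by
    rw [Cfsg.pResidual, Subgroup.closure_le]
    intro g hg
    obtain ⟨k, hk⟩ := hH ⟨ρ g, g, rfl⟩
    exact LocalEven.eq_one_of_coprime_of_pow
      (Nat.Coprime.coprime_dvd_left (orderOf_map_dvd ρ g) hg) (congrArg Subtype.val hk)
  have he : (e : G) ∈ LocalEven.pResOf p E := hres.symm ▸ e.2
  obtain ⟨e', he', hee⟩ := Subgroup.mem_map.mp he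
  rw [Subgroup.mem_bot]
  exact Subtype.ext hee ▸ hsub he'

theorem relIndex_of_hom {U U₀ : Subgroup G} {M : Type*} [Group M] (ψ : ↥U →* M)
    (hker : ∀ u : ↥U, ψ u = 1 ↔ (u : G) ∈ U₀) : U₀.relIndex U = Nat.card ↥ψ.range := by
  have : U₀.subgroupOf U = ψ.ker := Subgroup.ext fun u => (hker u).symm
  rw [Subgroup.relIndex, this, Subgroup.index_ker]

theorem ker_eq_of_card [Finite G] {E : Subgroup G} {H : Type*} [Group H] (ρ : ↥E →* H)
    (hQ : ∀ e : ↥E, e ∈ pCore p ↥E → ρ e = 1)
    (hc : Nat.card ↥ρ.range = Nat.card (↥E ⧸ pCore p ↥E)) : ρ.ker = pCore p ↥E := by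
  refine (Subgroup.eq_of_le_of_card_ge (fun e he => hQ e he) (le_of_eq ?_)).symm
  have h1 := Subgroup.card_eq_card_quotient_mul_card_subgroup (pCore p ↥E)
  have h2 := Subgroup.card_eq_card_quotient_mul_card_subgroup ρ.ker
  rw [← Nat.card_congr (QuotientGroup.quotientKerEquivRange ρ).toEquiv] at hc
  rw [hc, h1] at h2
  exact (Nat.eq_of_mul_eq_mul_left Nat.card_pos h2).symm

theorem sl2_triv_iff {F : Type} [Field F] {E U U₀ : Subgroup G} (ρ : ↥E →* SpecialLinearGroup (Fin 2) F)
    (ψ : ↥U →* Multiplicative (Fin 2 → F)) (hψ : Function.Surjective ψ)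
    (hker : ∀ u : ↥U, ψ u = 1 ↔ (u : G) ∈ U₀)
    (heq : ∀ (e : ↥E) (u : ↥U), ∃ w : ↥U, (w : G) = (e : G) * (u : G) * (e : G)⁻¹ ∧
      Multiplicative.toAdd (ψ w) = (ρ e).1.mulVec (Multiplicative.toAdd (ψ u))) (e : ↥E) :
    (ρ e = 1 ↔ Triv (e : G) U U₀) ∧ (ρ e = -1 → Inverts (e : G) U U₀) := by
  refine ⟨⟨fun h u hu => ?_, fun h => ?_⟩, fun h u hu => ?_⟩
  · obtain ⟨w, hw, hv⟩ := heq e ⟨u, hu⟩
    rw [h] at hv
    change _ = (1 : Matrix (Fin 2) (Fin 2) F).mulVec _ at hv
    rw [Matrix.one_mulVec] at hv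
    have h1 : ψ (w * ⟨u, hu⟩⁻¹) = 1 := by
      rw [map_mul, map_inv, Multiplicative.toAdd.injective hv, mul_inv_cancel]
    have := (hker _).mp h1
    simpa [hw] using this
  · refine Subtype.ext (Matrix.ext_of_mulVec_single fun i => ?_)
    obtain ⟨u, hu⟩ := hψ (Multiplicative.ofAdd (Pi.single i 1))
    obtain ⟨w, hw, hv⟩ := heq e u
    have h1 : (w * u⁻¹ : ↥U).1 ∈ U₀ := by simpa [hw] using h u.1 u.2
    have h2 := (hker _).mpr h1
    rw [map_mul, map_inv, mul_inv_eq_one] at h2
    rw [h2, hu, toAdd_ofAdd] at hv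
    change _ = (1 : Matrix (Fin 2) (Fin 2) F).mulVec _
    rw [Matrix.one_mulVec]
    exact hv.symm
  · obtain ⟨w, hw, hv⟩ := heq e ⟨u, hu⟩
    rw [h] at hv
    change _ = (-1 : Matrix (Fin 2) (Fin 2) F).mulVec _ at hv
    rw [Matrix.neg_mulVec, Matrix.one_mulVec] at hv
    have h1 : ψ (w * ⟨u, hu⟩) = 1 := by
      rw [map_mul]
      apply Multiplicative.toAdd.injective
      rw [toAdd_mul, hv, toAdd_one, neg_add_cancel]
    have := (hker _).mp h1
    simpa [hw] using this

noncomputable def slEquiv {R S : Type} [CommRing R] [CommRing S] (f : R ≃+* S) :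
    SpecialLinearGroup (Fin 2) R ≃* SpecialLinearGroup (Fin 2) S where
  toFun := SpecialLinearGroup.map f.toRingHom
  invFun := SpecialLinearGroup.map f.symm.toRingHom
  left_inv x := Subtype.ext (Matrix.ext fun i j => f.symm_apply_apply _)
  right_inv x := Subtype.ext (Matrix.ext fun i j => f.apply_symm_apply _)
  map_mul' := map_mul _

theorem quasi_or_small [Finite G] [Fact p.Prime] {E : Subgroup G} (hres : LocalEven.pResOf p E = E)
    {F : Type} [Field F] [Fintype F] {n : ℕ} (hcard : Fintype.card F = p ^ n)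
    (ρ : ↥E →* SpecialLinearGroup (Fin 2) F) (hρ : ρ.range = commutator _) :
    (QuasiS ↥ρ.range ∧ 4 ≤ Fintype.card F) ∨ (p = 2 ∧ Fintype.card F = 2 ∧ Nat.card ↥ρ.range = 3) ∨
      (p = 3 ∧ Fintype.card F = 3 ∧ ∃ z : ↥ρ.range, QuatS ↥ρ.range z ∧ (z : SpecialLinearGroup (Fin 2) F) = -1) := by
  rw [hρ]
  rcases Nat.lt_or_ge (Fintype.card F) 4 with h | h
  swap
  · exact Or.inl ⟨(sl2_quasi (by rwa [Nat.card_eq_fintype_card])).2, h⟩
  have h2 : 1 < Fintype.card F := Fintype.one_lt_card
  have hp := (Fact.out : p.Prime)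
  right
  have hn : n = 1 ∧ p = Fintype.card F := by
    rcases n with - | - | n
    · simp at hcard; omega
    · simp at hcard; exact ⟨rfl, hcard.symm⟩
    · exfalso
      have : 2 ^ 2 ≤ p ^ (n + 1 + 1) := (Nat.pow_le_pow_left hp.two_le 2).trans
        (Nat.pow_le_pow_right hp.pos (by omega))
      omega
  obtain ⟨-, hpF⟩ := hn
  rcases (show Fintype.card F = 2 ∨ Fintype.card F = 3 by omega) with hF | hF
  · left
    refine ⟨hpF.trans hF, hF, ?_⟩
    let e := slEquiv (ZMod.ringEquivOfPrime F Nat.prime_two hF)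
    rw [← Nat.card_congr (commEquiv e).toEquiv]
    exact sl22_card_comm
  · right
    refine ⟨hpF.trans hF, hF, ?_⟩
    let e := slEquiv (ZMod.ringEquivOfPrime F Nat.prime_three hF)
    have hq := quatS_equiv (commEquiv e) sl23_quat
    refine ⟨_, hq, ?_⟩
    obtain ⟨-, -, hne, hsq, -⟩ := hq
    set z := commEquiv e _ with hz
    have hzz : z * z = 1 := by
      rcases hsq z with h | h
      · exact h
      · exact absurd (mul_eq_left.mp h) hne
    have h23 : (2 : F) ≠ 0 := by
      haveI : CharP F 3 := charP_of_card_eq_prime hF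
      intro h
      have : ((2 : ℕ) : F) = 0 := by exact_mod_cast h
      have := (CharP.cast_eq_zero_iff F 3 2).mp this
      omega
    exact (sq_one_SL2 h23 _ (congrArg Subtype.val hzz)).resolve_left fun h => hne (Subtype.ext h)

theorem triv_core {E : Subgroup G} {x : G} (hx : x ∈ pCoreOf p E) : Triv x (WOf p E) (ZOf p E) :=
  fun u hu => by rw [WOf_comm E hu hx]; simp [one_mem]

theorem core_ker [Finite G] [Fact p.Prime] {E : Subgroup G} (hsub : E.IsSubnormal) (x : ↥E) :
    x ∈ pCore p ↥E ↔ (x : G) ∈ pCore p G := by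
  constructor
  · intro hx
    exact LocalEven.pCoreOf_le_pCore_of_subnormal hsub (Subgroup.mem_map_of_mem E.subtype hx)
  · intro hx
    have := LocalEven.le_pCore_of_subnormal (G := ↥E) (p := p)
      (A := (pCore p G).subgroupOf E) ?_ ?_
    · exact this hx
    · exact (inferInstance : ((pCore p G).subgroupOf E).Normal).isSubnormal
    · exact ((LocalEven2.pCore_isPGroup p G).comap_subtype (K := E))

theorem Blk.of_block [Finite G] [Fact p.Prime] (T : Subgroup G) (hT : IsPGroup p T) {E : Subgroup G}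
    (hE : Cfsg.IsBaumannBlock p T E) (hsub : E.IsSubnormal) : Blk p E := by
  obtain ⟨hres, hEB, hqe, hZT, hc⟩ := hE
  have hres' : LocalEven.pResOf p E = E := hres
  obtain ⟨hn1, hn2⟩ := LocalEven.pCore_le_normalizer_of_subnormal (p := p) hsub
  rw [hres'] at hn1 hn2
  have hqeq : pCoreOf p E = E ⊓ pCore p G := by
    apply le_antisymm
    · exact le_inf (LocalEven2.pCoreOf_le E) (LocalEven.pCoreOf_le_pCore_of_subnormal hsub)
    · intro x hx
      exact Subgroup.mem_map_of_mem E.subtype ((core_ker hsub ⟨x, hx.1⟩).mpr hx.2)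
  have hcore : ∀ e : ↥E, e ∈ pCore p ↥E → (e : G) ∈ pCoreOf p E :=
    fun e he => Subgroup.mem_map_of_mem E.subtype he
  rcases hc with ⟨F, _, _, n, hFc, ⟨iso⟩, hW, hkind⟩ | ⟨hp2, m, ⟨iso⟩, hW, hQW⟩
  · have hirr : Irr E (WOf p E) (ZOf p E) := fun Y hY hEY =>
      LocalEven2.Baumann.invariant_section hW hY hEY
    obtain ⟨-, -, ρ, ψ, hρ, hψ, hker, heq⟩ := hW
    have htr := sl2_triv_iff ρ ψ hψ hker heq
    have hkq : ρ.ker = pCore p ↥E := ker_eq_of_card ρ
      (fun e he => (htr e).1.mpr (triv_core (hcore e he)))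
      (by rw [hρ]; exact (Nat.card_congr iso.toEquiv).symm)
    have hZW : (ZOf p E).relIndex (WOf p E) = Fintype.card F ^ 2 := by
      rw [relIndex_of_hom ψ hker, MonoidHom.range_eq_top.mpr hψ, Subgroup.card_top,
        Nat.card_congr Multiplicative.toAdd, Nat.card_eq_fintype_card]
      simp
    refine ⟨hres', hsub, hn1, hn2, hqeq, hqe, hirr, ?_, ⟨↥ρ.range, inferInstance, ρ.rangeRestrict,
      ρ.rangeRestrict_surjective, fun e => ?_, fun e => ?_, ?_⟩, ?_⟩
    · intro hle
      have := Subgroup.relIndex_eq_one.mpr hle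
      rw [hZW] at this
      have h2 : 1 < Fintype.card F := Fintype.one_lt_card
      nlinarith
    · rw [← core_ker hsub, ← hkq, MonoidHom.mem_ker, Subtype.ext_iff]; rfl
    · rw [← (htr e).1, Subtype.ext_iff]; rfl
    · rcases quasi_or_small hres' hFc ρ hρ with ⟨h, -⟩ | ⟨hp, hF, h3⟩ | ⟨hp, hF, z, hz, hz1⟩
      · exact Or.inl h
      · exact Or.inr (Or.inl ⟨hp, h3, by rw [hZW, hF]; norm_num⟩)
      · refine Or.inr (Or.inr ⟨hp, by rw [hZW, hF]; norm_num, z, hz, fun e he => (htr e).2 ?_⟩)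
        rw [← hz1, ← he]; rfl
    · rcases hkind with hk | ⟨hp3, hQ, hQQ, -, hZe, hZn, hquad⟩
      · exact Or.inl hk
      have hirrQ : Irr E (pCoreOf p E) (WOf p E) := fun Y hY hEY =>
        LocalEven2.Baumann.invariant_section hQ hY hEY
      refine Or.inr ⟨hp3, hirrQ, ?_, ?_, hQQ, ?_, ?_⟩
      · obtain ⟨-, -, ρ', ψ', hρ', hψ', hker', heq'⟩ := hQ
        rw [hZW, relIndex_of_hom ψ' hker', MonoidHom.range_eq_top.mpr hψ', Subgroup.card_top,
          Nat.card_congr Multiplicative.toAdd, Nat.card_eq_fintype_card]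
        simp
      · have hn : E ≤ Subgroup.normalizer (WOf p E : Set G) :=
          le_trans (Lib.FusionControl.le_normalizer_map_subtype (pCore p ↥E))
            (LocalEven2.Baumann.omegaOneCenter_normalizer (p := p) (X := pCoreOf p E))
        obtain ⟨b, hb, hbW⟩ : ∃ b ∈ baumannSubgroupOf p T, b ∉ Subgroup.centralizer (WOf p E : Set G) := by
          by_contra hall
          push Not at hall
          have hEC : E ≤ Subgroup.centralizer (WOf p E : Set G) := by
            refine hEB.ge.trans (Subgroup.commutator_le.mpr fun e he b hb => ?_)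
            rw [commutatorElement_def]
            refine mul_mem ?_ (inv_mem (hall b hb))
            rw [Subgroup.mem_centralizer_iff]
            intro w hw
            have h1 : e⁻¹ * w * e ∈ WOf p E := (Subgroup.mem_normalizer_iff''.mp (hn he) w).mp hw
            calc w * (e * b * e⁻¹) = e * ((e⁻¹ * w * e) * b) * e⁻¹ := by group
              _ = e * (b * (e⁻¹ * w * e)) * e⁻¹ := by rw [Subgroup.mem_centralizer_iff.mp (hall b hb) _ h1]
              _ = e * b * e⁻¹ * w := by group
          have hle : WOf p E ≤ ZOf p E := le_inf le_rfl (Subgroup.le_centralizer_iff.mp hEC)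
          have := Subgroup.relIndex_eq_one.mpr hle
          rw [hZW] at this
          have h2 : 1 < Fintype.card F := Fintype.one_lt_card
          nlinarith
        refine ⟨b, LocalEven2.Baumann.baumann_le_normalizer hEB hb, ?_, ?_⟩
        · obtain ⟨j, hj⟩ := IsPGroup.iff_orderOf.mp hT ⟨b, LocalEven2.Baumann.baumann_le T hb⟩
          exact ⟨j, by rw [← hj, Subgroup.orderOf_mk]⟩
        · intro hcon; exact hquad b hb hbW (hcon.trans hZe.ge)
      · intro h0
        rw [hQQ, ← hZe] at h0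
        rw [h0, Subgroup.card_bot] at hZn
        rcases n with - | n
        · simp at hFc
          exact absurd hFc (Fintype.one_lt_card (α := F)).ne'
        · rw [pow_succ] at hZn
          have : 0 < 3 ^ n := pow_pos (by norm_num) n
          omega
      obtain ⟨-, -, ρ', ψ', hρ', hψ', hker', heq'⟩ := hQ
      have htr' := sl2_triv_iff ρ' ψ' hψ' hker' heq'
      have hkq' : ρ'.ker = pCore p ↥E := ker_eq_of_card ρ'
        (fun e he => (htr' e).1.mpr fun u hu => by
          have : ⁅(e : G), u⁆ ∈ ⁅pCoreOf p E, pCoreOf p E⁆ :=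
            Subgroup.commutator_mem_commutator (hcore e he) hu
          rw [hQQ] at this
          exact this.1)
        (by rw [hρ']; exact (Nat.card_congr iso.toEquiv).symm)
      subst hp3
      have h23 : (2 : F) ≠ 0 := by
        intro h
        have h3 : ((3 ^ n : ℕ) : F) = 0 := by rw [← hFc]; exact FiniteField.cast_card_eq_zero F
        rw [Nat.cast_pow] at h3
        have : (3 : F) = 0 := by exact_mod_cast (eq_zero_of_pow_eq_zero h3)
        exact one_ne_zero (α := F) (by linear_combination this - h)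
      have hneg : (-1 : SpecialLinearGroup (Fin 2) F) ≠ 1 := by
        intro h
        have := congrFun (congrFun (congrArg Subtype.val h) 0) 0
        simp [SpecialLinearGroup.coe_neg] at this
        exact h23 (by linear_combination -this)
      have hzc : (-1 : SpecialLinearGroup (Fin 2) F) ∈ (commutator ↥ρ.range).map ρ.range.subtype := by
        rcases quasi_or_small hres' hFc ρ hρ with h | ⟨h', -⟩ | ⟨-, -, z, hz, hz1⟩
        · rw [h.1.1, ← MonoidHom.range_eq_map, Subgroup.range_subtype, hρ]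
          rw [(sl2_quasi (by rw [Nat.card_eq_fintype_card]; exact h.2)).1]; trivial
        · omega
        · exact ⟨z, hz.2.1, hz1⟩
      rw [← commutator_le_of_image ρ.rangeRestrict ρ.rangeRestrict_surjective, Subgroup.map_map] at hzc
      obtain ⟨e, he, hez⟩ := hzc
      have hez' : ρ e = -1 := hez
      set k := (orderOf e).factorization 3 with hk
      set e₀ := e ^ 3 ^ k with he₀
      have hodd : Odd (3 ^ k) := Odd.pow (by decide)
      have hρe₀ : ρ e₀ = -1 := by
        rw [he₀, map_pow, hez', hodd.neg_one_pow]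
      have hρ'e₀ : ρ' e₀ = -1 := by
        refine (sq_one_SL2 h23 _ ?_).resolve_left fun h1 => hneg ?_
        · have h1 : e₀ * e₀ ∈ ρ.ker := by
            rw [MonoidHom.mem_ker, map_mul, hρe₀]; simp
          rw [hkq, ← hkq'] at h1
          rw [← map_mul]; exact h1
        · have : e₀ ∈ ρ'.ker := h1
          rw [hkq', ← hkq, MonoidHom.mem_ker, hρe₀] at this
          exact this
      refine ⟨e₀, ?_, ?_, (htr' e₀).2 hρ'e₀, (htr e₀).2 hρe₀⟩
      · rw [← Subgroup.map_subtype_commutator]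
        exact Subgroup.mem_map_of_mem E.subtype (pow_mem he _)
      · rw [Subgroup.orderOf_coe, he₀, orderOf_pow]
        have hd : 3 ^ k ∣ orderOf e := Nat.ordProj_dvd _ _
        rw [Nat.gcd_eq_right hd]
        exact (Nat.coprime_ordCompl Nat.prime_three (orderOf_pos e).ne').symm
  · have hmo : Odd (2 * m + 1) := odd_two_mul_add_one m
    have hirr : Irr E (WOf p E) (ZOf p E) := fun Y hY hEY =>
      LocalEven2.Baumann.invariant_section_alt hmo hW hY hEY
    obtain ⟨-, -, ρ, ψ, hρ, heven, hsurj, hker, heq⟩ := hW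
    have hm0 : m ≠ 0 := by
      rintro rfl
      have h1 : Nat.card (↥E ⧸ pCore p ↥E) = 1 := by
        rw [Nat.card_congr iso.toEquiv, Nat.card_eq_fintype_card]; rfl
      have hp' : IsPGroup p ↥(pCore p ↥E) := LocalEven2.pCore_isPGroup p _
      have htop : pCore p ↥E = ⊤ := Subgroup.index_eq_one.mp h1
      rw [htop] at hp'
      have : LocalEven.pResOf p E = ⊥ :=
        LocalEven.pResOf_eq_bot_of_isPGroup (hp'.of_equiv Subgroup.topEquiv)
      rw [hres'] at this
      subst this
      exact hZT (Subgroup.commutator_bot_left _)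
    have htr : ∀ e : ↥E, ρ e = 1 ↔ Triv (e : G) (WOf p E) (ZOf p E) := by
      intro e
      refine ⟨fun h u hu => ?_, fun h => ?_⟩
      · obtain ⟨w, hw, hv⟩ := heq e ⟨u, hu⟩
        have h1 : ψ (w * ⟨u, hu⟩⁻¹) = 1 := by
          rw [map_mul, map_inv, mul_inv_eq_one]
          exact Multiplicative.toAdd.injective (funext fun i => by rw [hv, h]; simp)
        simpa [hw] using (hker _).mp h1
      · ext i : 1
        by_contra hne
        rw [Equiv.Perm.one_apply] at hne
        obtain ⟨j, hji, hjx⟩ : ∃ j, j ≠ i ∧ j ≠ ρ e i := by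
          have : ({i, ρ e i} : Finset (Fin (2 * m + 1))) ≠ Finset.univ := fun hu => by
            have := congrArg Finset.card hu
            have h2 := Finset.card_le_two (a := i) (b := ρ e i)
            rw [Finset.card_univ, Fintype.card_fin] at this
            omega
          obtain ⟨j, hj⟩ : ∃ j, j ∉ ({i, ρ e i} : Finset (Fin (2 * m + 1))) := by
            by_contra hall; exact this (Finset.eq_univ_iff_forall.mpr fun j => not_not.mp fun hj => hall ⟨j, hj⟩)
          simp at hj; exact ⟨j, hj.1, hj.2⟩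
        obtain ⟨u, hu⟩ := hsurj (Pi.single i 1 + Pi.single j 1) (by
          simp [Finset.sum_add_distrib]; decide)
        obtain ⟨w, hw, hv⟩ := heq e u
        have h1 : ((w * u⁻¹ : ↥(WOf p E)) : G) ∈ ZOf p E := by simpa [hw] using h u.1 u.2
        have h2 := (hker _).mpr h1
        rw [map_mul, map_inv, mul_inv_eq_one] at h2
        have := hv (ρ e i)
        rw [h2, hu] at this
        simp [Pi.single_apply, hne, hji.symm, hjx.symm] at this
    have hkq : ρ.ker = pCore p ↥E := ker_eq_of_card ρ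
      (fun e he => (htr e).mpr (triv_core (hcore e he)))
      (by rw [hρ]; exact (Nat.card_congr iso.toEquiv).symm)
    refine ⟨hres', hsub, hn1, hn2, hqeq, hqe, hirr, ?_, ⟨↥ρ.range, inferInstance, ρ.rangeRestrict,
      ρ.rangeRestrict_surjective, fun e => ?_, fun e => ?_, ?_⟩, Or.inl hQW⟩
    · intro hle
      obtain ⟨u, hu⟩ := hsurj (Pi.single ⟨0, by omega⟩ 1 + Pi.single ⟨1, by omega⟩ 1) (by
        simp [Finset.sum_add_distrib]; decide)
      have := congrFun ((congrArg Multiplicative.toAdd ((hker u).mpr (hle u.2))).symm.trans hu) ⟨0, by omega⟩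
      simp [Pi.single_apply] at this
    · rw [← core_ker hsub, ← hkq, MonoidHom.mem_ker, Subtype.ext_iff]; rfl
    · rw [← htr, Subtype.ext_iff]; rfl
    · rcases Nat.lt_or_ge (2 * m + 1) 5 with h5 | h5
      · obtain rfl : m = 1 := by omega
        refine Or.inr (Or.inl ⟨hp2, ?_, ?_⟩)
        · rw [hρ, Nat.card_eq_fintype_card]; rfl
        · rw [relIndex_of_hom ψ hker]
          have : (ψ.range : Set (Multiplicative (Fin 3 → ZMod 2))) = {v : Multiplicative (Fin 3 → ZMod 2) | ∑ i, Multiplicative.toAdd v i = 0} := by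
            ext v
            refine ⟨fun ⟨u, hu⟩ => hu ▸ heven u, fun hv => ?_⟩
            obtain ⟨u, hu⟩ := hsurj _ hv
            exact ⟨u, Multiplicative.toAdd.injective hu⟩
          refine (Nat.card_congr (Equiv.setCongr this)).trans ?_
          rw [Nat.card_eq_fintype_card]
          rfl
      · exact Or.inl (by rw [hρ]; exact alt_quasi h5)

end Cfsg.Agent.Lib.SubnBlock
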