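import Cfsg.Agent.Lib.SubnBlock.SameModule

set_option autoImplicit false

/-!
The exceptional block: an element centralising the module centralises the whole core.
-/

namespace Cfsg.Agent.Lib.SubnBlock

open Cfsg
open scoped commutatorElement Pointwise

universe u
variable {G : Type u} [Group G] {p : ℕ} [Finite G] [hp : Fact p.Prime] {E F : Subgroup G}

theorem le_normalizer_sup' {K A B : Subgroup G} (hA : K ≤ Subgroup.normalizer (A : Set G))
    (hB : K ≤ Subgroup.normalizer (B : Set G)) :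
    K ≤ Subgroup.normalizer ((A ⊔ B : Subgroup G) : Set G) := fun k hk => by
  rw [Subgroup.mem_normalizer_iff_map_conj_eq, Subgroup.map_sup,
    Subgroup.mem_normalizer_iff_map_conj_eq.mp (hA hk), Subgroup.mem_normalizer_iff_map_conj_eq.mp (hB hk)]

theorem pgroup_rank_two {M : Type*} [CommGroup M] [Finite M] (hc : Nat.card M ≤ p ^ 2) (hM : IsPGroup p M)
    (β : MulAut M) (hβ : IsPGroup p ↥(Subgroup.zpowers β)) :
    ∀ m : M, β (β m * m⁻¹) = β m * m⁻¹ := by
  classical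
  let δ : M →* M := MonoidHom.mk' (fun m => β m * m⁻¹) (fun a b => by rw [map_mul, mul_inv_rev, mul_comm (b⁻¹) a⁻¹]; exact mul_mul_mul_comm _ _ _ _)
  have fixed : ∀ K : Subgroup M, K ≠ ⊥ → (∀ m ∈ K, β m ∈ K) → ∃ m ∈ K, m ≠ 1 ∧ β m = m := by
    intro K hK hinv
    have hKmap : ∀ γ ∈ Subgroup.zpowers β, ∀ m ∈ K, γ m ∈ K := by
      intro γ hγ
      obtain ⟨i, hi⟩ := mem_powers_iff_mem_zpowers.mpr hγ
      subst hi
      intro m hm
      induction i with
      | zero => simpa using hm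
      | succ i ih =>
        show (β ^ (i + 1)) m ∈ K
        rw [pow_succ']; exact hinv _ (ih (by exact Subgroup.pow_mem _ (Subgroup.mem_zpowers β) i))
    letI : MulAction ↥(Subgroup.zpowers β) ↥K :=
      { smul := fun g m => ⟨(g : MulAut M) m, hKmap g g.2 m m.2⟩
        one_smul := fun m => Subtype.ext rfl
        mul_smul := fun g h m => Subtype.ext rfl }
    haveI : Nontrivial ↥K := (Subgroup.nontrivial_iff_ne_bot K).mpr hK
    obtain ⟨k, hk, hcard⟩ := (hM.to_subgroup K).nontrivial_iff_card.mp inferInstance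
    obtain ⟨m, hm, hm1⟩ := hβ.exists_fixed_point_of_prime_dvd_card_of_fixed_point ↥K
      (hcard ▸ dvd_pow_self p hk.ne') (a := 1) (fun g => Subtype.ext (map_one (g : MulAut M)))
    refine ⟨m, m.2, fun h => hm1 (Subtype.ext h.symm), ?_⟩
    exact congrArg Subtype.val (hm ⟨β, Subgroup.mem_zpowers β⟩)
  have hmemk : ∀ {m : M}, m ∈ δ.ker ↔ β m = m := fun {m} => mul_inv_eq_one
  by_cases htop : (⊤ : Subgroup M) = ⊥
  · intro m
    have : ∀ x : M, x = 1 := fun x => Subgroup.mem_bot.mp (htop.le (Subgroup.mem_top x))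
    rw [this (β m * m⁻¹)]; exact map_one β
  obtain ⟨m0, -, hm0, hm0f⟩ := fixed ⊤ htop (fun _ _ => trivial)
  intro m
  by_cases hm1 : δ.range = ⊥
  · have : β m * m⁻¹ = 1 := Subgroup.mem_bot.mp (hm1.le ⟨m, rfl⟩)
    rw [this]; exact map_one β
  obtain ⟨m1, hm1r, hm1n, hm1f⟩ := fixed δ.range hm1 (by
    rintro _ ⟨a, rfl⟩
    exact ⟨β a, by show β (β a) * (β a)⁻¹ = β (β a * a⁻¹); rw [map_mul, map_inv]⟩)
  obtain ⟨a, ha, hKer⟩ := (hM.to_subgroup δ.ker).nontrivial_iff_card.mp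
    ((Subgroup.nontrivial_iff_ne_bot _).mpr fun h => hm0 (Subgroup.mem_bot.mp (h.le (hmemk.mpr hm0f))))
  obtain ⟨b, hb, hRan⟩ := (hM.to_subgroup δ.range).nontrivial_iff_card.mp ((Subgroup.nontrivial_iff_ne_bot _).mpr hm1)
  have hmul : Nat.card δ.ker * Nat.card δ.range = Nat.card M := by
    rw [← Nat.card_congr (QuotientGroup.quotientKerEquivRange δ).toEquiv, mul_comm,
      ← Subgroup.card_eq_card_quotient_mul_card_subgroup]
  have hb1 : b = 1 := by
    rw [hKer, hRan, ← pow_add] at hmul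
    have := (Nat.pow_le_pow_iff_right hp.out.one_lt).mp (hmul.le.trans hc)
    omega
  have hone : δ.range = Subgroup.zpowers m1 := by
    refine (Subgroup.eq_of_le_of_card_ge (Subgroup.zpowers_le.mpr hm1r) ?_).symm
    rw [hRan, hb1, pow_one, Nat.card_zpowers]
    refine (orderOf_eq_prime ?_ hm1n).ge
    have h := pow_card_eq_one' (x := (⟨m1, hm1r⟩ : ↥δ.range))
    rw [hRan, hb1, pow_one] at h
    exact congrArg Subtype.val h
  obtain ⟨i, hi⟩ := Subgroup.mem_zpowers_iff.mp (hone.le ⟨m, rfl⟩ : δ m ∈ Subgroup.zpowers m1)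
  show β (δ m) = δ m
  rw [← hi, map_zpow, hm1f]

variable (hE : Blk p E) (hF : Blk p F) (hEF : E ≤ Subgroup.normalizer (F : Set G))
  (hFE : F ≤ Subgroup.normalizer (E : Set G))

include hE hF hEF hFE

theorem core_le_of_moves (hm : Moves p F E) (hk : pCoreOf p E ≠ WOf p E)
    (hsame : ∀ e ∈ E, ∃ f ∈ F, e * f⁻¹ ∈ trivGrp (WOf p E) (ZOf p E)) :
    pCoreOf p E ≤ pCoreOf p F ∧ pCoreOf p F ≠ WOf p F := by
  rcases hE.kind with hk' | ⟨hp3, hirr, -, -, hQQ, hne, z, hzEE, hzc, hzQ, hzW⟩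
  · exact absurd hk' hk
  subst hp3
  have hne' : ¬ pCoreOf 3 E ≤ WOf 3 E := fun h => hk (le_antisymm h (WOf_le E))
  have hQn : pCoreOf 3 E ≤ Subgroup.normalizer (WOf 3 E : Set G) :=
    le_normalizer_of_conj fun q hq w hw => by rw [WOf_comm E hw hq, mul_inv_cancel_right]; exact hw
  have hNQ : Subgroup.normalizer (E : Set G) ≤
      Subgroup.normalizer (pCoreOf 3 E : Set G) ⊓ Subgroup.normalizer (WOf 3 E : Set G) := le_inf (nQ E) (nW E)
  set D := ⁅pCoreOf 3 E, F⁆ with hD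
  have hD1 : D ≤ pCoreOf 3 E := commutator_le_left (hFE.trans (nQ E))
  have hD2 : D ≤ pCoreOf 3 F := by
    intro x hx
    refine hF.memQ ?_ (hE.Q_le_R (hD1 hx))
    have : ⁅F, pCoreOf 3 E⁆ ≤ F := commutator_le_left (hE.Q_le_R.trans hF.rn)
    exact this (by rwa [hD, Subgroup.commutator_comm] at hx)
  have hDn : E ≤ Subgroup.normalizer (D : Set G) :=
    LocalEven2.Baumann.le_normalizer_commutator (Subgroup.le_normalizer.trans (nQ E)) hEF
  rcases hirr (D ⊔ WOf 3 E) (sup_le hD1 (WOf_le E)) (le_normalizer_sup' hDn (Subgroup.le_normalizer.trans (nW E))) with h | h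
  · exfalso
    have hFT : ∀ f ∈ F, f ∈ trivGrp (pCoreOf 3 E) (WOf 3 E) := fun f hf => ⟨hNQ (hFE hf), fun q hq =>
      h (Subgroup.mem_sup_left (by rw [hD, Subgroup.commutator_comm]; exact Subgroup.commutator_mem_commutator hf hq))⟩
    have hQT : ∀ q ∈ pCoreOf 3 E, q ∈ trivGrp (pCoreOf 3 E) (WOf 3 E) := fun q hq =>
      ⟨hNQ (Subgroup.le_normalizer (LocalEven2.pCoreOf_le E hq)), fun q' hq' =>
        (hQQ.le (Subgroup.commutator_mem_commutator hq hq')).1⟩
    have hEE : ⁅E, E⁆ ≤ trivGrp (pCoreOf 3 E) (WOf 3 E) := by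
      refine Subgroup.commutator_le.mpr fun e₁ he₁ e₂ he₂ => ?_
      rw [commutatorElement_def]
      obtain ⟨f, hf, hef⟩ := hsame e₂ he₂
      set c := e₁ * f * e₁⁻¹ * f⁻¹ with hc
      have hcE : c ∈ E := by
        rw [hc, show e₁ * f * e₁⁻¹ * f⁻¹ = e₁ * (f * e₁⁻¹ * f⁻¹) by group]
        exact mul_mem he₁ ((Subgroup.mem_normalizer_iff.mp (hFE hf) _).mp (inv_mem he₁))
      have hcT : c ∈ trivGrp (pCoreOf 3 E) (WOf 3 E) :=
        mul_mem (trivGrp_conj (hNQ (Subgroup.le_normalizer he₁)) (hFT f hf)) (inv_mem (hFT f hf))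
      set a := e₂ * f⁻¹ with ha
      have haT : ∀ g ∈ Subgroup.normalizer (E : Set G), g * a * g⁻¹ ∈ trivGrp (WOf 3 E) (ZOf 3 E) :=
        fun g hg => trivGrp_conj (nWZ E hg) hef
      have hd : (e₁ * e₂ * e₁⁻¹ * e₂⁻¹) * c⁻¹ ∈ trivGrp (WOf 3 E) (ZOf 3 E) := by
        rw [show (e₁ * e₂ * e₁⁻¹ * e₂⁻¹) * c⁻¹ =
          (e₁ * a * e₁⁻¹) * ((e₁ * f * e₁⁻¹ * f⁻¹) * a⁻¹ * (e₁ * f * e₁⁻¹ * f⁻¹)⁻¹) by rw [hc, ha]; group]
        refine mul_mem (haT e₁ (Subgroup.le_normalizer he₁)) ?_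
        have := inv_mem (haT c (Subgroup.le_normalizer hcE))
        rwa [show (c * a * c⁻¹)⁻¹ = c * a⁻¹ * c⁻¹ by group] at this
      have hdE : (e₁ * e₂ * e₁⁻¹ * e₂⁻¹) * c⁻¹ ∈ E :=
        mul_mem (mul_mem (mul_mem (mul_mem he₁ he₂) (inv_mem he₁)) (inv_mem he₂)) (inv_mem hcE)
      have := mul_mem (hQT _ (hE.memQ hdE (hE.mem_R_of_triv hdE hd.2))) hcT
      rwa [inv_mul_cancel_right] at this
    apply hne'
    intro q hq
    have h1 := (hEE hzEE).2 q hq
    have h2 := hzQ q hq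
    have hsq : q * q ∈ WOf 3 E := by
      have := mul_mem (inv_mem h1) h2
      rwa [show (z * q * z⁻¹ * q⁻¹)⁻¹ * (z * q * z⁻¹ * q) = q * q by group] at this
    obtain ⟨k, hk'⟩ := Q_isPGroup (p := 3) E ⟨q, hq⟩
    have hk'' : q ^ 3 ^ k = 1 := congrArg Subtype.val hk'
    have hodd : (3 ^ k) % 2 = 1 := by rw [Nat.pow_mod]; simp
    obtain ⟨j, hj⟩ : ∃ j, 3 ^ k = 2 * j + 1 := ⟨3 ^ k / 2, by omega⟩
    rw [hj, pow_succ, pow_mul, pow_two] at hk''
    rw [eq_inv_of_mul_eq_one_right hk'']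
    exact inv_mem (pow_mem hsq j)
  · have hQle : pCoreOf 3 E ≤ D ⊔ WOf 3 E := h.trans (sup_le le_rfl le_sup_right)
    have hdec : ∀ q ∈ pCoreOf 3 E, ∃ d ∈ D, ∃ w ∈ WOf 3 E, q = d * w := fun q hq => by
      have hmem : q ∈ ((D : Set G) * (WOf 3 E : Set G)) := by
        rw [← Subgroup.coe_mul_of_left_le_normalizer_right D (WOf 3 E) (hD1.trans hQn)]
        exact hQle hq
      obtain ⟨d, hd, w, hw, hdw⟩ := hmem
      exact ⟨d, hd, w, hw, hdw.symm⟩
    have hcom : ⁅pCoreOf 3 E, pCoreOf 3 E⁆ ≤ ⁅D, D⁆ := Subgroup.commutator_le.mpr fun a ha b hb => by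
      obtain ⟨d, hd, w, hw, rfl⟩ := hdec a ha
      obtain ⟨d', hd', w', hw', rfl⟩ := hdec b hb
      have h1 : ⁅d * w, d' * w'⁆ = ⁅d, d'⁆ := by
        have c1 : w * (d' * w') * w⁻¹ = d' * w' := by
          rw [← WOf_comm E hw hb, mul_inv_cancel_right]
        have c2 : d * w' * d⁻¹ = w' := by
          rw [WOf_comm E hw' (hD1 hd), mul_inv_cancel_right]
        calc ⁅d * w, d' * w'⁆ = d * (w * (d' * w') * w⁻¹) * d⁻¹ * (d' * w')⁻¹ := by rw [commutatorElement_def]; group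
          _ = (d * d' * d⁻¹) * (d * w' * d⁻¹) * (d' * w')⁻¹ := by rw [c1]; group
          _ = ⁅d, d'⁆ := by rw [c2, commutatorElement_def]; group
      rw [h1]
      exact Subgroup.commutator_mem_commutator hd hd'
    refine ⟨?_, fun hkF => hne (eq_bot_iff.mpr (hcom.trans (le_of_eq ?_)))⟩
    · refine hQle.trans (sup_le hD2 ?_)
      refine (moves_cover hE hF hEF hFE hm).1.trans (sup_le (inf_le_right.trans (WOf_le F)) ?_)
      rw [← hQQ]
      exact hcom.trans ((Subgroup.commutator_mono hD2 hD2).trans (Subgroup.commutator_le.mpr fun a ha b hb =>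
        mul_mem (mul_mem (mul_mem ha hb) (inv_mem ha)) (inv_mem hb)))
    · rw [Subgroup.commutator_eq_bot_iff_le_centralizer]
      exact fun a ha => Subgroup.mem_centralizer_iff.mpr fun b hb => W_abel (hkF ▸ hD2 hb) (hkF ▸ hD2 ha)

omit hF hEF hFE in
theorem centralizes_core_of_exceptional (hSE : IsSmallBlk p E) (hk : pCoreOf p E ≠ WOf p E) {x : G}
    (hxN : x ∈ Subgroup.normalizer (E : Set G)) (hxc : Nat.Coprime (orderOf x) p)
    (hxW : ∀ w ∈ WOf p E, Commute x w)
    (hxE : ∀ e ∈ E, e * x * e⁻¹ * x⁻¹ ∈ pCore p G)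
    (hxR : ∀ a ∈ pCore p G, x * a * x⁻¹ * a⁻¹ ∈ pCoreOf p E)
    (hG : Subgroup.centralizer (pCore p G : Set G) ≤ pCore p G)
    {r : ℕ} (hr : r.Prime) (hrp : r ≠ p) (hxr : ∀ g : G, ∃ j, (g * x * g⁻¹ * x⁻¹) ^ r ^ j ∈ pCore p G) :
    ∀ q ∈ pCoreOf p E, Commute x q := by
  classical
  rcases hE.kind with hk' | ⟨hp3, hirr, hcardQ, ⟨b, hbN, ⟨jb, hjb⟩, hbq⟩, hQQ, hne, z, hzEE, hzc, hzQ, hzW⟩
  · exact absurd hk' hk
  subst hp3
  set Q := pCoreOf 3 E with hQdef
  set W := WOf 3 E with hWdef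
  set Z := ZOf 3 E with hZdef
  have hne' : ¬ Q ≤ W := fun h => hk (le_antisymm h (WOf_le E))
  have hQW : Q ≤ Subgroup.normalizer (W : Set G) :=
    le_normalizer_of_conj fun q hq w hw => by rw [WOf_comm E hw hq, mul_inv_cancel_right]; exact hw
  have hNQ : Subgroup.normalizer (E : Set G) ≤
      Subgroup.normalizer (Q : Set G) ⊓ Subgroup.normalizer (Z : Set G) := le_inf (nQ E) (nZ E)
  have hQZ : Q ≤ Subgroup.normalizer (Z : Set G) :=
    ((LocalEven2.pCoreOf_le E).trans Subgroup.le_normalizer).trans (nZ E)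
  haveI hnQZ : (Z.subgroupOf Q).Normal := Subgroup.normal_subgroupOf_of_le_normalizer hQZ
  have hcomm : ∀ a ∈ Q, ∀ c ∈ Q, a * c * a⁻¹ * c⁻¹ ∈ Z := fun a ha c hc =>
    hQQ.le (Subgroup.commutator_mem_commutator ha hc)
  letI hMc : CommGroup (↥Q ⧸ Z.subgroupOf Q) :=
    { (inferInstance : Group (↥Q ⧸ Z.subgroupOf Q)) with mul_comm := (quot_comm hcomm).is_comm.comm }
  let M := ↥Q ⧸ Z.subgroupOf Q
  let N := Subgroup.normalizer (Q : Set G) ⊓ Subgroup.normalizer (Z : Set G)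
  let σ : ↥N → M →* M := fun g => secMap g
  -- elements of `Q` act trivially modulo `Z`
  have hQtriv : ∀ (g : ↥N), (g : G) ∈ Q → ∀ m, σ g m = m := fun g hg =>
    (triv_iff g).mp fun u hu => hcomm g hg u hu
  -- whatever normalizes `⟨x⟩` modulo the radical commutes with `x` modulo `Q`
  have hcent : ∀ g : G, g ∈ Subgroup.normalizer (E : Set G) → g * x * g⁻¹ * x⁻¹ ∈ pCore 3 G →
      g * x * g⁻¹ * x⁻¹ ∈ Q := by
    intro g hg hgR
    set a := g * x * g⁻¹ * x⁻¹ with ha
    have hy : (a * x) ^ orderOf x = 1 := by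
      have : a * x = g * x * g⁻¹ := by rw [ha]; group
      rw [this, conj_pow, pow_orderOf_eq_one]; group
    have hQR : ∀ (q : G), q ∈ Q → ∀ c ∈ pCore 3 G, c * q * c⁻¹ ∈ Q := fun q hq c hc =>
      (Subgroup.mem_normalizer_iff.mp (nQ E (hE.rn hc)) q).mp hq
    have hpow : ∀ n : ℕ, ∃ q ∈ Q, (a * x) ^ n = q * a ^ n * x ^ n := by
      intro n
      induction n with
      | zero => exact ⟨1, one_mem _, by simp⟩
      | succ n ih =>
        obtain ⟨q, hq, hqe⟩ := ih
        -- move `x ^ n` past `a`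
        have hxa : ∀ m : ℕ, x ^ m * a * (x ^ m)⁻¹ * a⁻¹ ∈ Q := by
          intro m
          induction m with
          | zero => simp [one_mem]
          | succ m ihm =>
            have h1 : x ^ (m + 1) * a * (x ^ (m + 1))⁻¹ * a⁻¹ =
                (x * (x ^ m * a * (x ^ m)⁻¹ * a⁻¹) * x⁻¹) * (x * a * x⁻¹ * a⁻¹) := by
              rw [pow_succ']; group
            rw [h1]
            exact mul_mem ((Subgroup.mem_normalizer_iff.mp (nQ E hxN) _).mp ihm) (hxR a hgR)
        set c := x ^ n * a * (x ^ n)⁻¹ * a⁻¹ with hc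
        refine ⟨q * (a ^ n * c * (a ^ n)⁻¹), mul_mem hq (hQR _ (hxa n) _ (pow_mem hgR n)), ?_⟩
        rw [pow_succ, hqe, pow_succ a, pow_succ x, hc]; group
    obtain ⟨q, hq, hqe⟩ := hpow (orderOf x)
    rw [hy, pow_orderOf_eq_one, mul_one] at hqe
    have han : a ^ orderOf x ∈ Q := by
      rw [eq_inv_of_mul_eq_one_right hqe.symm]; exact inv_mem hq
    obtain ⟨k, hk3⟩ := R_pgroup (p := 3) ⟨a, hgR⟩
    have hak : a ^ 3 ^ k = 1 := congrArg Subtype.val hk3
    have hco : (orderOf x).Coprime (3 ^ k) := Nat.Coprime.pow_right k hxc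
    have h : a ^ (Nat.gcd (orderOf x) (3 ^ k) : ℤ) ∈ Q := by
      rw [Nat.gcd_eq_gcd_ab, zpow_add, zpow_mul, zpow_mul, zpow_natCast, zpow_natCast, hak, one_zpow, mul_one]
      exact zpow_mem han _
    rwa [hco.gcd_eq_one, Nat.cast_one, zpow_one] at h
  let X : ↥N := ⟨x, hNQ hxN⟩
  have hσcomm : ∀ g : ↥N, (g : G) ∈ Subgroup.normalizer (E : Set G) → (g : G) * x * (g : G)⁻¹ * x⁻¹ ∈ pCore 3 G →
      ∀ m, σ g (σ X m) = σ X (σ g m) := by
    intro g hg hgR m
    show secMap g (secMap X m) = secMap X (secMap g m)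
    rw [← secMap_mul, ← secMap_mul, show g * X = (g * X * g⁻¹ * X⁻¹) * (X * g) by group, secMap_mul]
    exact hQtriv _ (hcent _ hg hgR) _
  -- suppose `x` moves `Q / W`
  by_contra hcon
  have hxQ : ¬ Triv x Q W := fun hT => hcon fun q hq =>
    commute_of_fixed hxc (hE.W_le_R (hT q hq)) (hxW _ (hT q hq)).eq
  let Wb : Subgroup M := (W.subgroupOf Q).map (QuotientGroup.mk' _)
  have hWb : ∀ m ∈ Wb, σ X m = m := by
    rintro _ ⟨w, hw, rfl⟩
    show secMap X (QuotientGroup.mk w) = QuotientGroup.mk w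
    rw [secMap_mk]; congr 1
    refine Subtype.ext ?_
    show x * w * x⁻¹ = w
    rw [(hxW w hw).eq, mul_inv_cancel_right]
  have hWbm : ∀ u : ↥Q, QuotientGroup.mk u ∈ Wb → (u : G) ∈ W := by
    rintro u ⟨w, hw, hwu⟩
    have h1 := QuotientGroup.eq.mp hwu
    have h2 : (w : G)⁻¹ * u ∈ Z := h1
    rw [show (u : G) = w * ((w : G)⁻¹ * u) by group]
    exact mul_mem hw h2.1
  let dl : M →* M := MonoidHom.mk' (fun m => σ X m * m⁻¹) (fun a c => by rw [map_mul, mul_inv_rev, mul_comm c⁻¹ a⁻¹]; exact mul_mul_mul_comm _ _ _ _)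
  have hPW : ∀ m ∈ dl.range, m ∈ Wb → m = 1 := by
    rintro _ ⟨n, rfl⟩ hw
    have hfix := hWb _ hw
    have hit : ∀ k : ℕ, σ (X ^ k) n = (dl n) ^ k * n := by
      intro k
      induction k with
      | zero => rw [pow_zero, pow_zero, one_mul]; exact secMap_one n
      | succ k ih =>
        rw [pow_succ', show σ (X * X ^ k) n = σ X (σ (X ^ k) n) from secMap_mul _ _ _, ih, map_mul, map_pow, hfix,
          pow_succ, mul_assoc]
        congr 1
        show σ X n = σ X n * n⁻¹ * n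
        rw [inv_mul_cancel_right]
    have h1 := hit (orderOf x)
    have hX : X ^ orderOf x = 1 := Subtype.ext (pow_orderOf_eq_one x)
    rw [hX, show σ 1 n = n from secMap_one n, eq_comm, mul_eq_right] at h1
    obtain ⟨k, hk3⟩ := ((Q_isPGroup (p := 3) E).to_quotient (Z.subgroupOf Q)) (dl n)
    have hco : (orderOf x).Coprime (3 ^ k) := Nat.Coprime.pow_right k hxc
    have := pow_gcd_eq_one.mpr ⟨h1, hk3⟩
    rwa [hco.gcd_eq_one, pow_one] at this
  let P : Subgroup G := (dl.range.comap (QuotientGroup.mk' _)).map Q.subtype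
  have hPQ : P ≤ Q := Subgroup.map_subtype_le _
  have hPm : ∀ u : ↥Q, (u : G) ∈ P ↔ QuotientGroup.mk u ∈ dl.range := fun u => by
    constructor
    · rintro ⟨v, hv, hvu⟩
      obtain rfl := Subtype.ext hvu
      exact hv
    · exact fun h => ⟨u, h, rfl⟩
  have hdlN : ∀ g : ↥N, (g : G) ∈ Subgroup.normalizer (E : Set G) → (g : G) * x * (g : G)⁻¹ * x⁻¹ ∈ pCore 3 G →
      ∀ m ∈ dl.range, σ g m ∈ dl.range := by
    rintro g hg hgR _ ⟨n, rfl⟩
    refine ⟨σ g n, ?_⟩
    show σ X (σ g n) * (σ g n)⁻¹ = σ g (σ X n * n⁻¹)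
    rw [map_mul, map_inv, hσcomm g hg hgR]
  have hsupQ : ∀ m : M, ∃ a ∈ dl.range, ∃ w ∈ Wb, m = a * w := by
    have hEP : E ≤ Subgroup.normalizer ((P ⊔ W : Subgroup G) : Set G) := by
      refine le_normalizer_sup' (le_normalizer_of_conj fun e he q hq => ?_) (Subgroup.le_normalizer.trans (nW E))
      have hqQ : q ∈ Q := hPQ hq
      have h1 := (hPm ⟨q, hqQ⟩).mp hq
      exact (hPm ⟨e * q * e⁻¹, (Subgroup.mem_normalizer_iff.mp (nQ E (Subgroup.le_normalizer he)) q).mp hqQ⟩).mpr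
        (hdlN ⟨e, hNQ (Subgroup.le_normalizer he)⟩ (Subgroup.le_normalizer he) (hxE e he) _ h1)
    have hsupT : Q ≤ P ⊔ W := by
      rcases hirr (P ⊔ W) (sup_le hPQ (WOf_le E)) hEP with h | h
      · exfalso
        apply hxQ
        intro q hq
        refine h (Subgroup.mem_sup_left ((hPm ⟨x * q * x⁻¹ * q⁻¹,
          mul_mem ((Subgroup.mem_normalizer_iff.mp (nQ E hxN) q).mp hq) (inv_mem hq)⟩).mpr ⟨QuotientGroup.mk ⟨q, hq⟩, ?_⟩))
        show σ X (QuotientGroup.mk ⟨q, hq⟩) * (QuotientGroup.mk ⟨q, hq⟩)⁻¹ = _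
        rw [show σ X (QuotientGroup.mk ⟨q, hq⟩) = _ from secMap_mk X ⟨q, hq⟩, ← QuotientGroup.mk_inv, ← QuotientGroup.mk_mul]
        rfl
      · exact h.trans (sup_le le_rfl le_sup_right)
    intro m
    obtain ⟨u, rfl⟩ := QuotientGroup.mk_surjective m
    have hmem : (u : G) ∈ ((P : Set G) * (W : Set G)) := by
      rw [← Subgroup.coe_mul_of_left_le_normalizer_right P W (hPQ.trans hQW)]
      exact hsupT u.2
    obtain ⟨a, ha, w, hw, haw⟩ := hmem
    refine ⟨QuotientGroup.mk ⟨a, hPQ ha⟩, (hPm _).mp ha, QuotientGroup.mk ⟨w, WOf_le E hw⟩,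
      ⟨⟨w, WOf_le E hw⟩, hw, rfl⟩, ?_⟩
    rw [← QuotientGroup.mk_mul]; congr 1
    exact Subtype.ext haw.symm
  -- `x` inverts `Q / W`
  obtain ⟨H, _, ρ, hsurj, hker, -, hcase⟩ := hSE
  obtain ⟨-, hWZ, z0, ⟨hHcard, hz0c, hz01, hsq, hun⟩, hz0inv⟩ := hcase.resolve_left (fun h => absurd h.1 (by decide))
  haveI hnQW : (W.subgroupOf Q).Normal := Subgroup.normal_subgroupOf_of_le_normalizer hQW
  have hQcommW : ∀ a ∈ Q, ∀ c ∈ Q, a * c * a⁻¹ * c⁻¹ ∈ W := fun a ha c hc => (hcomm a ha c hc).1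
  letI : CommGroup (↥Q ⧸ W.subgroupOf Q) :=
    { (inferInstance : Group (↥Q ⧸ W.subgroupOf Q)) with mul_comm := (quot_comm hQcommW).is_comm.comm }
  let M' := ↥Q ⧸ W.subgroupOf Q
  have hM' : Nat.card M' = 3 ^ 2 := by
    show W.relIndex Q = _
    rw [hcardQ]; exact hWZ
  have hNQW : Subgroup.normalizer (E : Set G) ≤
      Subgroup.normalizer (Q : Set G) ⊓ Subgroup.normalizer (W : Set G) := le_inf (nQ E) (nW E)
  let τ : G → M' → M' := fun g m => if h : g ∈ Subgroup.normalizer (E : Set G) then secMap ⟨g, hNQW h⟩ m else m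
  have hτ : ∀ {g : G} (h : g ∈ Subgroup.normalizer (E : Set G)) (m : M'), τ g m = secMap ⟨g, hNQW h⟩ m :=
    fun h m => dif_pos h
  have hτmul : ∀ {g g' : G}, g ∈ Subgroup.normalizer (E : Set G) → g' ∈ Subgroup.normalizer (E : Set G) →
      ∀ m, τ (g * g') m = τ g (τ g' m) := fun {g g'} h h' m => by
    rw [hτ (mul_mem h h'), hτ h, hτ h', ← secMap_mul]; rfl
  have hEn : ∀ {e : G}, e ∈ E → e ∈ Subgroup.normalizer (E : Set G) := fun he => Subgroup.le_normalizer he
  have hRtriv : ∀ a ∈ pCore 3 G, ∀ m, τ a m = m := fun a ha m => by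
    rw [hτ (hE.rn ha)]
    exact triv_elem _ (pgroup_triv (WOf_le E) hQW R_pgroup (Q_isPGroup E) (Subgroup.le_normalizer.trans hNQW)
      (hE.rn.trans hNQW) (R_normal E) hirr hne' ha) m
  have hzinvM : ∀ e : ↥E, ρ e = z0 → ∀ m, τ e m = m⁻¹ := by
    intro e he m
    have hzE : z ∈ E := (Subgroup.commutator_le.mpr fun a ha c hc => by
      rw [commutatorElement_def]; exact mul_mem (mul_mem (mul_mem ha hc) (inv_mem ha)) (inv_mem hc) :
        ⁅E, E⁆ ≤ E) hzEE
    have hzz : z * z ∈ pCore 3 G := by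
      refine hE.mem_R_of_triv (mul_mem hzE hzE) fun w hw => ?_
      have h1 : z * w * z⁻¹ ∈ W := (Subgroup.mem_normalizer_iff.mp (nW E (hEn hzE)) w).mp hw
      have h2 := hzW w hw
      have h3 := hzW _ h1
      rw [show z * z * w * (z * z)⁻¹ * w⁻¹ = (z * (z * w * z⁻¹) * z⁻¹ * (z * w * z⁻¹)) * (z * w * z⁻¹ * w)⁻¹ * (z * w * z⁻¹ * (w * (z * w * z⁻¹)⁻¹ * w⁻¹)) by group,
        W_abel hw (inv_mem h1), mul_inv_cancel_right, mul_inv_cancel, mul_one]
      exact mul_mem h3 (inv_mem h2)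
    have hρz : ρ ⟨z, hzE⟩ = z0 := by
      refine (hun _ ?_).resolve_left fun h1 => hne' fun q hq => ?_
      · rw [← map_mul]; exact (hker _).mpr hzz
      · have hm : τ z (QuotientGroup.mk ⟨q, hq⟩) = QuotientGroup.mk ⟨q, hq⟩ := hRtriv z ((hker _).mp h1) _
        rw [hτ (hEn hzE), inverts_elem _ hzQ] at hm
        rw [← QuotientGroup.mk_inv, mk_eq_mk] at hm
        have hsq : q * q ∈ W := by have := inv_mem hm; simpa using this
        obtain ⟨k, hk'⟩ := Q_isPGroup (p := 3) E ⟨q, hq⟩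
        have hk'' : q ^ 3 ^ k = 1 := congrArg Subtype.val hk'
        have hodd : (3 ^ k) % 2 = 1 := by rw [Nat.pow_mod]; simp
        obtain ⟨j, hj⟩ : ∃ j, 3 ^ k = 2 * j + 1 := ⟨3 ^ k / 2, by omega⟩
        rw [hj, pow_succ, pow_mul, pow_two] at hk''
        rw [eq_inv_of_mul_eq_one_right hk'']
        exact inv_mem (pow_mem hsq j)
    have h1 : ((⟨z, hzE⟩ : ↥E)⁻¹ * e : ↥E).1 ∈ pCore 3 G := (hker _).mp (by rw [map_mul, map_inv, hρz, he, inv_mul_cancel])
    calc τ e m = τ (z * (((⟨z, hzE⟩ : ↥E)⁻¹ * e : ↥E) : G)) m := by congr 1; simp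
      _ = τ z (τ (((⟨z, hzE⟩ : ↥E)⁻¹ * e : ↥E) : G) m) := hτmul (hEn hzE) (hEn (SetLike.coe_mem _)) m
      _ = m⁻¹ := by rw [hRtriv _ h1, hτ (hEn hzE), inverts_elem _ hzQ]
  have hne3 : ∀ m : M', m⁻¹ = m → m = 1 := fun m hm => by
    have h1 : m ^ 2 = 1 := by rw [pow_two]; nth_rewrite 1 [← hm]; exact inv_mul_cancel m
    obtain ⟨k, hk'⟩ := ((Q_isPGroup (p := 3) E).to_quotient (W.subgroupOf Q)) m
    have := pow_gcd_eq_one.mpr ⟨h1, hk'⟩
    rwa [((by norm_num : Nat.Coprime 2 3).pow_right k).gcd_eq_one, pow_one] at this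
  have hfree : ∀ e : ↥E, ∀ m, τ e m = m → m ≠ 1 → ρ e = 1 := by
    intro e m hem hm
    by_contra h1
    apply hm; apply hne3
    by_cases h2 : ρ e = z0
    · rw [← hzinvM e h2 m, hem]
    · have := hzinvM (e * e) (by rw [map_mul]; exact (hsq _).resolve_left fun h => (hun _ h).elim h1 h2) m
      rw [Subgroup.coe_mul, hτmul (hEn e.2) (hEn e.2), hem, hem] at this
      exact this.symm
  have hxcE : ∀ e ∈ E, ∀ m, τ e (τ x m) = τ x (τ e m) := by
    intro e he m
    rw [← hτmul (hEn he) hxN, ← hτmul hxN (hEn he),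
      show e * x = (e * x * e⁻¹ * x⁻¹) * (x * e) by group,
      hτmul (hE.rn (hxE e he)) (mul_mem hxN (hEn he)), hRtriv _ (hxE e he)]
  have hτhom : ∀ {g : G}, g ∈ Subgroup.normalizer (E : Set G) → ∀ a c : M', τ g (a * c) = τ g a * τ g c :=
    fun hg a c => by rw [hτ hg, hτ hg, hτ hg, map_mul]
  have hinvx : ∀ m : M', τ x m = m⁻¹ := by
    haveI : Finite H := Finite.of_surjective ρ hsurj
    obtain ⟨v, hv⟩ : ∃ v : M', v ≠ 1 := by
      by_contra hall
      push Not at hall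
      haveI : Subsingleton M' := ⟨fun a c => (hall a).trans (hall c).symm⟩
      rw [Nat.card_of_subsingleton 1] at hM'
      norm_num at hM'
    let f : H → {m : M' // m ≠ 1} := fun h => ⟨τ (Function.surjInv hsurj h : ↥E) v, by
      rw [hτ (hEn (SetLike.coe_mem _))]
      intro h1
      apply hv
      have h2 := congrArg (secMap (⟨((Function.surjInv hsurj h : ↥E) : G), hNQW (hEn (SetLike.coe_mem _))⟩ :
        ↥(Subgroup.normalizer (Q : Set G) ⊓ Subgroup.normalizer (W : Set G)))⁻¹) h1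
      rwa [← secMap_mul, inv_mul_cancel, secMap_one, map_one] at h2⟩
    have hinj : Function.Injective f := by
      intro a c hac
      have h0 : τ (Function.surjInv hsurj a : ↥E) v = τ (Function.surjInv hsurj c : ↥E) v := congrArg Subtype.val hac
      have h1 : τ (((Function.surjInv hsurj a)⁻¹ * Function.surjInv hsurj c : ↥E) : G) v = v := by
        rw [Subgroup.coe_mul, hτmul (hEn (SetLike.coe_mem _)) (hEn (SetLike.coe_mem _)), ← h0,
          ← hτmul (hEn (SetLike.coe_mem _)) (hEn (SetLike.coe_mem _)), Subgroup.coe_inv, inv_mul_cancel,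
          hRtriv 1 (one_mem _)]
      have h2 := hfree _ v h1 hv
      rwa [map_mul, map_inv, Function.surjInv_eq hsurj, Function.surjInv_eq hsurj, inv_mul_eq_one] at h2
    have hc8 : Nat.card H = Nat.card {m : M' // m ≠ 1} := by
      haveI := Fintype.ofFinite M'
      rw [Nat.card_eq_fintype_card (α := {m : M' // m ≠ 1}), Fintype.card_subtype_compl,
        Fintype.card_subtype_eq, ← Nat.card_eq_fintype_card, hM', hHcard]
      rfl
    have hbij := (Nat.bijective_iff_injective_and_card f).mpr ⟨hinj, hc8⟩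
    have hxv : τ x v ≠ 1 := by
      rw [hτ hxN]
      intro h1
      apply hv
      have h2 := congrArg (secMap (⟨x, hNQW hxN⟩ :
        ↥(Subgroup.normalizer (Q : Set G) ⊓ Subgroup.normalizer (W : Set G)))⁻¹) h1
      rwa [← secMap_mul, inv_mul_cancel, secMap_one, map_one] at h2
    obtain ⟨h, hh⟩ := hbij.2 ⟨τ x v, hxv⟩
    set e := Function.surjInv hsurj h with he
    have hev : τ (e : G) v = τ x v := congrArg Subtype.val hh
    have hevery : ∀ g : ↥E, τ x (τ g v) = τ (g * e : ↥E) v := fun g => by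
      rw [← hxcE g g.2, ← hev, Subgroup.coe_mul, hτmul (hEn g.2) (hEn e.2)]
    have hρe : ρ e = 1 ∨ ρ e = z0 := by
      by_contra hno
      push Not at hno
      -- choose `g` outside the cyclic group of `e`
      obtain ⟨g, hg⟩ : ∃ g : ↥E, ρ g ∉ Subgroup.zpowers (ρ e) := by
        by_contra hall
        push Not at hall
        have hcyc : Nat.card H ≤ orderOf (ρ e) := by
          rw [← Nat.card_zpowers]
          refine Nat.card_le_card_of_injective (fun y => (⟨y, ?_⟩ : ↥(Subgroup.zpowers (ρ e)))) fun a c hac => congrArg Subtype.val hac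
          obtain ⟨g, rfl⟩ := hsurj y
          exact hall g
        have h4 : ρ e ^ 4 = 1 := by
          rcases hsq (ρ e) with h' | h'
          · exact absurd h' fun h' => (hun _ h').elim hno.1 hno.2
          · have hz2 : z0 * z0 = 1 := (hsq z0).resolve_right fun hz => hz01 (mul_eq_left.mp hz)
            rw [show (4 : ℕ) = 2 * 2 from rfl, pow_mul, pow_two (ρ e), h', pow_two, hz2]
        have := Nat.le_of_dvd (by norm_num) (orderOf_dvd_of_pow_eq_one h4)
        omega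
      -- `g e` and `e g` agree on `v`
      have hge : τ (g * e : ↥E) v = τ (e * g : ↥E) v := by
        have hee : τ x (τ (e : G) v) = τ (e * e : ↥E) v := hevery e
        -- `x` and `e` agree on `v` and on `τ e v`, hence everywhere
        let K : Subgroup M' := MonoidHom.eqLocus (secMap (⟨x, hNQW hxN⟩ : ↥(Subgroup.normalizer (Q : Set G) ⊓ Subgroup.normalizer (W : Set G))))
          (secMap (⟨(e : G), hNQW (hEn e.2)⟩ : ↥(Subgroup.normalizer (Q : Set G) ⊓ Subgroup.normalizer (W : Set G))))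
        have hvK : v ∈ K := by
          show secMap _ v = secMap _ v
          rw [← hτ hxN, ← hτ (hEn e.2), hev]
        have hevK : τ (e : G) v ∈ K := by
          show secMap _ _ = secMap _ _
          rw [← hτ hxN, ← hτ (hEn e.2), hee, Subgroup.coe_mul, hτmul (hEn e.2) (hEn e.2)]
        have hKtop : K = ⊤ := by
          have hdvd : Nat.card K ∣ 3 ^ 2 := hM' ▸ Subgroup.card_subgroup_dvd_card K
          obtain ⟨i, hi, hKi⟩ := (Nat.dvd_prime_pow Nat.prime_three).mp hdvd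
          interval_cases i
          · exfalso
            rw [pow_zero, Subgroup.card_eq_one] at hKi
            rw [hKi, Subgroup.mem_bot] at hvK; exact hv hvK
          · exfalso
            rw [pow_one] at hKi
            have hv3 : v ^ 3 = 1 := by
              have hh := pow_card_eq_one' (x := (⟨v, hvK⟩ : ↥K))
              rw [hKi] at hh
              exact congrArg Subtype.val hh
            have hzp : K = Subgroup.zpowers v := by
              refine (Subgroup.eq_of_le_of_card_ge (Subgroup.zpowers_le.mpr hvK) ?_).symm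
              rw [hKi, Nat.card_zpowers, orderOf_eq_prime hv3 hv]
            rw [hzp] at hevK
            obtain ⟨j, hj⟩ := Subgroup.mem_zpowers_iff.mp hevK
            have heq : v ^ j = 1 ∨ v ^ j = v ∨ v ^ j = v⁻¹ := by
              rw [← Int.ediv_mul_add_emod j 3, zpow_add, mul_comm (j / 3), zpow_mul]
              have hv3' : v ^ (3 : ℤ) = 1 := by exact_mod_cast hv3
              rw [hv3', one_zpow, one_mul]
              rcases (show j % 3 = 0 ∨ j % 3 = 1 ∨ j % 3 = 2 by omega) with h' | h' | h' <;> rw [h']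
              · exact Or.inl (zpow_zero v)
              · exact Or.inr (Or.inl (zpow_one v))
              · refine Or.inr (Or.inr (eq_inv_of_mul_eq_one_left ?_))
                rw [← zpow_add_one]; exact hv3'
            rw [hj] at heq
            rcases heq with h' | h' | h'
            · exact hxv (hev ▸ h')
            · exact hno.1 (hfree e v h' hv)
            · -- `e` sends `v` to its inverse, as `z0` does
              obtain ⟨e0, he0⟩ := hsurj z0
              have h1 : τ ((e0⁻¹ * e : ↥E) : G) v = v := by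
                rw [Subgroup.coe_mul, hτmul (hEn (e0⁻¹).2) (hEn e.2), h', ← hzinvM e0 he0 v,
                  ← hτmul (hEn (e0⁻¹).2) (hEn e0.2), Subgroup.coe_inv, inv_mul_cancel, hRtriv 1 (one_mem _)]
              have h2 := hfree _ v h1 hv
              rw [map_mul, map_inv, he0, inv_mul_eq_one] at h2
              exact hno.2 h2.symm
          · exact Subgroup.eq_top_of_card_eq K (hKi.trans hM'.symm)
        have hall' := hKtop.ge (Subgroup.mem_top (τ g v))
        rw [← hevery g, Subgroup.coe_mul, hτmul (hEn e.2) (hEn g.2), hτ hxN, hτ (hEn e.2)]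
        exact hall'
      have h1 : ρ (g * e) = ρ (e * g) := by
        have := hinj (a₁ := ρ (g * e)) (a₂ := ρ (e * g)) ?_
        · exact this
        · apply Subtype.ext
          have hsame : ∀ a : ↥E, τ (Function.surjInv hsurj (ρ a) : ↥E) v = τ (a : G) v := fun a => by
            have h1 : ((a⁻¹ * Function.surjInv hsurj (ρ a) : ↥E) : G) ∈ pCore 3 G :=
              (hker _).mp (by rw [map_mul, map_inv, Function.surjInv_eq hsurj, inv_mul_cancel])
            calc τ (Function.surjInv hsurj (ρ a) : ↥E) v = τ ((a : G) * ((a⁻¹ * Function.surjInv hsurj (ρ a) : ↥E) : G)) v := by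
                  congr 1; simp
              _ = τ (a : G) (τ ((a⁻¹ * Function.surjInv hsurj (ρ a) : ↥E) : G) v) := hτmul (hEn a.2) (hEn (SetLike.coe_mem _)) v
              _ = τ (a : G) v := by rw [hRtriv _ h1]
          show τ (Function.surjInv hsurj (ρ (g * e)) : ↥E) v = τ (Function.surjInv hsurj (ρ (e * g)) : ↥E) v
          rw [hsame, hsame]; exact hge
      -- commuting elements of order four generate the same group
      rw [map_mul, map_mul] at h1
      apply hg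
      have he2 : ρ e * ρ e = z0 := (hsq _).resolve_left fun h' => (hun _ h').elim hno.1 hno.2
      have hz2 : z0 * z0 = 1 := (hsq z0).resolve_right fun hz => hz01 (mul_eq_left.mp hz)
      have hz0mem : z0 ∈ Subgroup.zpowers (ρ e) := he2 ▸ mul_mem (Subgroup.mem_zpowers _) (Subgroup.mem_zpowers _)
      rcases hsq (ρ g) with hg1 | hg2
      · rcases hun _ hg1 with h' | h' <;> rw [h']
        · exact one_mem _
        · exact hz0mem
      · have hprod : (ρ g * ρ e) * (ρ g * ρ e) = 1 := by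
          calc (ρ g * ρ e) * (ρ g * ρ e) = ρ g * (ρ e * ρ g) * ρ e := by group
            _ = (ρ g * ρ g) * (ρ e * ρ e) := by rw [← h1]; group
            _ = 1 := by rw [hg2, he2, hz2]
        rw [show ρ g = (ρ g * ρ e) * (ρ e)⁻¹ by group]
        refine mul_mem ?_ (inv_mem (Subgroup.mem_zpowers _))
        rcases hun _ hprod with h' | h' <;> rw [h']
        · exact one_mem _
        · exact hz0mem
    rcases hρe with h1 | h1
    · exfalso
      apply hxQ
      have hfixv : τ x v = v := by rw [← hev, hRtriv _ ((hker e).mp h1)]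
      intro q hq
      by_cases hq1 : (QuotientGroup.mk ⟨q, hq⟩ : M') = 1
      · have hqW : q ∈ W := (QuotientGroup.eq_one_iff (⟨q, hq⟩ : ↥Q)).mp hq1
        exact mul_mem ((Subgroup.mem_normalizer_iff.mp (nW E hxN) q).mp hqW) (inv_mem hqW)
      · obtain ⟨y, hy⟩ := hbij.2 ⟨QuotientGroup.mk ⟨q, hq⟩, hq1⟩
        have hy' : τ (Function.surjInv hsurj y : ↥E) v = QuotientGroup.mk ⟨q, hq⟩ := congrArg Subtype.val hy
        have hfix : τ x (QuotientGroup.mk ⟨q, hq⟩) = QuotientGroup.mk ⟨q, hq⟩ := by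
          rw [← hy', ← hxcE _ (SetLike.coe_mem _), hfixv]
        rw [hτ hxN, secMap_mk, mk_eq_mk] at hfix
        exact hfix
    · intro m
      by_cases hm1 : m = 1
      · rw [hm1, inv_one, hτ hxN]; exact map_one _
      · obtain ⟨y, hy⟩ := hbij.2 ⟨m, hm1⟩
        have hy' : τ (Function.surjInv hsurj y : ↥E) v = m := congrArg Subtype.val hy
        rw [← hy', hevery, Subgroup.coe_mul, hτmul (hEn (SetLike.coe_mem _)) (hEn e.2), hzinvM e h1,
          hτ (hEn (SetLike.coe_mem _)), hτ (hEn (SetLike.coe_mem _)), map_inv]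
  -- so `b` commutes with `x` modulo the radical
  set d := b * x * b⁻¹ * x⁻¹ with hd
  have hdN : d ∈ Subgroup.normalizer (E : Set G) := mul_mem (mul_mem (mul_mem hbN hxN) (inv_mem hbN)) (inv_mem hxN)
  have hdR : d ∈ pCore 3 G := by
    obtain ⟨j, hj⟩ := hxr b
    obtain ⟨k, hkc⟩ := coprime_power_part (p := 3) d
    have hdW : ∀ w ∈ W, Commute d w := by
      intro w hw
      have h1 : b⁻¹ * (x⁻¹ * w * x) * b ∈ W :=
        (Subgroup.mem_normalizer_iff''.mp (nW E hbN) _).mp ((Subgroup.mem_normalizer_iff''.mp (nW E hxN) w).mp hw)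
      have h2 : x⁻¹ * w * x = w := by
        rw [mul_assoc, ← (hxW w hw).eq, inv_mul_cancel_left]
      rw [h2] at h1
      show d * w = w * d
      calc d * w = b * x * b⁻¹ * (x⁻¹ * w * x) * x⁻¹ := by rw [hd]; group
        _ = b * (x * (b⁻¹ * w * b) * x⁻¹) * x * b⁻¹ * x⁻¹ := by rw [h2]; group
        _ = w * d := by rw [(hxW _ h1).eq, hd]; group
    have hdQ : ∀ q ∈ Q, d * q * d⁻¹ * q⁻¹ ∈ W := by
      intro q hq
      have hm : τ d (QuotientGroup.mk ⟨q, hq⟩) = QuotientGroup.mk ⟨q, hq⟩ := by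
        rw [hd, hτmul (mul_mem (mul_mem hbN hxN) (inv_mem hbN)) (inv_mem hxN),
          hτmul (mul_mem hbN hxN) (inv_mem hbN), hτmul hbN hxN, hinvx]
        have hxi : τ x⁻¹ (QuotientGroup.mk ⟨q, hq⟩) = (QuotientGroup.mk ⟨q, hq⟩ : M')⁻¹ := by
          conv_lhs => rw [← inv_inv (QuotientGroup.mk ⟨q, hq⟩ : M'), ← hinvx]
          rw [← hτmul (inv_mem hxN) hxN, inv_mul_cancel, hRtriv 1 (one_mem _)]
        rw [hxi, hτ (inv_mem hbN), map_inv, inv_inv, hτ hbN, ← secMap_mul]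
        rw [show (⟨b, hNQW hbN⟩ : ↥(Subgroup.normalizer (Q : Set G) ⊓ Subgroup.normalizer (W : Set G))) * ⟨b⁻¹, hNQW (inv_mem hbN)⟩ = 1
          from Subtype.ext (mul_inv_cancel b), secMap_one]
      rw [hτ hdN, secMap_mk, mk_eq_mk] at hm
      exact hm
    set d' := d ^ 3 ^ k with hd'
    have hd'W : ∀ w ∈ W, Commute d' w := fun w hw => (hdW w hw).pow_left _
    have hd'QW : d' ∈ trivGrp Q W := pow_mem (show d ∈ trivGrp Q W from ⟨hNQW hdN, hdQ⟩) _
    have hd'Q : ∀ q ∈ Q, Commute d' q := fun q hq =>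
      commute_of_fixed hkc (hE.W_le_R (hd'QW.2 q hq)) (hd'W _ (hd'QW.2 q hq)).eq
    have hRn : ∀ g : G, g ∈ Subgroup.normalizer (pCore 3 G : Set G) := fun g => R_normal ⊤ (Subgroup.mem_top g)
    have hxT : x ∈ trivGrp (pCore 3 G) Q := ⟨⟨hRn x, nQ E hxN⟩, hxR⟩
    have hd'R : d' ∈ trivGrp (pCore 3 G) Q :=
      pow_mem (mul_mem (trivGrp_conj ⟨hRn b, nQ E hbN⟩ hxT) (inv_mem hxT)) _
    have hd'mem : d' ∈ pCore 3 G := hG (Subgroup.mem_centralizer_iff.mpr fun a ha =>
      (commute_of_fixed hkc (hE.Q_le_R (hd'R.2 a ha)) (hd'Q _ (hd'R.2 a ha)).eq).eq.symm)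
    exact rn_pow_mem (Nat.Coprime.pow k j ((Nat.coprime_primes Nat.prime_three hr).mpr (Ne.symm hrp))) hd'mem hj
  apply hbq
  -- `b` acts quadratically on `Q / Z`
  let B : ↥N := ⟨b, hNQ hbN⟩
  let β : MulAut M :=
    { toFun := σ B, invFun := σ B⁻¹, map_mul' := map_mul (σ B)
      left_inv := fun m => by show secMap B⁻¹ (secMap B m) = m; rw [← secMap_mul, inv_mul_cancel, secMap_one]
      right_inv := fun m => by show secMap B (secMap B⁻¹ m) = m; rw [← secMap_mul, mul_inv_cancel, secMap_one] }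
  have hb3 : b ^ 3 ^ jb = 1 := by rw [← hjb, pow_orderOf_eq_one]
  have hMp : IsPGroup 3 M := (Q_isPGroup (p := 3) E).to_quotient _
  have hquad : ∀ m : M, σ B (σ B m * m⁻¹) = σ B m * m⁻¹ := by
    let BW : ↥(Subgroup.normalizer (Q : Set G) ⊓ Subgroup.normalizer (W : Set G)) := ⟨b, hNQW hbN⟩
    have hQWquad : ∀ m : M', secMap BW (secMap BW m * m⁻¹) = secMap BW m * m⁻¹ := by
      let β' : MulAut M' :=
        { toFun := secMap BW, invFun := secMap BW⁻¹, map_mul' := map_mul (secMap BW)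
          left_inv := fun m => by show secMap BW⁻¹ (secMap BW m) = m; rw [← secMap_mul, inv_mul_cancel, secMap_one]
          right_inv := fun m => by show secMap BW (secMap BW⁻¹ m) = m; rw [← secMap_mul, mul_inv_cancel, secMap_one] }
      have hit : ∀ k : ℕ, ∀ m, (β' ^ k) m = secMap (BW ^ k) m := fun k => by
        induction k with
        | zero => intro m; rw [pow_zero, pow_zero, secMap_one]; rfl
        | succ k ih => intro m; rw [pow_succ', pow_succ', secMap_mul, MulAut.mul_apply, ih]; rfl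
      have hβ' : β' ^ 3 ^ jb = 1 := MulEquiv.ext fun m => by
        rw [hit, show BW ^ 3 ^ jb = 1 from Subtype.ext hb3, secMap_one]; rfl
      refine pgroup_rank_two (p := 3) hM'.le ((Q_isPGroup (p := 3) E).to_quotient _) β' ?_
      refine IsPGroup.iff_orderOf.mpr fun g => ?_
      obtain ⟨i, -, hi⟩ := (Nat.dvd_prime_pow Nat.prime_three).mp ((Subgroup.orderOf_coe g) ▸
        (orderOf_dvd_of_mem_zpowers g.2).trans (orderOf_dvd_of_pow_eq_one hβ'))
      exact ⟨i, hi⟩
    have hWbinv : ∀ m ∈ Wb, σ B m ∈ Wb := by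
      rintro _ ⟨w, hw, rfl⟩
      exact ⟨⟨b * w * b⁻¹, (Subgroup.mem_normalizer_iff.mp (nQ E hbN) w).mp w.2⟩,
        (Subgroup.mem_normalizer_iff.mp (nW E hbN) w).mp hw, rfl⟩
    have hWquad : ∀ w ∈ Wb, σ B (σ B w * w⁻¹) = σ B w * w⁻¹ := by
      have hWbcard : Nat.card Wb ≤ 3 ^ 2 := by
        have hk : ((QuotientGroup.mk' (Z.subgroupOf Q)).comp (W.subgroupOf Q).subtype).ker =
            (Z.subgroupOf Q).subgroupOf (W.subgroupOf Q) := by
          ext a
          rw [MonoidHom.mem_ker, MonoidHom.comp_apply, QuotientGroup.mk'_apply, QuotientGroup.eq_one_iff]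
          rfl
        have h1 : Nat.card Wb = (Z.subgroupOf Q).relIndex (W.subgroupOf Q) := by
          rw [Subgroup.relIndex, ← hk, Subgroup.index_ker, MonoidHom.range_comp, Subgroup.range_subtype]
        rw [h1, Subgroup.relIndex_subgroupOf (WOf_le E), hWZ]; norm_num
      let βW : MulAut ↥Wb :=
        { toFun := fun m => ⟨σ B m, hWbinv m m.2⟩
          invFun := fun m => ⟨σ B⁻¹ m, by
            obtain ⟨w, hw, hwm⟩ := m.2
            rw [← hwm]
            exact ⟨⟨b⁻¹ * w * b⁻¹⁻¹, (Subgroup.mem_normalizer_iff.mp (nQ E (inv_mem hbN)) w).mp w.2⟩,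
              (Subgroup.mem_normalizer_iff.mp (nW E (inv_mem hbN)) w).mp hw, rfl⟩⟩
          left_inv := fun m => Subtype.ext (β.left_inv m)
          right_inv := fun m => Subtype.ext (β.right_inv m)
          map_mul' := fun a c => Subtype.ext (map_mul (σ B) _ _) }
      have hit : ∀ k : ℕ, ∀ m, (((βW ^ k) m : ↥Wb) : M) = σ (B ^ k) m := fun k => by
        induction k with
        | zero => intro m; rw [pow_zero, pow_zero]; exact (secMap_one _).symm
        | succ k ih =>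
          intro m
          rw [pow_succ', pow_succ', MulAut.mul_apply]
          show σ B ((βW ^ k) m : ↥Wb) = σ (B * B ^ k) m
          rw [ih]; exact (secMap_mul _ _ _).symm
      have hβW : βW ^ 3 ^ jb = 1 := MulEquiv.ext fun m => Subtype.ext (by
        rw [hit, show B ^ 3 ^ jb = 1 from Subtype.ext hb3]; exact secMap_one _)
      intro w hw
      refine congrArg Subtype.val (pgroup_rank_two (p := 3) (M := ↥Wb) hWbcard (hMp.to_subgroup Wb) βW ?_ ⟨w, hw⟩)
      refine IsPGroup.iff_orderOf.mpr fun g => ?_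
      obtain ⟨i, -, hi⟩ := (Nat.dvd_prime_pow Nat.prime_three).mp ((Subgroup.orderOf_coe g) ▸
        (orderOf_dvd_of_mem_zpowers g.2).trans (orderOf_dvd_of_pow_eq_one hβW))
      exact ⟨i, hi⟩
    intro m
    obtain ⟨a, ha, w, hw, rfl⟩ := hsupQ m
    have hPinv : ∀ y ∈ dl.range, σ B y ∈ dl.range := hdlN B hbN hdR
    have ha1 : σ B a * a⁻¹ ∈ dl.range := mul_mem (hPinv a ha) (inv_mem ha)
    have ha2 : σ B (σ B a * a⁻¹) * (σ B a * a⁻¹)⁻¹ ∈ dl.range := mul_mem (hPinv _ ha1) (inv_mem ha1)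
    have ha3 : σ B (σ B a * a⁻¹) * (σ B a * a⁻¹)⁻¹ ∈ Wb := by
      obtain ⟨u, hu⟩ := QuotientGroup.mk_surjective a
      have hq := hQWquad (QuotientGroup.mk u)
      rw [secMap_mk, ← QuotientGroup.mk_inv, ← QuotientGroup.mk_mul, secMap_mk, mk_eq_mk] at hq
      rw [← hu, show σ B (QuotientGroup.mk u) = _ from secMap_mk B u, ← QuotientGroup.mk_inv,
        ← QuotientGroup.mk_mul, show σ B (QuotientGroup.mk _) = _ from secMap_mk B _, ← QuotientGroup.mk_inv,
        ← QuotientGroup.mk_mul]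
      exact ⟨_, hq, rfl⟩
    have ha4 := mul_inv_eq_one.mp (hPW _ ha2 ha3)
    have hspl : σ B (a * w) * (a * w)⁻¹ = (σ B a * a⁻¹) * (σ B w * w⁻¹) := by
      rw [map_mul, mul_inv_rev, mul_comm w⁻¹ a⁻¹, mul_mul_mul_comm]
    rw [hspl, map_mul, ha4, hWquad w hw]
  -- translate to the commutator condition
  have hfixpow : ∀ (i : ℕ) (m : M), σ (B ^ i) m = (σ B m * m⁻¹) ^ i * m := by
    intro i m
    induction i with
    | zero => rw [pow_zero, pow_zero, one_mul]; exact secMap_one m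
    | succ i ih =>
      rw [pow_succ', show σ (B * B ^ i) m = σ B (σ (B ^ i) m) from secMap_mul _ _ _, ih, map_mul, map_pow, hquad,
        pow_succ, mul_assoc, inv_mul_cancel_right]
  let Q₁ : Subgroup G := ((MonoidHom.eqLocus (σ B) (MonoidHom.id M)).comap (QuotientGroup.mk' _)).map Q.subtype
  have hQ1 : ∀ u : ↥Q, (u : G) ∈ Q₁ ↔ σ B (QuotientGroup.mk u) = QuotientGroup.mk u := fun u => by
    constructor
    · rintro ⟨v, hv, hvu⟩
      obtain rfl := Subtype.ext hvu
      exact hv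
    · exact fun h => ⟨u, h, rfl⟩
  have hpows : ∀ c ∈ Subgroup.zpowers b, ∃ i : ℕ, c = b ^ i := fun c hc => by
    obtain ⟨i, hi⟩ := mem_powers_iff_mem_zpowers.mpr hc
    exact ⟨i, hi.symm⟩
  have hbi : ∀ (i : ℕ) (q : G) (hq : q ∈ Q), q * b ^ i * q⁻¹ * (b ^ i)⁻¹ ∈ Q := fun i q hq => by
    rw [show q * b ^ i * q⁻¹ * (b ^ i)⁻¹ = q * (b ^ i * q⁻¹ * (b ^ i)⁻¹) by group]
    exact mul_mem hq ((Subgroup.mem_normalizer_iff.mp (pow_mem (nQ E hbN) i) _).mp (inv_mem hq))
  have hmkc : ∀ (i : ℕ) (q : ↥Q), (QuotientGroup.mk ⟨(q : G) * b ^ i * (q : G)⁻¹ * (b ^ i)⁻¹, hbi i q q.2⟩ : M) =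
      ((σ B (QuotientGroup.mk q) * (QuotientGroup.mk q)⁻¹) ^ i)⁻¹ := fun i q => by
    have h1 : (⟨(q : G) * b ^ i * (q : G)⁻¹ * (b ^ i)⁻¹, hbi i q q.2⟩ : ↥Q) =
        q * ⟨((B ^ i : ↥N) : G) * q * ((B ^ i : ↥N) : G)⁻¹, (Subgroup.mem_normalizer_iff.mp (B ^ i).2.1 q).mp q.2⟩⁻¹ :=
      Subtype.ext (by simp [B, mul_assoc])
    rw [h1, QuotientGroup.mk_mul, QuotientGroup.mk_inv, ← secMap_mk (B ^ i) q,
      show secMap (B ^ i) (QuotientGroup.mk q) = σ (B ^ i) (QuotientGroup.mk q) from rfl, hfixpow, mul_inv_rev,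
      ← mul_assoc, mul_inv_cancel, one_mul]
  have hle1 : ⁅Q, Subgroup.zpowers b⁆ ≤ Q₁ := Subgroup.commutator_le.mpr fun q hq c hc => by
    obtain ⟨i, rfl⟩ := hpows c hc
    rw [commutatorElement_def]
    refine (hQ1 ⟨_, hbi i q hq⟩).mpr ?_
    rw [hmkc i ⟨q, hq⟩, map_inv, map_pow, hquad]
  refine (Subgroup.commutator_mono hle1 le_rfl).trans (Subgroup.commutator_le.mpr fun u hu c hc => ?_)
  obtain ⟨i, rfl⟩ := hpows c hc
  have huQ : u ∈ Q := Subgroup.map_subtype_le _ hu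
  have hfix := (hQ1 ⟨u, huQ⟩).mp hu
  rw [commutatorElement_def]
  have := hmkc i ⟨u, huQ⟩
  rw [hfix, mul_inv_cancel, one_pow, inv_one, QuotientGroup.eq_one_iff] at this
  exact this

end Cfsg.Agent.Lib.SubnBlock
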