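import Cfsg.Agent.Lib.SubnBlock.Exceptional

set_option autoImplicit false

/-!
Mutually normalising blocks are equal or commute.
-/

namespace Cfsg.Agent.Lib.SubnBlock

open Cfsg
open scoped commutatorElement

universe u
variable {G : Type u} [Group G] {p : ℕ} [Finite G] [hp : Fact p.Prime] {E F : Subgroup G}

variable (hE : Blk p E) (hF : Blk p F) (hEF : E ≤ Subgroup.normalizer (F : Set G))
  (hFE : F ≤ Subgroup.normalizer (E : Set G))
  (hG : Subgroup.centralizer (pCore p G : Set G) ≤ pCore p G)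

include hE hF hEF hFE hG

theorem small_le (hSE : IsSmallBlk p E) (hSF : IsSmallBlk p F) (hm : Moves p F E) : E ≤ F := by
  have hm' := moves_symm hE hF hEF hFE hm
  obtain ⟨hcovE, -⟩ := moves_cover hE hF hEF hFE hm
  have hcovF := (moves_cover hF hE hFE hEF hm').1
  rw [inf_comm (WOf p F)] at hcovF
  have hU0 := inf_Z_eq hE hF hEF hFE hm
  have hN : ∀ g ∈ (E : Set G) ∪ (F : Set G),
      g ∈ Subgroup.normalizer (E : Set G) ∧ g ∈ Subgroup.normalizer (F : Set G) := fun g hg =>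
    hg.elim (fun h => ⟨Subgroup.le_normalizer h, hEF h⟩) (fun h => ⟨hFE h, Subgroup.le_normalizer h⟩)
  have main : ∀ e ∈ E, ∃ f ∈ F, e * f⁻¹ ∈ pCore p G := by
    intro e he
    obtain ⟨f, hf, hT⟩ := same_action hE hF hEF hFE hSE hSF hm he
    refine ⟨f, hf, ?_⟩
    set x₀ := e * f⁻¹ with hx₀
    have hx0E : x₀ ∈ Subgroup.normalizer (E : Set G) := mul_mem (hN e (Or.inl he)).1 (inv_mem (hN f (Or.inr hf)).1)
    have hx0F : x₀ ∈ Subgroup.normalizer (F : Set G) := mul_mem (hN e (Or.inl he)).2 (inv_mem (hN f (Or.inr hf)).2)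
    have hx0ZE : x₀ ∈ Subgroup.centralizer (ZOf p E : Set G) := mul_mem
      (Subgroup.mem_centralizer_iff.mpr fun z hz => (Z_cent hz he).symm)
      (inv_mem (centralizes_Z hE hF hEF hFE hm hf))
    have hx0ZF : x₀ ∈ Subgroup.centralizer (ZOf p F : Set G) := mul_mem
      (centralizes_Z hF hE hFE hEF hm' he)
      (inv_mem (Subgroup.mem_centralizer_iff.mpr fun z hz => (Z_cent hz hf).symm))
    have hx0WE : x₀ ∈ trivGrp (WOf p E) (ZOf p E) := ⟨nWZ E hx0E,
      triv_of_cover (fun a ha b hb => W_abel ha hb) inf_le_left inf_le_left hcovE (nW E hx0E) (nZ E hx0E)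
        (fun u hu => (hT.2 u hu).2)⟩
    have hx0WF : x₀ ∈ trivGrp (WOf p F) (ZOf p F) := ⟨nWZ F hx0F,
      triv_of_cover (fun a ha b hb => W_abel ha hb) inf_le_right inf_le_left hcovF (nW F hx0F) (nZ F hx0F)
        (fun u hu => (hU0.le (hT.2 u hu)).2)⟩
    obtain ⟨k, hkc⟩ := coprime_power_part (p := p) x₀
    set x := x₀ ^ p ^ k with hx
    have hxE : x ∈ Subgroup.normalizer (E : Set G) := pow_mem hx0E _
    have hxF : x ∈ Subgroup.normalizer (F : Set G) := pow_mem hx0F _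
    have hxWE : ∀ w ∈ WOf p E, Commute x w := fun w hw => by
      have h1 := (pow_mem hx0WE (p ^ k) : x ∈ trivGrp (WOf p E) (ZOf p E)).2 w hw
      exact commute_of_fixed hkc (hE.W_le_R h1.1)
        (Subgroup.mem_centralizer_iff.mp (pow_mem hx0ZE _ : x ∈ Subgroup.centralizer (ZOf p E : Set G)) _ h1).symm
    have hxWF : ∀ w ∈ WOf p F, Commute x w := fun w hw => by
      have h1 := (pow_mem hx0WF (p ^ k) : x ∈ trivGrp (WOf p F) (ZOf p F)).2 w hw
      exact commute_of_fixed hkc (hF.W_le_R h1.1)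
        (Subgroup.mem_centralizer_iff.mp (pow_mem hx0ZF _ : x ∈ Subgroup.centralizer (ZOf p F : Set G)) _ h1).symm
    have hcom : ∀ {A : Subgroup G}, Blk p A → x ∈ trivGrp (WOf p A) (ZOf p A) →
        x ∈ Subgroup.normalizer (A : Set G) → ∀ a ∈ A, a * x * a⁻¹ * x⁻¹ ∈ pCore p G := by
      intro A hA hxT hxA a ha
      refine hA.mem_R_of_triv ?_ (mul_mem (trivGrp_conj (nWZ A (Subgroup.le_normalizer ha)) hxT) (inv_mem hxT)).2
      rw [show a * x * a⁻¹ * x⁻¹ = a * (x * a⁻¹ * x⁻¹) by group]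
      exact mul_mem ha ((Subgroup.mem_normalizer_iff.mp hxA _).mp (inv_mem ha))
    -- `x` maps the radical into the two cores
    set S := pCoreOf p E ⊔ pCoreOf p F with hS
    have hSn : ∀ g ∈ Subgroup.normalizer (E : Set G), g ∈ Subgroup.normalizer (F : Set G) →
        g ∈ Subgroup.normalizer (S : Set G) := fun g hg hg' =>
      le_normalizer_sup' (K := Subgroup.normalizer (E : Set G) ⊓ Subgroup.normalizer (F : Set G))
        (inf_le_left.trans (nQ E)) (inf_le_right.trans (nQ F)) ⟨hg, hg'⟩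
    have hRn : ∀ g : G, g ∈ Subgroup.normalizer (pCore p G : Set G) := fun g => R_normal ⊤ (Subgroup.mem_top g)
    have hgT : ∀ {A : Subgroup G}, Blk p A → pCoreOf p A ≤ S → ∀ g ∈ A, ∀ a ∈ pCore p G,
        g * a * g⁻¹ * a⁻¹ ∈ S := by
      intro A hA hAS g hg a ha
      refine hAS (hA.memQ ?_ (mul_mem (conj_R ha) (inv_mem ha)))
      rw [show g * a * g⁻¹ * a⁻¹ = g * (a * g⁻¹ * a⁻¹) by group]
      exact mul_mem hg ((Subgroup.mem_normalizer_iff.mp (hA.rn ha) _).mp (inv_mem hg))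
    have hx0R : x₀ ∈ trivGrp (pCore p G) S :=
      mul_mem ⟨⟨hRn e, hSn e (hN e (Or.inl he)).1 (hN e (Or.inl he)).2⟩, hgT hE le_sup_left e he⟩
        (inv_mem ⟨⟨hRn f, hSn f (hN f (Or.inr hf)).1 (hN f (Or.inr hf)).2⟩, hgT hF le_sup_right f hf⟩)
    have hxR : ∀ a ∈ pCore p G, x * a * x⁻¹ * a⁻¹ ∈ S := (pow_mem hx0R (p ^ k) : x ∈ trivGrp (pCore p G) S).2
    -- `x` lies in the `r`-core modulo the radical
    haveI := LocalEven2.pCore_normal p G
    obtain ⟨r, n, hr, hrp, h2, h3, hEn⟩ := hSE.index_prime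
    obtain ⟨r', n', hr', -, h2', h3', hFn⟩ := hSF.index_prime
    have hp23 : p = 2 ∨ p = 3 := by
      obtain ⟨_, _, _, -, -, -, ⟨h, -⟩ | ⟨h, -⟩⟩ := hSE
      · exact Or.inl h
      · exact Or.inr h
    have hrr : r' = r := by
      rcases hp23 with h | h
      · rw [h2 h, h2' h]
      · rw [h3 h, h3' h]
    subst hrr
    haveI := Fact.mk hr
    let O := pCore r' (G ⧸ pCore p G)
    let π := QuotientGroup.mk' (pCore p G)
    have hOe : π e ∈ O := hSE.image_le_core hE.sub hr hEn (Subgroup.mem_map_of_mem _ he)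
    have hOf : π f ∈ O := hSF.image_le_core hF.sub hr hFn (Subgroup.mem_map_of_mem _ hf)
    have hOx0 : π x₀ ∈ O := by rw [hx₀, map_mul, map_inv]; exact mul_mem hOe (inv_mem hOf)
    have hOx : π x ∈ O := by rw [hx, map_pow]; exact pow_mem hOx0 _
    have hroot : ∀ y : G, π y ∈ O → ∃ j, y ^ r' ^ j ∈ pCore p G := fun y hy => by
      obtain ⟨j, hj⟩ := LocalEven2.pCore_isPGroup r' (G ⧸ pCore p G) ⟨π y, hy⟩
      exact ⟨j, (QuotientGroup.eq_one_iff _).mp
        ((map_pow π y (r' ^ j)).trans (congrArg Subtype.val hj))⟩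
    have hxr : ∀ g : G, ∃ j, (g * x * g⁻¹ * x⁻¹) ^ r' ^ j ∈ pCore p G := fun g => by
      refine hroot _ ?_
      rw [map_mul, map_mul, map_mul, map_inv, map_inv]
      exact mul_mem ((LocalEven2.pCore_normal r' (G ⧸ pCore p G)).conj_mem _ hOx (π g)) (inv_mem hOx)
    have hsameE : ∀ e' ∈ E, ∃ f' ∈ F, e' * f'⁻¹ ∈ trivGrp (WOf p E) (ZOf p E) := by
      intro e' he'
      obtain ⟨f', hf', hT'⟩ := same_action hE hF hEF hFE hSE hSF hm he'
      have hn : e' * f'⁻¹ ∈ Subgroup.normalizer (E : Set G) := mul_mem (Subgroup.le_normalizer he') (inv_mem (hFE hf'))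
      exact ⟨f', hf', nWZ E hn, triv_of_cover (fun a ha b hb => W_abel ha hb) inf_le_left inf_le_left hcovE
        (nW E hn) (nZ E hn) (fun u hu => (hT'.2 u hu).2)⟩
    have hm2 := moves_cover hF hE hFE hEF hm'
    have hsameF : ∀ f' ∈ F, ∃ e' ∈ E, f' * e'⁻¹ ∈ trivGrp (WOf p F) (ZOf p F) := by
      intro f' hf'
      obtain ⟨e', he', hT'⟩ := same_action hF hE hFE hEF hSF hSE hm' hf'
      have hn : f' * e'⁻¹ ∈ Subgroup.normalizer (F : Set G) := mul_mem (Subgroup.le_normalizer hf') (inv_mem (hEF he'))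
      exact ⟨e', he', nWZ F hn, triv_of_cover (fun a ha b hb => W_abel ha hb) inf_le_left inf_le_left hm2.1
        (nW F hn) (nZ F hn) (fun u hu => (hT'.2 u hu).2)⟩
    have hxQ : (∀ q ∈ pCoreOf p E, Commute x q) ∧ (∀ q ∈ pCoreOf p F, Commute x q) := by
      by_cases hkE : pCoreOf p E = WOf p E
      · refine ⟨fun q hq => hxWE q (hkE ▸ hq), ?_⟩
        by_cases hkF : pCoreOf p F = WOf p F
        · exact fun q hq => hxWF q (hkF ▸ hq)
        · exact absurd hkE (core_le_of_moves hF hE hFE hEF hm' hkF hsameF).2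
      · obtain ⟨hle, hkF⟩ := core_le_of_moves hE hF hEF hFE hm hkE hsameE
        obtain ⟨hle', -⟩ := core_le_of_moves hF hE hFE hEF hm' hkF hsameF
        have heq : S = pCoreOf p E := le_antisymm (sup_le le_rfl hle') le_sup_left
        have := centralizes_core_of_exceptional hE hSE hkE hxE hkc hxWE
          (hcom hE (pow_mem hx0WE _) hxE) (fun a ha => heq ▸ hxR a ha) hG hr hrp hxr
        exact ⟨this, fun q hq => this q (hle' hq)⟩
    have hxS : S ≤ Subgroup.centralizer ({x} : Set G) :=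
      sup_le (fun q hq => Subgroup.mem_centralizer_singleton_iff.mpr (hxQ.1 q hq).eq.symm)
        (fun q hq => Subgroup.mem_centralizer_singleton_iff.mpr (hxQ.2 q hq).eq.symm)
    have hxmem : x ∈ pCore p G := hG (Subgroup.mem_centralizer_iff.mpr fun a ha =>
      (commute_of_fixed hkc ((sup_le hE.Q_le_R hF.Q_le_R : S ≤ pCore p G) (hxR a ha))
        (Subgroup.mem_centralizer_singleton_iff.mp (hxS (hxR a ha))).symm).eq.symm)
    obtain ⟨j, hj⟩ := hroot x₀ hOx0
    exact rn_pow_mem (Nat.Coprime.pow k j ((Nat.coprime_primes hp.out hr).mpr (Ne.symm hrp))) hxmem hj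
  refine hF.le_of_le_sup hE.res fun e he => ?_
  obtain ⟨f, hf, hR⟩ := main e he
  rw [show e = (e * f⁻¹) * f by group]
  exact mul_mem (Subgroup.mem_sup_left hR) (Subgroup.mem_sup_right hf)

theorem eq_or_comm : E = F ∨ ⁅E, F⁆ = ⊥ := by
  by_cases hm : Moves p F E
  · left
    rcases hE.quasi_or with hq | hSE
    · exact (eq_or_not_moves_of_quasi hE hF hEF hFE hq).resolve_right (not_not.mpr hm)
    have hm' := moves_symm hE hF hEF hFE hm
    rcases hF.quasi_or with hq | hSF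
    · exact ((eq_or_not_moves_of_quasi hF hE hFE hEF hq).resolve_right (not_not.mpr hm')).symm
    exact le_antisymm (small_le hE hF hEF hFE hG hSE hSF hm) (small_le hF hE hFE hEF hG hSF hSE hm')
  · exact Or.inr (comm_of_not_moves hE hF hEF hFE hm)

end Cfsg.Agent.Lib.SubnBlock
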