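import Cfsg.Agent.Lib.SubnBlock.Conj

set_option autoImplicit false

/-!
Subnormal blocks normalise one another.
-/

namespace Cfsg.Agent.Lib.SubnBlock

open Cfsg LocalEven
open scoped commutatorElement

universe u
variable {G : Type u} [Group G] {p : ℕ} [Finite G] [hp : Fact p.Prime] {E F : Subgroup G}

/-- Two conjugates are equal or commute. -/
def Orbit (F E : Subgroup G) : Prop :=
  ∀ a ∈ F, ∀ b ∈ F, conjS a E = conjS b E ∨ ⁅conjS a E, conjS b E⁆ = ⊥

omit [Finite G] hp in
theorem comm_of_bot {A B : Subgroup G} (h : ⁅A, B⁆ = ⊥) {a b : G} (ha : a ∈ A) (hb : b ∈ B) :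
    Commute a b :=
  commutatorElement_eq_one_iff_commute.mp (Subgroup.mem_bot.mp (h ▸ Subgroup.commutator_mem_commutator ha hb))

theorem Orbit.le_normalizer (h : Orbit F E) {a : G} (ha : a ∈ F) : conjS a E ≤ Subgroup.normalizer (E : Set G) := by
  intro x hx
  rcases h 1 (one_mem F) a ha with h1 | h1
  · rw [← h1, conjS_one] at hx; exact Subgroup.le_normalizer hx
  · rw [conjS_one] at h1
    refine LocalEven.conjS_eq_self_iff.mp (SetLike.ext fun y => ?_)
    rw [mem_conjS]
    constructor <;> intro hy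
    · have := comm_of_bot h1 hy hx
      rw [show y = x * (x⁻¹ * y * x) * x⁻¹ by group, ← this.eq, mul_inv_cancel_right]
      exact hy
    · rwa [mul_assoc, (comm_of_bot h1 hy hx).eq, inv_mul_cancel_left]

theorem normalises_or_orbit (hE : Blk p E)
    (IH : ∀ A B : Subgroup G, Blk p A → Blk p B →
      Nat.card ↥(A ⊔ B) < Nat.card ↥(E ⊔ F) → A = B ∨ ⁅A, B⁆ = ⊥) :
    F ≤ Subgroup.normalizer (E : Set G) ∨ Orbit F E := by
  rcases (hE.sub.subgroupOf (K := E ⊔ F)).lt_normal with h | ⟨K, hK, hEK, hlt⟩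
  · left
    exact (le_sup_right.trans (Subgroup.subgroupOf_eq_top.mp h)).trans Subgroup.le_normalizer
  · right
    intro a ha b hb
    have hle : ∀ g ∈ F, conjS g E ≤ K.map (E ⊔ F).subtype := by
      intro g hg x hx
      rw [mem_conjS] at hx
      have h1 := hK.conj_mem _ (hEK (x := ⟨g⁻¹ * x * g, Subgroup.mem_sup_left hx⟩) hx) ⟨g, Subgroup.mem_sup_right hg⟩
      refine ⟨_, h1, ?_⟩
      simp [mul_assoc]
    refine IH _ _ (hE.conj a) (hE.conj b) ?_
    refine lt_of_le_of_lt (Subgroup.card_le_of_le (sup_le (hle a ha) (hle b hb))) ?_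
    rw [Subgroup.card_map_of_injective (E ⊔ F).subtype_injective]
    exact lt_of_le_of_ne (Subgroup.card_le_card_group K) fun h => hlt.ne (Subgroup.eq_top_of_card_eq K h)

omit [Finite G] hp in
theorem square_one_or_top {S : Type*} [Group S] (hc : commutator S = ⊤) (K : Subgroup S)
    (h : ∀ x, x ∉ K → x * x = 1) : K = ⊤ ∨ ∀ a b : S, a * b = b * a := by
  by_cases hall : ∀ x y : S, x ∉ K → y ∉ K → x * y ∈ K
  · left
    have m : ∀ x y : S, x * y ∈ K ↔ (x ∈ K ↔ y ∈ K) := fun x y => by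
      by_cases hx : x ∈ K
      · simp [Subgroup.mul_mem_cancel_left K hx, hx]
      · by_cases hy : y ∈ K
        · simp [Subgroup.mul_mem_cancel_right K hy, hx, hy]
        · simp [hall x y hx hy, hx, hy]
    rw [eq_top_iff, ← hc, commutator_def, Subgroup.commutator_le]
    intro a _ b _
    rw [commutatorElement_def, m, m, m, inv_mem_iff, inv_mem_iff]
    tauto
  · right
    push Not at hall
    obtain ⟨x, y, hx, hy, hxy⟩ := hall
    have hsq : ∀ k : S, k * k = 1 := by
      intro k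
      by_cases hk : k ∈ K
      swap
      · exact h k hk
      have e : ∀ z : S, z ∉ K → z * k * z = k⁻¹ := fun z hz => by
        have := h (z * k) fun hh => hz ((Subgroup.mul_mem_cancel_right K hk).mp hh)
        rw [← mul_assoc] at this
        exact eq_inv_of_mul_eq_one_left this
      have exi : x⁻¹ = x := inv_eq_of_mul_eq_one_right (h x hx)
      have eyi : y⁻¹ = y := inv_eq_of_mul_eq_one_right (h y hy)
      have eyx : y * x = x * y := by
        have := inv_eq_of_mul_eq_one_right (h _ hxy)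
        rwa [mul_inv_rev, exi, eyi] at this
      have e1 : (x * y) * k * (x * y) = (x * k * x)⁻¹ := by
        calc (x * y) * k * (x * y) = x * (y * k * y) * x := by rw [← eyx]; simp [mul_assoc, eyx]
          _ = x * k⁻¹ * x := by rw [e y hy]
          _ = (x * k * x)⁻¹ := by rw [mul_inv_rev, mul_inv_rev, exi]; group
      rw [e x hx, e _ hxy, inv_inv] at e1
      nth_rewrite 2 [← e1]
      exact mul_inv_cancel k
    intro a b
    have := inv_eq_of_mul_eq_one_right (hsq (a * b))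
    rw [mul_inv_rev, inv_eq_of_mul_eq_one_right (hsq a), inv_eq_of_mul_eq_one_right (hsq b)] at this
    exact this.symm

theorem le_normalizer_of_quasi (hE : Blk p E) (hF : Blk p F) (hq : IsQuasiBlk p E) (hoE : Orbit F E)
    (hoF : E ≤ Subgroup.normalizer (F : Set G) ∨ Orbit E F) : F ≤ Subgroup.normalizer (E : Set G) := by
  classical
  intro f hf
  by_contra hfN
  obtain ⟨H, _, ρ, hs, hker, hperf, hne, hnorm⟩ := hq
  have h12 : ⁅E, conjS f E⁆ = ⊥ := by
    rcases hoE 1 (one_mem F) f hf with h | h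
    · exact absurd (LocalEven.conjS_eq_self_iff.mp ((h.symm.trans (conjS_one E)))) hfN
    · rwa [conjS_one] at h
  have h23 : ⁅conjS f E, conjS (f * f) E⁆ = ⊥ := by
    rw [conjS_mul, ← conjS_commutator, h12]
    exact Subgroup.map_bot _
  -- (a) the squares outside the normalizer are central
  have hEN : E ≤ Subgroup.normalizer (F : Set G) := by
    rcases hoF with h | hoF
    · exact h
    let K : Subgroup ↥E := (Subgroup.normalizer (F : Set G)).subgroupOf E
    have hsq : ∀ e ∈ E, e ∉ Subgroup.normalizer (F : Set G) → ∀ x ∈ E, Commute (e * e) x := by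
      intro e he heN
      have hFe : ⁅F, conjS e F⁆ = ⊥ := by
        rcases hoF 1 (one_mem E) e he with h | h
        · exact absurd (LocalEven.conjS_eq_self_iff.mp ((h.symm.trans (conjS_one F)))) heN
        · rwa [conjS_one] at h
      set e2 := f * e * f⁻¹ with he2
      set e3 := f * e2 * f⁻¹ with he3
      have he2m : e2 ∈ conjS f E := conj_mem_conjS he
      have he3m : e3 ∈ conjS (f * f) E := by rw [conjS_mul]; exact conj_mem_conjS he2m
      have hfc : f * (e * e2⁻¹) * f⁻¹ = e * e2⁻¹ := by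
        have h1 : Commute f (e * f * e⁻¹) := comm_of_bot hFe hf (conj_mem_conjS hf)
        have h2 : e * e2⁻¹ = (e * f * e⁻¹) * f⁻¹ := by rw [he2]; group
        rw [h2]
        calc f * ((e * f * e⁻¹) * f⁻¹) * f⁻¹ = (f * (e * f * e⁻¹)) * f⁻¹ * f⁻¹ := by group
          _ = ((e * f * e⁻¹) * f) * f⁻¹ * f⁻¹ := by rw [h1.eq]
          _ = (e * f * e⁻¹) * f⁻¹ := by group
      have heq : e2 * e3⁻¹ * e2 = e := by
        have : e2 * e3⁻¹ = e * e2⁻¹ := by
          rw [← hfc, he3, he2]; group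
        rw [this, inv_mul_cancel_right]
      intro x hx
      by_cases h13 : conjS (f * f) E = E
      · have he3E : e3 ∈ E := h13 ▸ he3m
        have h32 : Commute e3 e2 := comm_of_bot h12 he3E he2m
        have hee : e2 * e2 = e * e3 := by
          calc e2 * e2 = e2 * e3⁻¹ * (e3 * e2) := by group
            _ = e2 * e3⁻¹ * (e2 * e3) := by rw [h32.eq]
            _ = (e2 * e3⁻¹ * e2) * e3 := by group
            _ = e * e3 := by rw [heq]
        have hc : Commute (e2 * e2) (f * x * f⁻¹) := by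
          rw [hee]
          exact comm_of_bot h12 (mul_mem he he3E) (conj_mem_conjS hx)
        have := hc.map (MulAut.conj f⁻¹).toMonoidHom
        simpa [he2, mul_assoc] using this
      · have h13' : ⁅E, conjS (f * f) E⁆ = ⊥ := by
          rcases hoE 1 (one_mem F) (f * f) (mul_mem hf hf) with h | h
          · exact absurd (h.symm.trans (conjS_one E)) h13
          · rwa [conjS_one] at h
        have hex : Commute e x := by
          rw [← heq]
          exact (((comm_of_bot h12 hx he2m).symm.mul_left (comm_of_bot h13' hx he3m).symm.inv_left).mul_left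
            (comm_of_bot h12 hx he2m).symm)
        exact hex.mul_left hex
    by_contra hcon
    let S := H ⧸ Subgroup.center H
    let π := QuotientGroup.mk' (Subgroup.center H)
    have hS : commutator S = ⊤ := by
      rw [← commutator_le_of_image π (QuotientGroup.mk'_surjective _), hperf,
        Subgroup.map_top_of_surjective π (QuotientGroup.mk'_surjective _)]
    rcases square_one_or_top hS ((K.map ρ).map π) (fun s hs' => by
      obtain ⟨h, rfl⟩ := QuotientGroup.mk'_surjective _ s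
      obtain ⟨e, rfl⟩ := hs h
      have heK : (e : G) ∉ Subgroup.normalizer (F : Set G) := fun hh =>
        hs' (Subgroup.mem_map_of_mem π (Subgroup.mem_map_of_mem ρ (show e ∈ K from hh)))
      rw [← map_mul, ← map_mul]
      refine (QuotientGroup.eq_one_iff _).mpr (Subgroup.mem_center_iff.mpr fun h' => ?_)
      obtain ⟨x, rfl⟩ := hs h'
      rw [← map_mul ρ x, ← map_mul ρ (e * e) x,
        show e * e * x = x * (e * e) from Subtype.ext (hsq e e.2 heK x x.2).eq]) with htop | hab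
    · have hKρ : K.map ρ = ⊤ := by
        rw [eq_top_iff, ← hperf, commutator_def, Subgroup.commutator_le]
        intro a _ b _
        obtain ⟨a', ha', haa⟩ : π a ∈ (K.map ρ).map π := htop ▸ Subgroup.mem_top _
        obtain ⟨b', hb', hbb⟩ : π b ∈ (K.map ρ).map π := htop ▸ Subgroup.mem_top _
        have hca : a'⁻¹ * a ∈ Subgroup.center H := (QuotientGroup.eq).mp haa
        have hcb : b'⁻¹ * b ∈ Subgroup.center H := (QuotientGroup.eq).mp hbb
        have : ⁅a, b⁆ = ⁅a', b'⁆ := by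
          calc ⁅a, b⁆ = a' * ((a'⁻¹ * a) * (b' * (b'⁻¹ * b)) * (a'⁻¹ * a)⁻¹) * a'⁻¹ * (b' * (b'⁻¹ * b))⁻¹ := by
                rw [commutatorElement_def]; group
            _ = a' * (b' * (b'⁻¹ * b)) * a'⁻¹ * (b' * (b'⁻¹ * b))⁻¹ := by
                rw [← Subgroup.mem_center_iff.mp hca, mul_inv_cancel_right]
            _ = (a' * b') * ((b'⁻¹ * b) * a'⁻¹) * (b'⁻¹ * b)⁻¹ * b'⁻¹ := by group
            _ = ⁅a', b'⁆ := by
                rw [← Subgroup.mem_center_iff.mp hcb, commutatorElement_def]; group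
        rw [this, commutatorElement_def]
        exact mul_mem (mul_mem (mul_mem ha' hb') (inv_mem ha')) (inv_mem hb')
      refine hcon fun e he => ?_
      obtain ⟨k, hk, hke⟩ : ρ ⟨e, he⟩ ∈ K.map ρ := hKρ ▸ Subgroup.mem_top _
      have h1 : ((k⁻¹ * ⟨e, he⟩ : ↥E) : G) ∈ pCore p G := (hker _).mp (by rw [map_mul, map_inv, hke, inv_mul_cancel])
      have h2 := mul_mem (show (k : G) ∈ Subgroup.normalizer (F : Set G) from hk) (hF.rn h1)
      simpa using h2
    · apply hne
      have hbot : commutator S = ⊥ := by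
        rw [commutator_def, Subgroup.commutator_eq_bot_iff_le_centralizer]
        exact fun a _ => Subgroup.mem_centralizer_iff.mpr fun b _ => hab b a
      rw [hS] at hbot
      rw [eq_top_iff]
      intro h _
      exact (QuotientGroup.eq_one_iff h).mp (Subgroup.mem_bot.mp (hbot ▸ Subgroup.mem_top (π h)))
  -- (b)
  have hEE : ⁅E, E⁆ ≤ F := by
    refine Subgroup.commutator_le.mpr fun e he x hx => ?_
    have hc : e * f * e⁻¹ * f⁻¹ ∈ F :=
      mul_mem ((Subgroup.mem_normalizer_iff.mp (hEN he) f).mp hf) (inv_mem hf)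
    have h2 : Commute (f * e⁻¹ * f⁻¹) x := (comm_of_bot h12 hx (conj_mem_conjS (inv_mem he))).symm
    have h1 : ⁅e, x⁆ = (e * f * e⁻¹ * f⁻¹) * (x * (e * f * e⁻¹ * f⁻¹)⁻¹ * x⁻¹) := by
      symm
      calc (e * f * e⁻¹ * f⁻¹) * (x * (e * f * e⁻¹ * f⁻¹)⁻¹ * x⁻¹)
          = e * ((f * e⁻¹ * f⁻¹) * x) * (f * e⁻¹ * f⁻¹)⁻¹ * e⁻¹ * x⁻¹ := by group
        _ = ⁅e, x⁆ := by rw [h2.eq, commutatorElement_def]; group
    rw [h1]
    exact mul_mem hc ((Subgroup.mem_normalizer_iff.mp (hEN hx) _).mp (inv_mem hc))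
  have hEF : E ≤ F := hF.le_of_le_sup hE.res (fun e he => by
    obtain ⟨d, hd, hde⟩ : ρ ⟨e, he⟩ ∈ (commutator ↥E).map ρ := by
      rw [commutator_le_of_image ρ hs, hperf]; trivial
    have h1 : ((⟨e, he⟩ * d⁻¹ : ↥E) : G) ∈ pCore p G := (hker _).mp (by rw [map_mul, map_inv, hde, mul_inv_cancel])
    have hdF : (d : G) ∈ F := hEE (by rw [← Subgroup.map_subtype_commutator]; exact Subgroup.mem_map_of_mem E.subtype hd)
    have := mul_mem (Subgroup.mem_sup_left (T := F) h1) (Subgroup.mem_sup_right (S := pCore p G) hdF)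
    simpa using this)
  have hq' : IsQuasiBlk p E := ⟨H, _, ρ, hs, hker, hperf, hne, hnorm⟩
  rcases hF.quasi_or with ⟨H', _, ρ', hs', hker', -, -, hnorm'⟩ | hSF
  swap
  · exact hE.not_small_above hq' hSF hEF
  set K : Subgroup G := ⨆ l : ↥F, conjS (l : G) E with hK
  have hKn : F ≤ Subgroup.normalizer (K : Set G) := le_normalizer_of_conj fun k hk y hy => by
    have h1 : conjS k K ≤ K := by
      rw [hK, conjS, Subgroup.map_iSup]
      refine iSup_le fun l => ?_
      show conjS k (conjS (l : G) E) ≤ _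
      rw [← conjS_mul]
      exact le_iSup (fun l : ↥F => conjS (l : G) E) (⟨k, hk⟩ * l)
    exact h1 (conj_mem_conjS hy)
  have hKF : K ≤ F := iSup_le fun l => (conjS_mono _ hEF).trans (conjS_mem_eq_self l.2).le
  have hKN : K ≤ Subgroup.normalizer (E : Set G) := iSup_le fun l => hoE.le_normalizer l.2
  have hn : (K.subgroupOf F).Normal := Subgroup.normal_subgroupOf_of_le_normalizer hKn
  rcases hnorm' _ (hn.map ρ' hs') with ht | hc
  · apply hfN
    obtain ⟨k, hk, hke⟩ : ρ' ⟨f, hf⟩ ∈ (K.subgroupOf F).map ρ' := ht ▸ Subgroup.mem_top _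
    have h1 : ((k⁻¹ * ⟨f, hf⟩ : ↥F) : G) ∈ pCore p G := (hker' _).mp (by rw [map_mul, map_inv, hke, inv_mul_cancel])
    have := mul_mem (hKN hk) (hE.rn h1)
    simpa using this
  · have hEK : E ≤ K := by
      have := le_iSup (fun l : ↥F => conjS (l : G) E) 1
      rwa [Subgroup.coe_one, conjS_one] at this
    apply hne
    have hbot : commutator H = ⊥ := by
      rw [eq_bot_iff, commutator_def, Subgroup.commutator_le]
      intro a _ b _
      obtain ⟨a, rfl⟩ := hs a
      obtain ⟨b, rfl⟩ := hs b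
      rw [← map_commutatorElement, Subgroup.mem_bot, hker]
      have h1 : ρ' ⁅(⟨a, hEF a.2⟩ : ↥F), ⟨b, hEF b.2⟩⁆ = 1 := by
        rw [map_commutatorElement, commutatorElement_eq_one_iff_commute]
        exact Subgroup.mem_center_iff.mp (hc (Subgroup.mem_map_of_mem ρ' (show (⟨b, hEF b.2⟩ : ↥F) ∈ K.subgroupOf F from hEK b.2))) _
      exact (hker' _).mp h1
    rw [hperf] at hbot
    exact top_le_iff.mp (hbot.le.trans bot_le)

theorem le_normalizer_small_quasi (hE : Blk p E) (hF : Blk p F) (hSE : IsSmallBlk p E) (hqF : IsQuasiBlk p F)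
    (hEN : E ≤ Subgroup.normalizer (F : Set G)) : F ≤ Subgroup.normalizer (E : Set G) := by
  haveI := LocalEven2.pCore_normal p G
  obtain ⟨r, n, hr, -, -, -, hEn⟩ := hSE.index_prime
  haveI := Fact.mk hr
  let π := QuotientGroup.mk' (pCore p G)
  let O : Subgroup G := (pCore r (G ⧸ pCore p G)).comap π
  have hOn : O.Normal := (LocalEven2.pCore_normal r (G ⧸ pCore p G)).comap π
  set B := O ⊓ Subgroup.normalizer (F : Set G) with hB
  have hEB : E ≤ B := le_inf (Subgroup.map_le_iff_le_comap.mp (hSE.image_le_core hE.sub hr hEn)) hEN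
  have hFB : F ≤ Subgroup.normalizer (B : Set G) :=
    le_normalizer_inf' (by rw [Subgroup.normalizer_eq_top_iff.mpr hOn]; exact le_top)
      (Subgroup.le_normalizer.trans Subgroup.le_normalizer)
  rcases hF.comm_mod_of_quasi hFB inf_le_right hqF with hc | hle
  · intro f hf
    refine LocalEven.conjS_eq_self_iff.mp (Subgroup.eq_of_le_of_card_ge ?_ (card_conjS f E).ge)
    refine hE.le_of_le_sup (hE.conj f).res fun x hx => ?_
    rw [mem_conjS] at hx
    have h1 := hc f hf _ (hEB hx)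
    rw [show x = (f * (f⁻¹ * x * f) * f⁻¹ * (f⁻¹ * x * f)⁻¹) * (f⁻¹ * x * f) by group]
    exact mul_mem (Subgroup.mem_sup_left h1) (Subgroup.mem_sup_right hx)
  · exfalso
    have hRO : pCore p G ≤ O := fun x hx => by
      show π x ∈ pCore r (G ⧸ pCore p G)
      rw [show π x = 1 from (QuotientGroup.eq_one_iff x).mpr hx]; exact one_mem _
    have hFO : F ≤ O := hle.trans (sup_le hRO inf_le_left)
    obtain ⟨H, _, ρ, hs, hker, hQ⟩ := hqF
    haveI : Finite H := Finite.of_surjective ρ hs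
    have hH : IsPGroup r H := by
      rw [isPGroup_iff_pow_pow_eq_one]
      intro h
      obtain ⟨e, rfl⟩ := hs h
      obtain ⟨j, hj⟩ := LocalEven2.pCore_isPGroup r (G ⧸ pCore p G) ⟨π e, hFO e.2⟩
      refine ⟨j, ?_⟩
      rw [← map_pow, hker, SubmonoidClass.coe_pow]
      exact (QuotientGroup.eq_one_iff _).mp ((map_pow π (e : G) (r ^ j)).trans (congrArg Subtype.val hj))
    haveI := hH.isNilpotent
    exact not_quasi_of_nilpotent hQ

theorem le_normalizer_small_small (hE : Blk p E) (hF : Blk p F) (hSE : IsSmallBlk p E) (hSF : IsSmallBlk p F)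
    (hoE : Orbit F E) : F ≤ Subgroup.normalizer (E : Set G) := by
  classical
  set W₁ := WOf p E with hW1
  set Z₁ := ZOf p E with hZ1
  set WF := WOf p F with hWF
  set ZF := ZOf p F with hZF
  obtain ⟨m, hm4, hmE, hmF⟩ : ∃ m, 4 ≤ m ∧ Z₁.relIndex W₁ = m ∧ ZF.relIndex WF = m := by
    obtain ⟨_, _, _, -, -, -, ⟨h1, -, h2⟩ | ⟨h1, h2, -⟩⟩ := hSE <;>
      obtain ⟨_, _, _, -, -, -, ⟨h3, -, h4⟩ | ⟨h3, h4, -⟩⟩ := hSF
    · exact ⟨4, le_rfl, h2, h4⟩
    · omega
    · omega
    · exact ⟨9, by omega, h2, h4⟩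
  set P : Subgroup G := ⨆ l : ↥F, conjS (l : G) W₁ with hP
  have hWP : ∀ {a : G}, a ∈ F → conjS a W₁ ≤ P := fun {a} ha => le_iSup (fun l : ↥F => conjS (l : G) W₁) ⟨a, ha⟩
  have hPR : P ≤ pCore p G := iSup_le fun l => by rw [hW1, conjS_WOf]; exact (hE.conj _).W_le_R
  have hPab : P ≤ Subgroup.centralizer (P : Set G) := iSup_le fun l => by
    rw [Subgroup.le_centralizer_iff]
    refine iSup_le fun l' => ?_
    intro x hx
    rw [Subgroup.mem_centralizer_iff]
    intro y hy
    rcases hoE l l.2 l' l'.2 with h | h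
    · rw [hW1, conjS_WOf, ← h, ← conjS_WOf] at hx
      rw [hW1, conjS_WOf] at hy
      rw [conjS_WOf] at hx
      exact W_abel hy hx
    · exact (comm_of_bot h (conjS_mono _ ((WOf_le E).trans (LocalEven2.pCoreOf_le E)) hy)
        (conjS_mono _ ((WOf_le E).trans (LocalEven2.pCoreOf_le E)) hx)).eq
  have hab : ∀ {a b : G}, a ∈ P → b ∈ P → a * b = b * a := fun {a b} ha hb =>
    Subgroup.mem_centralizer_iff.mp (hPab hb) a ha
  have hFP : F ≤ Subgroup.normalizer (P : Set G) := le_normalizer_of_conj fun k hk y hy => by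
    have h1 : conjS k P ≤ P := by
      rw [hP, conjS, Subgroup.map_iSup]
      refine iSup_le fun l => ?_
      show conjS k (conjS (l : G) W₁) ≤ _
      rw [← conjS_mul]
      exact le_iSup (fun l : ↥F => conjS (l : G) W₁) (⟨k, hk⟩ * l)
    exact h1 (conj_mem_conjS hy)
  have hAP : ⁅P, F⁆ ≤ P := commutator_le_left hFP
  have hAW : ⁅P, F⁆ ≤ WF := hF.abel_le_W (fun x hx => hF.memQ (by
      have : ⁅F, P⁆ ≤ F := commutator_le_left (hPR.trans hF.rn)
      exact this (by rwa [Subgroup.commutator_comm])) (hPR (hAP hx)))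
    (LocalEven2.Baumann.le_normalizer_commutator hFP Subgroup.le_normalizer)
    (fun a ha b hb => hab (hAP ha) (hAP hb))
  have hA : ∀ {g u : G}, g ∈ F → u ∈ P → g * u * g⁻¹ * u⁻¹ ∈ ⁅P, F⁆ := fun hg hu => by
    rw [Subgroup.commutator_comm]; exact Subgroup.commutator_mem_commutator hg hu
  haveI : (ZF.subgroupOf WF).Normal := Subgroup.normal_subgroupOf_of_le_normalizer (W_le_normalizer_Z F)
  have hWE1 : W₁ ≤ E := (WOf_le E).trans (LocalEven2.pCoreOf_le E)
  -- for an element moving `E` there is a fixed element outside the centre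
  have key : ∀ g ∈ F, Nat.Coprime (orderOf g) p → g ∉ Subgroup.normalizer (E : Set G) →
      ∃ a ∈ W₁, a ∉ Z₁ ∧ ∃ b ∈ conjS g W₁, Commute g (a * b) := by
    intro g hg hgc hgN
    have h12 : ⁅E, conjS g E⁆ = ⊥ := by
      rcases hoE 1 (one_mem F) g hg with h | h
      · exact absurd (LocalEven.conjS_eq_self_iff.mp ((h.symm.trans (conjS_one E)))) hgN
      · rwa [conjS_one] at h
    have h23 : ⁅conjS g E, conjS g (conjS g E)⁆ = ⊥ := by
      rw [← conjS_commutator, h12]; exact Subgroup.map_bot _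
    by_contra hcon
    push Not at hcon
    set W₂ := conjS g W₁ with hW2
    set Z₂ := conjS g Z₁ with hZ2
    have h1P : W₁ ≤ P := by
      have := hWP (one_mem F)
      rwa [conjS_one] at this
    have h2P : W₂ ≤ P := hWP hg
    have hout : ∀ a ∈ W₁, ∀ b ∈ W₂, Commute g (a * b) → a ∈ Z₁ ∧ b ∈ Z₂ := by
      intro a ha b hb hab'
      have haZ : a ∈ Z₁ := by_contra fun h => hcon a ha h b hb hab'
      refine ⟨haZ, ?_⟩
      rw [hZ2, hZ1, conjS_ZOf]
      refine ⟨by rwa [← conjS_WOf], Subgroup.mem_centralizer_iff.mpr fun x hx => ?_⟩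
      have hb' : b = a⁻¹ * ((g * a * g⁻¹) * (g * b * g⁻¹)) := by
        rw [show (g * a * g⁻¹) * (g * b * g⁻¹) = g * (a * b) * g⁻¹ by group, hab'.eq, mul_inv_cancel_right]; group
      have hga : g * a * g⁻¹ ∈ Subgroup.centralizer (conjS g E : Set G) := by
        rw [← conjS_centralizer]; exact conj_mem_conjS haZ.2
      have c3 : Commute x (g * b * g⁻¹) := comm_of_bot h23 hx (conj_mem_conjS (conjS_mono g hWE1 hb))
      have c1 : Commute x a⁻¹ := (comm_of_bot h12 (hWE1 (inv_mem ha)) hx).symm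
      rw [hb']
      have c2 : Commute x (g * a * g⁻¹) := Subgroup.mem_centralizer_iff.mp hga x hx
      exact (c1.mul_right (c2.mul_right c3)).eq
    let χ : ↥W₁ × ↥W₂ →* ↥WF ⧸ ZF.subgroupOf WF := MonoidHom.mk'
      (fun x => QuotientGroup.mk ⟨g * ((x.1 : G) * x.2) * g⁻¹ * ((x.1 : G) * x.2)⁻¹,
        hAW (hA hg (mul_mem (h1P x.1.2) (h2P x.2.2)))⟩) (fun x y => by
        rw [← QuotientGroup.mk_mul]
        congr 1
        refine Subtype.ext ?_
        show g * (((x.1 : G) * y.1) * ((x.2 : G) * y.2)) * g⁻¹ * (((x.1 : G) * y.1) * ((x.2 : G) * y.2))⁻¹ = _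
        set a := (x.1 : G) * x.2 with ha
        set c := (y.1 : G) * y.2 with hc
        have haP : a ∈ P := mul_mem (h1P x.1.2) (h2P x.2.2)
        have hcP : c ∈ P := mul_mem (h1P y.1.2) (h2P y.2.2)
        rw [show ((x.1 : G) * y.1) * ((x.2 : G) * y.2) = a * c by
          rw [ha, hc, mul_assoc, ← mul_assoc (y.1 : G), hab (h1P y.1.2) (h2P x.2.2)]; group]
        calc g * (a * c) * g⁻¹ * (a * c)⁻¹ = (g * a * g⁻¹) * ((g * c * g⁻¹ * c⁻¹) * a⁻¹) := by group
          _ = (g * a * g⁻¹) * (a⁻¹ * (g * c * g⁻¹ * c⁻¹)) := by rw [hab (hAP (hA hg hcP)) (inv_mem haP)]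
          _ = (g * a * g⁻¹ * a⁻¹) * (g * c * g⁻¹ * c⁻¹) := by group)
    have hk : ∀ x, x ∈ χ.ker → (x.1 : G) ∈ Z₁ ∧ (x.2 : G) ∈ Z₂ := fun x hx => by
      refine hout _ x.1.2 _ x.2.2 ?_
      have hu : ((x.1 : G) * x.2) ∈ P := mul_mem (h1P x.1.2) (h2P x.2.2)
      have hmem : g * ((x.1 : G) * x.2) * g⁻¹ * ((x.1 : G) * x.2)⁻¹ ∈ ZF := (QuotientGroup.eq_one_iff (N := ZF.subgroupOf WF) (⟨_, hAW (hA hg hu)⟩ : ↥WF)).mp hx
      exact commute_of_fixed hgc (hPR (hAP (hA hg hu))) (Z_cent hmem hg)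
    have hc1 : Nat.card ↥χ.ker ≤ Nat.card ↥Z₁ * Nat.card ↥Z₂ := by
      rw [← Nat.card_prod]
      refine Nat.card_le_card_of_injective (fun x => (⟨_, (hk x.1 x.2).1⟩, ⟨_, (hk x.1 x.2).2⟩)) ?_
      intro x y hxy
      rw [Prod.mk.injEq, Subtype.mk.injEq, Subtype.mk.injEq] at hxy
      exact Subtype.ext (Prod.ext (Subtype.ext hxy.1) (Subtype.ext hxy.2))
    have hc2 : Nat.card ↥χ.range ≤ m :=
      hmF ▸ (Subgroup.card_le_card_group χ.range).trans le_rfl
    have hc3 : Nat.card ↥W₁ * Nat.card ↥W₂ = Nat.card ↥χ.range * Nat.card ↥χ.ker := by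
      rw [← Nat.card_prod, Subgroup.card_eq_card_quotient_mul_card_subgroup χ.ker,
        Nat.card_congr (QuotientGroup.quotientKerEquivRange χ).toEquiv]
    rw [show Nat.card ↥W₂ = Nat.card ↥W₁ from card_conjS g W₁] at hc3
    rw [hZ2, card_conjS] at hc1
    have hc4 : Nat.card ↥W₁ = Nat.card ↥Z₁ * m := by
      rw [← hmE]; exact (card_mul_relIndex' inf_le_left).symm
    have hpos : 0 < Nat.card ↥Z₁ := Nat.card_pos
    have h5 := Nat.mul_le_mul hc2 hc1
    rw [← hc3, hc4] at h5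
    nlinarith [mul_pos hpos hpos, hm4]
  have hsqN : ∀ g ∈ F, Nat.Coprime (orderOf g) p → g * g ∈ Subgroup.normalizer (E : Set G) := by
    intro g hg hgc
    by_cases hgN : g ∈ Subgroup.normalizer (E : Set G)
    · exact mul_mem hgN hgN
    by_contra hcon
    obtain ⟨a, ha, haZ, b, hb, hgab⟩ := key g hg hgc hgN
    have h12 : ⁅E, conjS g E⁆ = ⊥ := by
      rcases hoE 1 (one_mem F) g hg with h | h
      · exact absurd (LocalEven.conjS_eq_self_iff.mp ((h.symm.trans (conjS_one E)))) hgN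
      · rwa [conjS_one] at h
    have h13 : ⁅E, conjS (g * g) E⁆ = ⊥ := by
      rcases hoE 1 (one_mem F) (g * g) (mul_mem hg hg) with h | h
      · exact absurd (LocalEven.conjS_eq_self_iff.mp ((h.symm.trans (conjS_one E)))) hcon
      · rwa [conjS_one] at h
    refine haZ ⟨ha, Subgroup.mem_centralizer_iff.mpr fun x hx => ?_⟩
    have ha' : a = (g * a * g⁻¹) * (g * b * g⁻¹) * b⁻¹ := by
      rw [show (g * a * g⁻¹) * (g * b * g⁻¹) = g * (a * b) * g⁻¹ by group, hgab.eq, mul_inv_cancel_right,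
        mul_inv_cancel_right]
    have c1 : Commute x (g * a * g⁻¹) := comm_of_bot h12 hx (conj_mem_conjS (hWE1 ha))
    have c2 : Commute x (g * b * g⁻¹) := comm_of_bot h13 hx (by
      rw [conjS_mul]; exact conj_mem_conjS (conjS_mono g hWE1 hb))
    have c3 : Commute x b⁻¹ := comm_of_bot h12 hx (inv_mem (conjS_mono g hWE1 hb))
    rw [ha']
    exact ((c1.mul_right c2).mul_right c3).eq
  refine hF.res.ge.trans ((LocalEven.pResOf_le_iff).mpr fun f hf hfc => ?_)
  obtain ⟨H, _, ρ, hs, hker, -, ⟨hp2, -⟩ | ⟨hp3, -, z, ⟨hH, -, hz1, hsq, hun⟩, hinv⟩⟩ := hSF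
  · subst hp2
    obtain ⟨j, hj⟩ := Nat.coprime_two_right.mp hfc
    have h1 := pow_orderOf_eq_one f
    rw [hj, pow_succ, pow_mul, pow_two] at h1
    rw [eq_inv_of_mul_eq_one_right h1]
    exact inv_mem (pow_mem (hsqN f hf hfc) j)
  subst hp3
  haveI : Finite H := Finite.of_surjective ρ hs
  have hR : ∀ {a : ↥F}, ρ a = 1 → (a : G) ∈ Subgroup.normalizer (E : Set G) := fun {a} h => hE.rn ((hker a).mp h)
  by_contra hfN
  set φ : ↥F := ⟨f, hf⟩ with hφ
  have hf1 : ρ φ ≠ 1 := fun h => hfN (hR h)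
  have hfz : ρ φ ≠ z := by
    intro hfz
    apply hfN
    obtain ⟨x, hx1, hxz⟩ : ∃ x : H, x ≠ 1 ∧ x ≠ z := by
      by_contra hall
      push Not at hall
      haveI := Fintype.ofFinite H
      have hu : (Finset.univ : Finset H) ⊆ {1, z} := fun x _ => by
        by_cases h : x = 1
        · simp [h]
        · simp [hall x h]
      have h2 := (Finset.card_le_card hu).trans Finset.card_le_two
      rw [Finset.card_univ, ← Nat.card_eq_fintype_card, hH] at h2
      omega
    obtain ⟨g0, hg0⟩ := hs x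
    obtain ⟨k, hk⟩ := coprime_power_part (p := 3) (g0 : G)
    have hxx : x * x = z := (hsq x).resolve_left fun h => (hun x h).elim hx1 hxz
    have hzz : z * z = 1 := (hsq z).resolve_right fun h => hz1 (mul_eq_left.mp h)
    have hsqk : ρ (g0 ^ 3 ^ k * g0 ^ 3 ^ k) = z := by
      obtain ⟨j, hj⟩ : ∃ j, 3 ^ k = 2 * j + 1 := ⟨3 ^ k / 2, by
        have : (3 ^ k) % 2 = 1 := by rw [Nat.pow_mod]; simp
        omega⟩
      rw [map_mul, map_pow, hg0, ← pow_add, ← two_mul, pow_mul, pow_two, hxx, hj, pow_succ, pow_mul,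
        pow_two, hzz, one_pow, one_mul]
    have h1 := hR (a := φ * (g0 ^ 3 ^ k * g0 ^ 3 ^ k)⁻¹) (by rw [map_mul, map_inv, hfz, hsqk, mul_inv_cancel])
    have h2 := mul_mem h1 (hsqN _ (pow_mem g0.2 (3 ^ k)) hk)
    simp [hφ] at h2
    rwa [show ∀ A B : G, A * (B⁻¹ * B⁻¹) * (B * B) = A from fun A B => by group] at h2
  have hff : ρ (φ * φ) = z := by
    rw [map_mul]; exact (hsq _).resolve_left fun h => (hun _ h).elim hf1 hfz
  have hzz : z * z = 1 := (hsq z).resolve_right fun h => hz1 (mul_eq_left.mp h)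
  have hf4 : (f * f) * (f * f) = 1 := by
    have hm : (f * f) * (f * f) ∈ pCore 3 G :=
      (hker ((φ * φ) * (φ * φ))).mp (by rw [map_mul, hff, hzz])
    obtain ⟨k, hk⟩ := R_pgroup (p := 3) ⟨_, hm⟩
    refine LocalEven.eq_one_of_coprime_of_pow (p := 3) (k := k) ?_ (congrArg Subtype.val hk)
    refine Nat.Coprime.coprime_dvd_left ?_ hfc
    rw [← pow_two, ← pow_two, ← pow_mul]
    exact orderOf_pow_dvd _
  obtain ⟨a, ha, haZ, b, hb, hfab⟩ := key f hf hfc hfN
  have h12 : ⁅E, conjS f E⁆ = ⊥ := by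
    rcases hoE 1 (one_mem F) f hf with h | h
    · exact absurd (LocalEven.conjS_eq_self_iff.mp ((h.symm.trans (conjS_one E)))) hfN
    · rwa [conjS_one] at h
  have hN2 := hsqN f hf hfc
  set a₂ := (f * f) * a * (f * f)⁻¹ with ha2
  have ha2m : a₂ ∈ W₁ := (Subgroup.mem_normalizer_iff.mp (nW E hN2) a).mp ha
  have h1P : ∀ {w : G}, w ∈ W₁ → w ∈ P := fun {w} hw => by
    have := hWP (one_mem F)
    rw [conjS_one] at this
    exact this hw
  have hd : a⁻¹ * a₂ ∈ Z₁ := by
    refine ⟨(mul_mem (inv_mem ha) ha2m : a⁻¹ * a₂ ∈ W₁), Subgroup.mem_centralizer_iff.mpr fun x hx => ?_⟩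
    have he : a⁻¹ * a₂ = b * ((f * f) * b * (f * f)⁻¹)⁻¹ := by
      have h := (hfab.mul_left hfab).eq
      calc a⁻¹ * a₂ = a⁻¹ * ((f * f) * (a * b)) * b⁻¹ * (f * f)⁻¹ := by rw [ha2]; group
        _ = a⁻¹ * ((a * b) * (f * f)) * b⁻¹ * (f * f)⁻¹ := by rw [h]
        _ = b * ((f * f) * b * (f * f)⁻¹)⁻¹ := by simp [mul_assoc]
    have hb2 : (f * f) * b * (f * f)⁻¹ ∈ conjS f E := by
      have h1 := conj_mem_conjS (g := f * f) (conjS_mono f hWE1 hb)
      rwa [← conjS_mul, show f * f * f = f * (f * f) by group, conjS_mul,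
        LocalEven.conjS_eq_self_iff.mpr hN2] at h1
    rw [he]
    exact (comm_of_bot h12 hx (mul_mem (conjS_mono f hWE1 hb : b ∈ conjS f E) (inv_mem hb2))).eq
  set a' := a * a₂ with ha'
  have ha'm : a' ∈ W₁ := mul_mem ha ha2m
  have hfix : (f * f) * a' * (f * f)⁻¹ = a' := by
    calc (f * f) * a' * (f * f)⁻¹ = a₂ * (((f * f) * (f * f)) * a * ((f * f) * (f * f))⁻¹) := by rw [ha', ha2]; simp [mul_assoc]
      _ = a₂ * a := by rw [hf4]; group
      _ = a' := W_abel ha2m ha
  have ha'Z : a' ∉ Z₁ := fun h => haZ (by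
    have h1 := mul_mem h (inv_mem hd)
    rw [ha', show a * a₂ * (a⁻¹ * a₂)⁻¹ = a * a by group] at h1
    have h3 := WOf_pow E ha
    rw [pow_succ, pow_two] at h3
    rw [eq_inv_of_mul_eq_one_right h3]
    exact inv_mem h1)
  set t := f * a' * f⁻¹ * a'⁻¹ with ht
  have htW : t ∈ WF := hAW (hA hf (h1P ha'm))
  have htfix : (f * f) * t * (f * f)⁻¹ = t := by
    calc (f * f) * t * (f * f)⁻¹ = f * ((f * f) * a' * (f * f)⁻¹) * f⁻¹ * ((f * f) * a' * (f * f)⁻¹)⁻¹ := by
          rw [ht]; group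
      _ = t := by rw [hfix]
  have htZ : t ∈ ZF := by
    have h1 := hinv (φ * φ) hff t htW
    change (f * f) * t * (f * f)⁻¹ * t ∈ ZF at h1
    rw [htfix] at h1
    have h3 := WOf_pow F htW
    rw [pow_succ, pow_two] at h3
    rw [eq_inv_of_mul_eq_one_right h3]
    exact inv_mem h1
  have hcm : Commute f a' := commute_of_fixed hfc (hPR (hAP (hA hf (h1P ha'm)))) (Z_cent htZ hf)
  refine ha'Z ⟨ha'm, Subgroup.mem_centralizer_iff.mpr fun x hx => ?_⟩
  have h1 := conj_mem_conjS (g := f) (hWE1 ha'm)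
  rw [hcm.eq, mul_inv_cancel_right] at h1
  exact (comm_of_bot h12 hx h1).eq

theorem eq_or_comm_of_subnormal (hG : Subgroup.centralizer (pCore p G : Set G) ≤ pCore p G) :
    ∀ n, ∀ E F : Subgroup G, Blk p E → Blk p F → Nat.card ↥(E ⊔ F) = n → E = F ∨ ⁅E, F⁆ = ⊥ := by
  intro n
  induction n using Nat.strong_induction_on with
  | _ n IH =>
  intro E F hE hF hn
  have IH' : ∀ A B : Subgroup G, Blk p A → Blk p B → Nat.card ↥(A ⊔ B) < n → A = B ∨ ⁅A, B⁆ = ⊥ :=
    fun A B hA hB h => IH _ h A B hA hB rfl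
  have hoE := normalises_or_orbit (F := F) hE (fun A B hA hB h => IH' A B hA hB (hn ▸ h))
  have hoF := normalises_or_orbit (F := E) hF (fun A B hA hB h => IH' A B hA hB (by rw [sup_comm F E, hn] at h; exact h))
  have one : ∀ {A B : Subgroup G}, Blk p A → Blk p B → (B ≤ Subgroup.normalizer (A : Set G) ∨ Orbit B A) →
      (A ≤ Subgroup.normalizer (B : Set G) ∨ Orbit A B) → B ≤ Subgroup.normalizer (A : Set G) := by
    intro A B hA hB hoA hoB
    rcases hoA with h | hoA
    · exact h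
    rcases hA.quasi_or with hq | hSA
    · exact le_normalizer_of_quasi hA hB hq hoA hoB
    rcases hB.quasi_or with hqB | hSB
    · refine le_normalizer_small_quasi hA hB hSA hqB ?_
      rcases hoB with h | hoB
      · exact h
      · exact le_normalizer_of_quasi hB hA hqB hoB (Or.inr hoA)
    · exact le_normalizer_small_small hA hB hSA hSB hoA
  exact eq_or_comm hE hF (one hF hE hoF hoE) (one hE hF hoE hoF) hG

end Cfsg.Agent.Lib.SubnBlock
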