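import Cfsg.Agent.Lib.SubnBlock.Comm

set_option autoImplicit false

/-!
A small top acts regularly on the non-trivial elements of its module.
-/

namespace Cfsg.Agent.Lib.SubnBlock

open Cfsg
open scoped commutatorElement Pointwise

universe u
variable {G : Type u} [Group G] {p : ℕ} [Finite G] [hp : Fact p.Prime] {A : Subgroup G}

/-- The relation satisfied by a rotation. -/
def rotRel {M : Type*} [Group M] (p : ℕ) (m am : M) : M := if p = 2 then m * am else m⁻¹

variable {U U₀ : Subgroup G} [(U₀.subgroupOf U).Normal]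

theorem triv_elem {g : G} (hg : g ∈ Subgroup.normalizer (U : Set G) ⊓ Subgroup.normalizer (U₀ : Set G))
    (h : Triv g U U₀) (m : ↥U ⧸ U₀.subgroupOf U) : secMap ⟨g, hg⟩ m = m := (triv_iff ⟨g, hg⟩).mp h m

theorem inverts_elem {g : G} (hg : g ∈ Subgroup.normalizer (U : Set G) ⊓ Subgroup.normalizer (U₀ : Set G))
    (h : Inverts g U U₀) (m : ↥U ⧸ U₀.subgroupOf U) : secMap ⟨g, hg⟩ m = m⁻¹ := by
  obtain ⟨u, rfl⟩ := QuotientGroup.mk_surjective m
  rw [secMap_mk, ← QuotientGroup.mk_inv, mk_eq_mk]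
  simpa using h u u.2

theorem small_action (hA : Blk p A) (hS : IsSmallBlk p A) (hUW : U ≤ WOf p A)
    (hcov : WOf p A ≤ U ⊔ ZOf p A) (hU₀ : U₀ = U ⊓ ZOf p A)
    (hUn : A ≤ Subgroup.normalizer (U : Set G) ⊓ Subgroup.normalizer (U₀ : Set G)) :
    (p = 2 ∨ p = 3) ∧ Nat.card (↥U ⧸ U₀.subgroupOf U) = p ^ 2 ∧
    (∀ v m : ↥U ⧸ U₀.subgroupOf U, v ≠ 1 → m ≠ 1 → ∃ a : ↥A, secMap ⟨(a : G), hUn a.2⟩ v = m) ∧
    (∀ a : ↥A, (∀ m : ↥U ⧸ U₀.subgroupOf U, secMap ⟨(a : G), hUn a.2⟩ m = m) ∨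
      (p = 3 ∧ ∀ m : ↥U ⧸ U₀.subgroupOf U, secMap ⟨(a : G), hUn a.2⟩ m = m⁻¹) ∨
      (∀ m : ↥U ⧸ U₀.subgroupOf U, secMap ⟨(a : G), hUn a.2⟩ (secMap ⟨(a : G), hUn a.2⟩ m) =
        rotRel p m (secMap ⟨(a : G), hUn a.2⟩ m))) := by
  classical
  subst hU₀
  set M := ↥U ⧸ (U ⊓ ZOf p A).subgroupOf U
  let φ : ↥A → M →* M := fun a => secMap ⟨(a : G), hUn a.2⟩
  have φmul : ∀ a b : ↥A, ∀ m, φ (a * b) m = φ a (φ b m) := fun a b m =>
    secMap_mul ⟨(a : G), hUn a.2⟩ ⟨(b : G), hUn b.2⟩ m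
  have φone : ∀ m, φ 1 m = m := fun m => secMap_one m
  have hR : ∀ a : ↥A, (a : G) ∈ pCore p G → ∀ m, φ a m = m := fun a ha m =>
    triv_elem (hUn a.2) (fun u hu => Subgroup.mem_inf.mpr ⟨mul_mem ((Subgroup.mem_normalizer_iff.mp (hUn a.2).1 u).mp hu) (inv_mem hu),
      (hA.R_triv ha).2 u (hUW hu)⟩) m
  obtain ⟨H, _, ρ, hsurj, hker, hkerT, hcase⟩ := hS
  have hρ : ∀ a b : ↥A, ρ a = ρ b → ∀ m, φ a m = φ b m := fun a b hab m => by
    have h1 : ((b⁻¹ * a : ↥A) : G) ∈ pCore p G := (hker _).mp (by rw [map_mul, map_inv, hab, inv_mul_cancel])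
    calc φ a m = φ (b * (b⁻¹ * a)) m := by rw [mul_inv_cancel_left]
      _ = φ b (φ (b⁻¹ * a) m) := φmul _ _ _
      _ = φ b m := by rw [hR _ h1]
  have hcard : Nat.card M = (ZOf p A).relIndex (WOf p A) := by
    haveI : ((ZOf p A).subgroupOf (WOf p A)).Normal := Subgroup.normal_subgroupOf_of_le_normalizer (W_le_normalizer_Z A)
    let π : ↥U →* ↥(WOf p A) ⧸ (ZOf p A).subgroupOf (WOf p A) :=
      (QuotientGroup.mk' _).comp (Subgroup.inclusion hUW)
    have hk : ∀ u : ↥U, π u = 1 ↔ (u : G) ∈ U ⊓ ZOf p A := fun u =>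
      (QuotientGroup.eq_one_iff _).trans ⟨fun h => ⟨u.2, h⟩, fun h => h.2⟩
    have hsur : Function.Surjective π := by
      intro x
      obtain ⟨w, rfl⟩ := QuotientGroup.mk_surjective x
      have hw' : (w : G) ∈ ((U : Set G) * (ZOf p A : Set G)) := by
        rw [← Subgroup.coe_mul_of_left_le_normalizer_right U (ZOf p A)
          (hUW.trans (W_le_normalizer_Z A))]
        exact hcov w.2
      obtain ⟨u, hu, z, hz, huz⟩ := hw'
      refine ⟨⟨u, hu⟩, ?_⟩
      show QuotientGroup.mk _ = QuotientGroup.mk _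
      rw [QuotientGroup.eq]
      show u⁻¹ * (w : G) ∈ ZOf p A
      rw [← huz]; simpa using hz
    show (U ⊓ ZOf p A).relIndex U = _
    rw [relIndex_of_hom π hk, MonoidHom.range_eq_top.mpr hsur, Subgroup.card_top]
    rfl
  have hpow : ∀ m : M, m ^ p = 1 := fun m => by
    obtain ⟨u, rfl⟩ := QuotientGroup.mk_surjective m
    rw [← QuotientGroup.mk_pow, QuotientGroup.eq_one_iff, Subgroup.mem_subgroupOf]
    simp [WOf_pow A (hUW u.2), one_mem]
  -- nothing non-trivial is fixed by all of `A`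
  have hall : ∀ m : M, (∀ a, φ a m = m) → m = 1 := by
    intro m hm
    obtain ⟨u, rfl⟩ := QuotientGroup.mk_surjective m
    let Y : Subgroup G :=
      { carrier := {v | v ∈ U ∧ ∀ a ∈ A, a * v * a⁻¹ * v⁻¹ ∈ ZOf p A}
        one_mem' := ⟨one_mem U, fun g _ => by simp [one_mem]⟩
        mul_mem' := fun {x y} ⟨hx, hx'⟩ ⟨hy, hy'⟩ => ⟨mul_mem hx hy, fun g hg => by
          rw [show g * (x * y) * g⁻¹ * (x * y)⁻¹ = (g * x * g⁻¹ * x⁻¹) * (x * (g * y * g⁻¹ * y⁻¹) * x⁻¹) by group]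
          exact mul_mem (hx' g hg) ((Subgroup.mem_normalizer_iff.mp (W_le_normalizer_Z A (hUW hx)) _).mp (hy' g hg))⟩
        inv_mem' := fun {x} ⟨hx, hx'⟩ => ⟨inv_mem hx, fun g hg => by
          rw [show g * x⁻¹ * g⁻¹ * x⁻¹⁻¹ = x⁻¹ * (g * x * g⁻¹ * x⁻¹)⁻¹ * x⁻¹⁻¹ by group]
          exact (Subgroup.mem_normalizer_iff.mp (W_le_normalizer_Z A (hUW (inv_mem hx))) _).mp (inv_mem (hx' g hg))⟩ }
    have huY : (u : G) ∈ Y := ⟨u.2, fun a ha => (mk_eq_mk.mp (hm ⟨a, ha⟩)).2⟩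
    have hAY : A ≤ Subgroup.normalizer (Y : Set G) := by
      refine le_normalizer_of_conj fun e he => ?_
      rintro v ⟨hv, hv'⟩
      refine ⟨(Subgroup.mem_normalizer_iff.mp (hUn he).1 v).mp hv, fun g hg => ?_⟩
      have hg' : e⁻¹ * g * e ∈ A := mul_mem (mul_mem (inv_mem he) hg) he
      rw [show g * (e * v * e⁻¹) * g⁻¹ * (e * v * e⁻¹)⁻¹ =
        e * ((e⁻¹ * g * e) * v * (e⁻¹ * g * e)⁻¹ * v⁻¹) * e⁻¹ by group]
      exact (Subgroup.mem_normalizer_iff.mp (nZ A (Subgroup.le_normalizer he)) _).mp (hv' _ hg')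
    rcases hA.irr Y (fun v hv => hUW hv.1) hAY with h | h
    · exact (QuotientGroup.eq_one_iff _).mpr (Subgroup.mem_subgroupOf.mpr ⟨u.2, h huY⟩)
    · exfalso
      have hA1 : ∀ a ∈ A, a ∈ pCore p G := fun a ha => hA.mem_R_of_triv ha
        (triv_of_cover (fun x hx y hy => W_abel hx hy) (fun v (hv : v ∈ Y) => hUW (show v ∈ U ∧ _ from hv).1) inf_le_left h
          (nW A (Subgroup.le_normalizer ha)) (nZ A (Subgroup.le_normalizer ha)) fun v (hv : v ∈ U ∧ ∀ a ∈ A, a * v * a⁻¹ * v⁻¹ ∈ ZOf p A) => hv.2 a ha)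
      have := LocalEven.pResOf_eq_bot_of_isPGroup (p := p) (R_pgroup.to_le hA1)
      rw [hA.res] at this
      refine hA.wne (fun w hw => ?_)
      have hw1 := LocalEven2.pCoreOf_le A (WOf_le A hw)
      rw [this, Subgroup.mem_bot] at hw1
      rw [hw1]; exact one_mem _
  have main : ∀ (hcardM : Nat.card M = p ^ 2) (hcH : Nat.card H + 1 = p ^ 2),
      (∀ a : ↥A, ∀ m, φ a m = m → m = 1 ∨ ρ a = 1) →
      ∀ v m : M, v ≠ 1 → m ≠ 1 → ∃ a : ↥A, φ a v = m := by
    intro hcardM hcH hfree v m hv hm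
    haveI : Finite H := Finite.of_surjective ρ hsurj
    have hne : ∀ a : ↥A, φ a v ≠ 1 := fun a ha => hv (by
      have := congrArg (φ a⁻¹) ha
      rwa [← φmul, inv_mul_cancel, φone, map_one] at this)
    let f : H → {x : M // x ≠ 1} := fun h => ⟨φ (Function.surjInv hsurj h) v, hne _⟩
    have hinj : Function.Injective f := by
      intro x y hxy
      have h1 : φ ((Function.surjInv hsurj x)⁻¹ * Function.surjInv hsurj y) v = v := by
        rw [φmul, ← show φ (Function.surjInv hsurj x) v = φ (Function.surjInv hsurj y) v from congrArg Subtype.val hxy,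
          ← φmul, inv_mul_cancel, φone]
      have h2 := (hfree _ _ h1).resolve_left hv
      rwa [map_mul, map_inv, Function.surjInv_eq hsurj, Function.surjInv_eq hsurj, inv_mul_eq_one] at h2
    have hc : Nat.card H = Nat.card {x : M // x ≠ 1} := by
      haveI := Fintype.ofFinite M
      rw [Nat.card_eq_fintype_card (α := {x : M // x ≠ 1}), Fintype.card_subtype_compl,
        Fintype.card_subtype_eq, ← Nat.card_eq_fintype_card, hcardM]
      omega
    obtain ⟨h, hh⟩ := ((Nat.bijective_iff_injective_and_card f).mpr ⟨hinj, hc⟩).2 ⟨m, hm⟩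
    exact ⟨_, congrArg Subtype.val hh⟩
  rcases hcase with ⟨hp2, hH, hrel⟩ | ⟨hp3, hrel, z, ⟨hH, hzc, hz1, hsq, hun⟩, hzinv⟩
  · subst hp2
    have hcardM : Nat.card M = 2 ^ 2 := by rw [hcard, hrel]; rfl
    haveI := Fact.mk Nat.prime_three
    have hpow3 : ∀ a : ↥A, ρ (a ^ 3) = 1 := fun a => by
      rw [map_pow, ← hH, pow_card_eq_one']
    have hfree : ∀ a : ↥A, ∀ m, φ a m = m → m = 1 ∨ ρ a = 1 := by
      intro a m ham
      by_cases ha : ρ a = 1
      · exact Or.inr ha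
      refine Or.inl (hall m fun b => ?_)
      obtain ⟨i, hi⟩ : ∃ i : ℕ, ρ a ^ i = ρ b := by
        haveI : Finite H := Finite.of_surjective ρ hsurj
        exact (mem_powers_iff_mem_zpowers.mpr (mem_zpowers_of_prime_card hH ha))
      rw [hρ b (a ^ i) (by rw [map_pow, hi])]
      clear hi
      induction i with
      | zero => rw [pow_zero, φone]
      | succ i ih => rw [pow_succ, φmul, ham, ih]
    refine ⟨Or.inl rfl, hcardM, main hcardM (by rw [hH]; rfl) hfree, fun a => ?_⟩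
    by_cases ha : ρ a = 1
    · exact Or.inl (hR a ((hker a).mp ha))
    refine Or.inr (Or.inr fun m => ?_)
    show φ a (φ a m) = rotRel 2 m (φ a m)
    have hex : ∀ x : M, x⁻¹ = x := fun x => inv_eq_of_mul_eq_one_right (by rw [← pow_two]; exact hpow x)
    have hcm : ∀ x y : M, x * y = y * x := fun x y => by
      rw [← hex (x * y), mul_inv_rev, hex, hex]
    have h3 : φ a (φ a (φ a m)) = m := by
      rw [← φmul, ← φmul]
      exact (hρ _ 1 (by rw [map_one, ← hpow3 a, pow_succ, pow_two, mul_assoc]) m).trans (φone m)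
    have hfix : φ a (m * φ a m * φ a (φ a m)) = m * φ a m * φ a (φ a m) := by
      rw [map_mul, map_mul, h3, hcm _ m, mul_assoc]
    rw [rotRel, if_pos rfl]
    have := mul_eq_one_iff_inv_eq.mp ((hfree a _ hfix).resolve_right ha)
    rwa [hex, eq_comm] at this
  · subst hp3
    have hcardM : Nat.card M = 3 ^ 2 := by rw [hcard, hrel]; rfl
    have hinv : ∀ a : ↥A, ρ a = z → ∀ m, φ a m = m⁻¹ := fun a ha m =>
      inverts_elem (hUn a.2) (fun u hu => Subgroup.mem_inf.mpr ⟨mul_mem ((Subgroup.mem_normalizer_iff.mp (hUn a.2).1 u).mp hu) hu,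
        hzinv a ha u (hUW hu)⟩) m
    have hne2 : ∀ m : M, m⁻¹ = m → m = 1 := fun m hm => by
      have h1 : m ^ 2 = 1 := by rw [pow_two]; nth_rewrite 1 [← hm]; exact inv_mul_cancel m
      have h2 := hpow m
      rwa [pow_succ, h1, one_mul] at h2
    have hsq' : ∀ a : ↥A, ρ a ≠ 1 → ρ a ≠ z → ∀ m, φ a (φ a m) = m⁻¹ := fun a h1 h2 m => by
      rw [← φmul]
      refine hinv _ ?_ m
      rw [map_mul]
      exact (hsq _).resolve_left fun h => (hun _ h).elim h1 h2
    have hfree : ∀ a : ↥A, ∀ m, φ a m = m → m = 1 ∨ ρ a = 1 := by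
      intro a m ham
      by_cases ha : ρ a = 1
      · exact Or.inr ha
      refine Or.inl (hne2 m ?_)
      by_cases haz : ρ a = z
      · rw [← hinv a haz m, ham]
      · rw [← hsq' a ha haz m, ham, ham]
    refine ⟨Or.inr rfl, hcardM, main hcardM (by rw [hH]; rfl) hfree, fun a => ?_⟩
    by_cases ha : ρ a = 1
    · exact Or.inl (hR a ((hker a).mp ha))
    by_cases haz : ρ a = z
    · exact Or.inr (Or.inl ⟨rfl, hinv a haz⟩)
    refine Or.inr (Or.inr fun m => ?_)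
    rw [rotRel, if_neg (by decide)]
    exact hsq' a ha haz m

omit [Finite G] in
theorem rot_ne {M : Type*} [Group M] (hpp : p = 2 ∨ p = 3) (hpow : ∀ m : M, m ^ p = 1) (h : M →* M)
    (hrel : ∀ m, h (h m) = rotRel p m (h m)) {v : M} (hv : v ≠ 1) : h v ≠ v ∧ h v ≠ v⁻¹ := by
  have h2 := hrel v
  rcases hpp with rfl | rfl
  · rw [rotRel, if_pos rfl] at h2
    have hvv : v⁻¹ = v := inv_eq_of_mul_eq_one_right (by rw [← pow_two]; exact hpow v)
    have : h v ≠ v := fun e => by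
      rw [e, e, ← pow_two, hpow] at h2; exact hv h2
    exact ⟨this, by rwa [hvv]⟩
  · rw [rotRel, if_neg (by decide)] at h2
    have : v ≠ v⁻¹ := fun e => hv (by
      have h1 : v ^ 2 = 1 := by rw [pow_two]; nth_rewrite 2 [e]; exact mul_inv_cancel v
      have h3 := hpow v
      rwa [pow_succ, h1, one_mul] at h3)
    constructor <;> intro e
    · rw [e, e] at h2; exact this h2
    · rw [e, map_inv, e, inv_inv] at h2; exact this h2

end Cfsg.Agent.Lib.SubnBlock
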