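import Cfsg.Agent.Lib.SubnBlock.Rotations

set_option autoImplicit false

/-!
Two small blocks which act on one module are equal.
-/

namespace Cfsg.Agent.Lib.SubnBlock

open Cfsg
open scoped commutatorElement

universe u
variable {G : Type u} [Group G] {p : ℕ} [Finite G] [hp : Fact p.Prime] {E F : Subgroup G}

theorem IsSmallBlk.index_prime (hS : IsSmallBlk p E) :
    ∃ r n : ℕ, r.Prime ∧ r ≠ p ∧ (p = 2 → r = 3) ∧ (p = 3 → r = 2) ∧
      ∀ e ∈ E, e ^ r ^ n ∈ pCore p G := by
  obtain ⟨H, _, ρ, hs, hker, -, ⟨hp2, hH, -⟩ | ⟨hp3, -, z, ⟨hH, -⟩, -⟩⟩ := hS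
  · refine ⟨3, 1, Nat.prime_three, by omega, fun _ => rfl, by omega, fun e he => ?_⟩
    refine (hker (⟨e, he⟩ ^ (3 ^ 1))).mp ?_
    rw [map_pow, pow_one, ← hH, pow_card_eq_one']
  · refine ⟨2, 3, Nat.prime_two, by omega, by omega, fun _ => rfl, fun e he => ?_⟩
    refine (hker (⟨e, he⟩ ^ (2 ^ 3))).mp ?_
    rw [map_pow, show (2 : ℕ) ^ 3 = 8 from rfl, ← hH, pow_card_eq_one']

theorem IsSmallBlk.image_le_core (hS : IsSmallBlk p E) (hsub : E.IsSubnormal) {r n : ℕ} (hr : r.Prime)
    (hE : ∀ e ∈ E, e ^ r ^ n ∈ pCore p G) :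
    haveI := LocalEven2.pCore_normal p G
    E.map (QuotientGroup.mk' (pCore p G)) ≤ pCore r (G ⧸ pCore p G) := by
  haveI := LocalEven2.pCore_normal p G
  haveI := Fact.mk hr
  refine LocalEven.le_pCore_of_subnormal (hsub.map (QuotientGroup.mk'_surjective _)) ?_
  rintro ⟨_, e, he, rfl⟩
  exact ⟨n, Subtype.ext (by
    show (QuotientGroup.mk' (pCore p G) e) ^ r ^ n = 1
    rw [← map_pow]; exact (QuotientGroup.eq_one_iff _).mpr (hE e he))⟩

theorem rn_pow_mem {a b : ℕ} (hab : a.Coprime b) {x : G} (ha : x ^ a ∈ pCore p G) (hb : x ^ b ∈ pCore p G) :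
    x ∈ pCore p G := by
  have h : x ^ (Nat.gcd a b : ℤ) ∈ pCore p G := by
    rw [Nat.gcd_eq_gcd_ab, zpow_add, zpow_mul, zpow_mul, zpow_natCast, zpow_natCast]
    exact mul_mem (zpow_mem ha _) (zpow_mem hb _)
  rwa [hab.gcd_eq_one, Nat.cast_one, zpow_one] at h

theorem coprime_power_part (x : G) : ∃ k, Nat.Coprime (orderOf (x ^ p ^ k)) p := by
  refine ⟨(orderOf x).factorization p, ?_⟩
  rw [orderOf_pow, Nat.gcd_eq_right (Nat.ordProj_dvd _ _)]
  exact (Nat.coprime_ordCompl hp.out (orderOf_pos x).ne').symm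

variable (hE : Blk p E) (hF : Blk p F) (hEF : E ≤ Subgroup.normalizer (F : Set G))
  (hFE : F ≤ Subgroup.normalizer (E : Set G))

include hE hF hEF hFE

theorem same_action (hSE : IsSmallBlk p E) (hSF : IsSmallBlk p F) (hm : Moves p F E) {e : G} (he : e ∈ E) :
    ∃ f ∈ F, e * f⁻¹ ∈ trivGrp (WOf p E ⊓ WOf p F) (WOf p E ⊓ WOf p F ⊓ ZOf p E) := by
  classical
  set U := WOf p E ⊓ WOf p F with hU
  set U₀ := U ⊓ ZOf p E with hU₀
  have hcovE := (moves_cover hE hF hEF hFE hm).1
  have hcovF := (moves_cover hF hE hFE hEF (moves_symm hE hF hEF hFE hm)).1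
  rw [inf_comm (WOf p F)] at hcovF
  have hUEn : E ≤ Subgroup.normalizer (U : Set G) :=
    le_normalizer_inf' (Subgroup.le_normalizer.trans (nW E)) (hEF.trans (nW F))
  have hUFn : F ≤ Subgroup.normalizer (U : Set G) :=
    le_normalizer_inf' (hFE.trans (nW E)) (Subgroup.le_normalizer.trans (nW F))
  have hnE : E ≤ Subgroup.normalizer (U : Set G) ⊓ Subgroup.normalizer (U₀ : Set G) :=
    le_inf hUEn (le_normalizer_inf' hUEn (Subgroup.le_normalizer.trans (nZ E)))
  have hnF : F ≤ Subgroup.normalizer (U : Set G) ⊓ Subgroup.normalizer (U₀ : Set G) :=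
    le_inf hUFn (le_normalizer_inf' hUFn (hFE.trans (nZ E)))
  have hUn : U ≤ Subgroup.normalizer (U₀ : Set G) :=
    le_normalizer_inf' Subgroup.le_normalizer (inf_le_left.trans (W_le_normalizer_Z E))
  haveI : (U₀.subgroupOf U).Normal := Subgroup.normal_subgroupOf_of_le_normalizer hUn
  obtain ⟨hpp, hcard, -, hkindE⟩ := small_action (U := U) (U₀ := U₀) hE hSE inf_le_left hcovE rfl hnE
  obtain ⟨-, -, horbF, hkindF⟩ := small_action (U := U) (U₀ := U₀) hF hSF inf_le_right hcovF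
    (inf_Z_eq hE hF hEF hFE hm) hnF
  let M := ↥U ⧸ U₀.subgroupOf U
  have hpow : ∀ m : M, m ^ p = 1 := fun m => by
    obtain ⟨u, rfl⟩ := QuotientGroup.mk_surjective m
    rw [← QuotientGroup.mk_pow, QuotientGroup.eq_one_iff, Subgroup.mem_subgroupOf]
    simp [WOf_pow E u.2.1, one_mem]
  obtain ⟨v, hv⟩ : ∃ v : M, v ≠ 1 := by
    by_contra hall
    push Not at hall
    haveI : Subsingleton M := ⟨fun a b => (hall a).trans (hall b).symm⟩
    have h1 : Nat.card M = 1 := Nat.card_of_subsingleton 1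
    rw [hcard] at h1
    have := hp.out.two_le
    nlinarith
  let gE : M →* M := secMap ⟨e, hnE he⟩
  suffices h : ∃ f : ↥F, ∀ m : M, gE m = secMap ⟨(f : G), hnF f.2⟩ m by
    obtain ⟨f, hf⟩ := h
    refine ⟨f, f.2, mul_mem (hnE he) (inv_mem (hnF f.2)), ?_⟩
    refine (triv_iff (⟨e, hnE he⟩ * (⟨(f : G), hnF f.2⟩ :
      ↥(Subgroup.normalizer (U : Set G) ⊓ Subgroup.normalizer (U₀ : Set G)))⁻¹)).mpr fun m => ?_
    rw [secMap_mul, show secMap (⟨e, hnE he⟩ : ↥(Subgroup.normalizer (U : Set G) ⊓ Subgroup.normalizer (U₀ : Set G))) _ = _ from hf _,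
      ← secMap_mul, mul_inv_cancel, secMap_one]
  have hne : gE v ≠ 1 := fun h => hv (by
    have := congrArg (secMap (⟨e, hnE he⟩ : ↥(Subgroup.normalizer (U : Set G) ⊓ Subgroup.normalizer (U₀ : Set G)))⁻¹) h
    rwa [← secMap_mul, inv_mul_cancel, secMap_one, map_one] at this)
  rcases hkindE ⟨e, he⟩ with h1 | ⟨hp3, h2⟩ | h3
  · refine ⟨1, fun m => (h1 m).trans ?_⟩
    exact (secMap_one m).symm
  · -- an inverting element of `F`
    have hvi : v⁻¹ ≠ 1 := inv_ne_one.mpr hv
    obtain ⟨f, hf⟩ := horbF v v⁻¹ hv hvi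
    refine ⟨f, fun m => (h2 m).trans ?_⟩
    have hvv : v ≠ v⁻¹ := fun e' => hv (by
      have h1 : v ^ 2 = 1 := by rw [pow_two]; nth_rewrite 2 [e']; exact mul_inv_cancel v
      have h3 := hpow v
      subst hp3
      rwa [pow_succ, h1, one_mul] at h3)
    rcases hkindF f with g1 | ⟨-, g2⟩ | g3
    · exact absurd ((g1 v).symm.trans hf) hvv
    · exact (g2 m).symm
    · exact absurd hf (rot_ne hpp hpow _ g3 hv).2
  · obtain ⟨f, hf⟩ := horbF v (gE v) hv hne
    refine ⟨f, ?_⟩
    obtain ⟨hn1, hn2⟩ := rot_ne hpp hpow gE h3 hv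
    rcases hkindF f with g1 | ⟨-, g2⟩ | g3
    · exact absurd (hf.symm.trans (g1 v)) hn1
    · exact absurd (hf.symm.trans (g2 v)) hn2
    · let K : Subgroup M := MonoidHom.eqLocus gE (secMap ⟨(f : G), hnF f.2⟩)
      have hvK : v ∈ K := hf.symm
      have hgK : gE v ∈ K := by
        show gE (gE v) = secMap ⟨(f : G), hnF f.2⟩ (gE v)
        have := g3 v
        rw [hf] at this
        rw [h3 v, this]
      have hK : K = ⊤ := by
        haveI : Finite M := inferInstance
        have hdvd : Nat.card K ∣ p ^ 2 := hcard ▸ Subgroup.card_subgroup_dvd_card K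
        obtain ⟨i, hi, hKi⟩ := (Nat.dvd_prime_pow hp.out).mp hdvd
        interval_cases i
        · exfalso
          rw [pow_zero, Subgroup.card_eq_one] at hKi
          rw [hKi, Subgroup.mem_bot] at hvK; exact hv hvK
        · exfalso
          rw [pow_one] at hKi
          have hz : K = Subgroup.zpowers v := by
            refine (Subgroup.eq_of_le_of_card_ge (Subgroup.zpowers_le.mpr hvK) ?_).symm
            rw [hKi, Nat.card_zpowers, orderOf_eq_prime (hpow v) hv]
          rw [hz] at hgK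
          obtain ⟨j, hj⟩ := Subgroup.mem_zpowers_iff.mp hgK
          rcases hpp with rfl | rfl
          · rcases Int.emod_two_eq_zero_or_one j with hj2 | hj2
            · exact hne (by rw [← hj, ← Int.ediv_mul_add_emod j 2, hj2, add_zero, mul_comm, zpow_mul]; simp [hpow v])
            · exact hn1 (by rw [← hj, ← Int.ediv_mul_add_emod j 2, hj2, zpow_add, mul_comm, zpow_mul]; simp [hpow v])
          · rcases (show j % 3 = 0 ∨ j % 3 = 1 ∨ j % 3 = 2 by omega) with hj2 | hj2 | hj2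
            · exact hne (by rw [← hj, ← Int.ediv_mul_add_emod j 3, hj2, add_zero, mul_comm, zpow_mul]; simp [hpow v])
            · exact hn1 (by rw [← hj, ← Int.ediv_mul_add_emod j 3, hj2, zpow_add, mul_comm, zpow_mul]; simp [hpow v])
            · refine hn2 ?_
              rw [← hj, ← Int.ediv_mul_add_emod j 3, hj2, zpow_add, mul_comm (j / 3), zpow_mul]
              have h3v := hpow v
              rw [pow_succ, pow_two] at h3v
              simp [hpow v]
              rw [pow_two]; exact eq_inv_of_mul_eq_one_left h3v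
        · exact Subgroup.eq_top_of_card_eq K (hKi.trans hcard.symm)
      intro m
      exact (hK.ge (Subgroup.mem_top m) : m ∈ K)

end Cfsg.Agent.Lib.SubnBlock
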