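import Mathlib
import Cfsg.Agent.Lib.SubnBlock.Defs

set_option autoImplicit false

/-!
Automorphisms of an irreducible abelian section: the commutant is commutative, `p`-groups act trivially.
-/

namespace Cfsg.Agent.Lib.SubnBlock

open Cfsg

universe u
variable {G : Type u} [Group G] {p : ℕ}

section
variable {U U₀ : Subgroup G} [hN : (U₀.subgroupOf U).Normal]

/-- Conjugation on the section. -/
def secMap (g : ↥(Subgroup.normalizer (U : Set G) ⊓ Subgroup.normalizer (U₀ : Set G))) :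
    (↥U ⧸ U₀.subgroupOf U) →* (↥U ⧸ U₀.subgroupOf U) :=
  QuotientGroup.map _ _
    { toFun := fun u => ⟨(g : G) * u * (g : G)⁻¹, (Subgroup.mem_normalizer_iff.mp g.2.1 u).mp u.2⟩
      map_one' := Subtype.ext (by simp)
      map_mul' := fun a b => Subtype.ext (by simp [mul_assoc]) }
    (fun u hu => (Subgroup.mem_normalizer_iff.mp g.2.2 (u : G)).mp hu)

theorem secMap_mk (g : ↥(Subgroup.normalizer (U : Set G) ⊓ Subgroup.normalizer (U₀ : Set G))) (u : ↥U) :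
    secMap g (QuotientGroup.mk u) =
      QuotientGroup.mk ⟨(g : G) * u * (g : G)⁻¹, (Subgroup.mem_normalizer_iff.mp g.2.1 u).mp u.2⟩ := rfl

theorem mk_eq_mk {a b : ↥U} :
    (QuotientGroup.mk a : ↥U ⧸ U₀.subgroupOf U) = QuotientGroup.mk b ↔ (a : G) * (b : G)⁻¹ ∈ U₀ := by
  rw [QuotientGroup.eq_iff_div_mem, div_eq_mul_inv, Subgroup.mem_subgroupOf]
  simp

theorem secMap_mul (g h : ↥(Subgroup.normalizer (U : Set G) ⊓ Subgroup.normalizer (U₀ : Set G)))
    (m : ↥U ⧸ U₀.subgroupOf U) : secMap (g * h) m = secMap g (secMap h m) := by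
  obtain ⟨u, rfl⟩ := QuotientGroup.mk_surjective m
  rw [secMap_mk, secMap_mk, secMap_mk]
  congr 1
  exact Subtype.ext (by simp [mul_assoc])

theorem secMap_one (m : ↥U ⧸ U₀.subgroupOf U) :
    secMap (1 : ↥(Subgroup.normalizer (U : Set G) ⊓ Subgroup.normalizer (U₀ : Set G))) m = m := by
  obtain ⟨u, rfl⟩ := QuotientGroup.mk_surjective m
  rw [secMap_mk]; congr 1; exact Subtype.ext (by simp)

theorem triv_iff (g : ↥(Subgroup.normalizer (U : Set G) ⊓ Subgroup.normalizer (U₀ : Set G))) :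
    Triv (g : G) U U₀ ↔ ∀ m, secMap g m = (m : ↥U ⧸ U₀.subgroupOf U) := by
  constructor
  · intro h m
    obtain ⟨u, rfl⟩ := QuotientGroup.mk_surjective m
    rw [secMap_mk, mk_eq_mk]
    exact h u u.2
  · intro h u hu
    have := h (QuotientGroup.mk ⟨u, hu⟩)
    rwa [secMap_mk, mk_eq_mk] at this

variable [hC : IsMulCommutative (↥U ⧸ U₀.subgroupOf U)]

/-- The same map as an additive endomorphism. -/
def secEnd (g : ↥(Subgroup.normalizer (U : Set G) ⊓ Subgroup.normalizer (U₀ : Set G))) :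
    AddMonoid.End (Additive (↥U ⧸ U₀.subgroupOf U)) :=
  MonoidHom.toAdditive (secMap g)

end

/-- A set stable under conjugation by `K` is normalised by `K`. -/
theorem le_normalizer_of_conj [Finite G] {K Y : Subgroup G} (h : ∀ k ∈ K, ∀ y ∈ Y, k * y * k⁻¹ ∈ Y) :
    K ≤ Subgroup.normalizer (Y : Set G) := fun k hk => by
  rw [Subgroup.mem_normalizer_iff_map_conj_eq]
  refine Subgroup.eq_of_le_of_card_ge ?_ (Subgroup.card_map_of_injective (MulAut.conj k).injective).ge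
  rintro _ ⟨y, hy, rfl⟩
  exact h k hk y hy

theorem quot_comm {U U₀ : Subgroup G} [(U₀.subgroupOf U).Normal]
    (h : ∀ a ∈ U, ∀ b ∈ U, a * b * a⁻¹ * b⁻¹ ∈ U₀) : IsMulCommutative (↥U ⧸ U₀.subgroupOf U) := by
  refine ⟨⟨fun a b => ?_⟩⟩
  obtain ⟨a, rfl⟩ := QuotientGroup.mk_surjective a
  obtain ⟨b, rfl⟩ := QuotientGroup.mk_surjective b
  rw [← QuotientGroup.mk_mul, ← QuotientGroup.mk_mul, mk_eq_mk]
  simpa [mul_assoc] using h a a.2 b b.2

theorem commutant_abelian [Finite G] {E U U₀ : Subgroup G} (h0 : U₀ ≤ U) (hUn : U ≤ Subgroup.normalizer (U₀ : Set G))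
    (hU : ∀ a ∈ U, ∀ b ∈ U, a * b * a⁻¹ * b⁻¹ ∈ U₀)
    (hE : E ≤ Subgroup.normalizer (U : Set G) ⊓ Subgroup.normalizer (U₀ : Set G))
    (hirr : Irr E U U₀) (hne : ¬ U ≤ U₀) {x y : G}
    (hx : x ∈ Subgroup.normalizer (U : Set G) ⊓ Subgroup.normalizer (U₀ : Set G))
    (hy : y ∈ Subgroup.normalizer (U : Set G) ⊓ Subgroup.normalizer (U₀ : Set G))
    (hxE : ∀ e ∈ E, Triv (x * e * x⁻¹ * e⁻¹) U U₀) (hyE : ∀ e ∈ E, Triv (y * e * y⁻¹ * e⁻¹) U U₀) :
    Triv (x * y * x⁻¹ * y⁻¹) U U₀ := by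
  have hnorm : (U₀.subgroupOf U).Normal := Subgroup.normal_subgroupOf_of_le_normalizer hUn
  have hcomm := quot_comm hU
  letI : CommGroup (↥U ⧸ U₀.subgroupOf U) :=
    { (inferInstance : Group (↥U ⧸ U₀.subgroupOf U)) with mul_comm := hcomm.is_comm.comm }
  let N := Subgroup.normalizer (U : Set G) ⊓ Subgroup.normalizer (U₀ : Set G)
  let f : ↥N → AddMonoid.End (Additive (↥U ⧸ U₀.subgroupOf U)) := fun g => MonoidHom.toAdditive (secMap g)
  have fmul : ∀ g h : ↥N, f (g * h) = f g * f h := fun g h => AddMonoidHom.ext fun m => secMap_mul g h m.toMul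
  let C := Subring.centralizer (f '' {g : ↥N | (g : G) ∈ E})
  have hcom : ∀ g : ↥N, (∀ e ∈ E, Triv ((g : G) * e * (g : G)⁻¹ * e⁻¹) U U₀) → f g ∈ C := by
    intro g hg
    rw [Subring.mem_centralizer_iff]
    rintro _ ⟨e, he, rfl⟩
    rw [← fmul, ← fmul]
    refine AddMonoidHom.ext fun m => ?_
    show secMap (e * g) m.toMul = secMap (g * e) m.toMul
    have h1 : g * e = (g * e * g⁻¹ * e⁻¹) * (e * g) := by group
    rw [h1, secMap_mul (g * e * g⁻¹ * e⁻¹) (e * g), (triv_iff (g * e * g⁻¹ * e⁻¹)).mp (by simpa using hg e he)]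
  haveI : Nontrivial C := by
    obtain ⟨u, hu, hu0⟩ := SetLike.not_le_iff_exists.mp hne
    refine ⟨⟨0, 1, fun h => hu0 ?_⟩⟩
    have := DFunLike.congr_fun (congrArg Subtype.val h) (Additive.ofMul (QuotientGroup.mk (⟨u, hu⟩ : ↥U)))
    simp at this
    exact (QuotientGroup.eq_one_iff (⟨u, hu⟩ : ↥U)).mp this.symm
  haveI : NoZeroDivisors C := by
    refine ⟨fun {a b} hab => ?_⟩
    by_contra hcon
    push Not at hcon
    obtain ⟨ha, hb⟩ := hcon
    -- the kernel of `a` is invariant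
    let Y : Subgroup G :=
      ((AddSubgroup.toSubgroup' (AddMonoidHom.ker (a : AddMonoid.End (Additive (↥U ⧸ U₀.subgroupOf U))))).comap
        (QuotientGroup.mk' (U₀.subgroupOf U))).map U.subtype
    have hYm : ∀ u : ↥U, (u : G) ∈ Y ↔
        (a : AddMonoid.End (Additive (↥U ⧸ U₀.subgroupOf U))) (Additive.ofMul (QuotientGroup.mk u)) = 0 := by
      intro u
      constructor
      · rintro ⟨v, hv, hvu⟩
        obtain rfl := Subtype.ext hvu
        exact hv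
      · intro h; exact ⟨u, h, rfl⟩
    have hEY : E ≤ Subgroup.normalizer (Y : Set G) := by
      refine le_normalizer_of_conj fun e he => ?_
      rintro _ ⟨v, hv, rfl⟩
      have hc := (Subring.mem_centralizer_iff.mp a.2) _ ⟨⟨e, hE he⟩, he, rfl⟩
      have h2 := DFunLike.congr_fun hc (Additive.ofMul (QuotientGroup.mk v))
      have hv' : (a : AddMonoid.End (Additive (↥U ⧸ U₀.subgroupOf U))) (Additive.ofMul (QuotientGroup.mk v)) = 0 := hv
      refine (hYm ⟨e * v * e⁻¹, (Subgroup.mem_normalizer_iff.mp (hE he).1 v).mp v.2⟩).mpr ?_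
      change f ⟨e, hE he⟩ ((a : AddMonoid.End _) (Additive.ofMul (QuotientGroup.mk v))) = _ at h2
      rw [hv', map_zero] at h2
      exact h2.symm
    rcases hirr Y (Subgroup.map_subtype_le _) hEY with h | h
    · -- `a` injective, so `b = 0`
      apply hb
      refine Subtype.ext (AddMonoidHom.ext fun m => ?_)
      obtain ⟨u, hu⟩ := QuotientGroup.mk_surjective ((b : AddMonoid.End (Additive (↥U ⧸ U₀.subgroupOf U))) m).toMul
      have hab' := DFunLike.congr_fun (congrArg Subtype.val hab) m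
      have huY : (u : G) ∈ Y := (hYm u).mpr (by rw [hu]; exact hab')
      have h1 : (QuotientGroup.mk u : ↥U ⧸ U₀.subgroupOf U) = 1 := (QuotientGroup.eq_one_iff u).mpr (h huY)
      rw [hu] at h1
      exact h1
    · apply ha
      refine Subtype.ext (AddMonoidHom.ext fun m => ?_)
      obtain ⟨u, hu⟩ := QuotientGroup.mk_surjective m.toMul
      have hu' : (u : G) ∈ Y := by
        suffices hle : U₀ ≤ Y from (sup_le (le_refl Y) hle) (h u.2)
        intro z hz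
        refine (hYm ⟨z, h0 hz⟩).mpr ?_
        rw [(QuotientGroup.eq_one_iff (N := U₀.subgroupOf U) (⟨z, h0 hz⟩ : ↥U)).mpr hz]
        exact map_zero _
      have := (hYm u).mp hu'
      rw [hu] at this
      exact this
  haveI : IsDomain C := NoZeroDivisors.to_isDomain C
  haveI : Finite (AddMonoid.End (Additive (↥U ⧸ U₀.subgroupOf U))) :=
    Finite.of_injective (fun φ => (⇑φ : Additive (↥U ⧸ U₀.subgroupOf U) → Additive (↥U ⧸ U₀.subgroupOf U))) DFunLike.coe_injective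
  have hcc := (Finite.isDomain_to_isField C).mul_comm ⟨f ⟨x, hx⟩, hcom ⟨x, hx⟩ hxE⟩ ⟨f ⟨y, hy⟩, hcom ⟨y, hy⟩ hyE⟩
  have hcc' : f (⟨x, hx⟩ * ⟨y, hy⟩) = f (⟨y, hy⟩ * ⟨x, hx⟩) := by
    rw [fmul, fmul]; exact congrArg Subtype.val hcc
  have := (triv_iff (U := U) (U₀ := U₀) (⟨x, hx⟩ * ⟨y, hy⟩ * (⟨x, hx⟩ : ↥N)⁻¹ * (⟨y, hy⟩ : ↥N)⁻¹)).mpr fun m => by
    have h1 : ∀ m, secMap (⟨x, hx⟩ * ⟨y, hy⟩ : ↥N) m = secMap (⟨y, hy⟩ * ⟨x, hx⟩ : ↥N) m :=
      fun m => DFunLike.congr_fun hcc' (Additive.ofMul m)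
    rw [mul_assoc, ← mul_inv_rev, secMap_mul, h1, ← secMap_mul, mul_inv_cancel, secMap_one]
  simpa using this

theorem pgroup_triv [Finite G] [Fact p.Prime] {E P U U₀ : Subgroup G} (h0 : U₀ ≤ U)
    (hUn : U ≤ Subgroup.normalizer (U₀ : Set G))
    (hP : IsPGroup p ↥P) (hUp : IsPGroup p ↥U)
    (hE : E ≤ Subgroup.normalizer (U : Set G) ⊓ Subgroup.normalizer (U₀ : Set G))
    (hPU : P ≤ Subgroup.normalizer (U : Set G) ⊓ Subgroup.normalizer (U₀ : Set G))
    (hEP : E ≤ Subgroup.normalizer (P : Set G)) (hirr : Irr E U U₀) (hne : ¬ U ≤ U₀)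
    {x : G} (hx : x ∈ P) : Triv x U U₀ := by
  have hnorm : (U₀.subgroupOf U).Normal := Subgroup.normal_subgroupOf_of_le_normalizer hUn
  let inc : ↥P →* ↥(Subgroup.normalizer (U : Set G) ⊓ Subgroup.normalizer (U₀ : Set G)) := Subgroup.inclusion hPU
  letI : MulAction ↥P (↥U ⧸ U₀.subgroupOf U) :=
    { smul := fun g m => secMap (inc g) m
      one_smul := fun m => by show secMap (inc 1) m = m; rw [map_one, secMap_one]
      mul_smul := fun g h m => by show secMap (inc (g * h)) m = _; rw [map_mul, secMap_mul]; rfl }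
  have hMp : IsPGroup p (↥U ⧸ U₀.subgroupOf U) := hUp.to_quotient _
  haveI : Nontrivial (↥U ⧸ U₀.subgroupOf U) := by
    obtain ⟨u, hu, hu0⟩ := SetLike.not_le_iff_exists.mp hne
    exact ⟨QuotientGroup.mk ⟨u, hu⟩, 1, fun h => hu0 ((QuotientGroup.eq_one_iff (⟨u, hu⟩ : ↥U)).mp h)⟩
  obtain ⟨k, hk, hcard⟩ := hMp.nontrivial_iff_card.mp inferInstance
  obtain ⟨m, hm, hm1⟩ := hP.exists_fixed_point_of_prime_dvd_card_of_fixed_point (↥U ⧸ U₀.subgroupOf U)
    (hcard ▸ dvd_pow_self p hk.ne') (a := 1) (fun g => map_one (secMap (inc g)))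
  obtain ⟨u, rfl⟩ := QuotientGroup.mk_surjective m
  let Y : Subgroup G :=
    { carrier := {v | v ∈ U ∧ ∀ g ∈ P, g * v * g⁻¹ * v⁻¹ ∈ U₀}
      one_mem' := ⟨one_mem U, fun g _ => by simp [one_mem]⟩
      mul_mem' := fun {a b} ⟨ha, ha'⟩ ⟨hb, hb'⟩ => ⟨mul_mem ha hb, fun g hg => by
        rw [show g * (a * b) * g⁻¹ * (a * b)⁻¹ = (g * a * g⁻¹ * a⁻¹) * (a * (g * b * g⁻¹ * b⁻¹) * a⁻¹) by group]
        exact mul_mem (ha' g hg) ((Subgroup.mem_normalizer_iff.mp (hUn ha) _).mp (hb' g hg))⟩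
      inv_mem' := fun {a} ⟨ha, ha'⟩ => ⟨inv_mem ha, fun g hg => by
        rw [show g * a⁻¹ * g⁻¹ * a⁻¹⁻¹ = a⁻¹ * (g * a * g⁻¹ * a⁻¹)⁻¹ * a⁻¹⁻¹ by group]
        exact (Subgroup.mem_normalizer_iff.mp (hUn (inv_mem ha)) _).mp (inv_mem (ha' g hg))⟩ }
  have huY : (u : G) ∈ Y := ⟨u.2, fun g hg => by
    have := (MulAction.mem_fixedPoints.mp hm) ⟨g, hg⟩
    exact mk_eq_mk.mp (show secMap (inc ⟨g, hg⟩) (QuotientGroup.mk u) = QuotientGroup.mk u from this)⟩
  have hEY : E ≤ Subgroup.normalizer (Y : Set G) := by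
    refine le_normalizer_of_conj fun e he => ?_
    rintro v ⟨hv, hv'⟩
    refine ⟨(Subgroup.mem_normalizer_iff.mp (hE he).1 v).mp hv, fun g hg => ?_⟩
    have hg' : e⁻¹ * g * e ∈ P := (Subgroup.mem_normalizer_iff''.mp (hEP he) g).mp hg
    rw [show g * (e * v * e⁻¹) * g⁻¹ * (e * v * e⁻¹)⁻¹ =
      e * ((e⁻¹ * g * e) * v * (e⁻¹ * g * e)⁻¹ * v⁻¹) * e⁻¹ by group]
    exact (Subgroup.mem_normalizer_iff.mp (hE he).2 _).mp (hv' _ hg')
  rcases hirr Y (fun v hv => hv.1) hEY with h | h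
  · exact absurd ((QuotientGroup.eq_one_iff u).mpr (h huY)) (fun hh => hm1 hh.symm)
  · intro v hv
    suffices hle : U₀ ≤ Y from ((sup_le (le_refl Y) hle) (h hv)).2 x hx
    intro z hz
    exact ⟨h0 hz, fun g hg => mul_mem ((Subgroup.mem_normalizer_iff.mp (hPU hg).2 z).mp hz) (inv_mem hz)⟩

end Cfsg.Agent.Lib.SubnBlock
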